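import Mathlib
import Cfsg.Agent.Lib.Helper75.NumMinMax
import Cfsg.Agent.Lib.Helper77.IdemTrace

/-!
# Counting blocks of a given defect

`card_le_of_congr_one`: a rectangular matrix identity `A * W ≡ 1` modulo the local ideal forces
the number of rows of `A` to be at most its number of columns.
`card_blocks_le`: the number of `p`-blocks of defect `σ` is at most the number of `p`-regular
classes of defect `σ`.
-/

set_option autoImplicit false

namespace Cfsg.Agent.Lib.Helper75.DefectCount

open Cfsg Cfsg.Agent.Lib.Helper77.LocalRing Cfsg.Agent.Lib.CT.Wedderburn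
  Cfsg.Agent.Lib.Helper77.BlockIdem Cfsg.Agent.Lib.CT.DefectZeroBlock
  Cfsg.Agent.Lib.Helper75.NumMinMax

universe u
variable {G : Type u} [Group G]

theorem card_le_of_congr_one {M : Ideal AlgInt} {X Y : Type*} [Fintype X] [Fintype Y]
    [DecidableEq X] (hMp : M.IsPrime) (A : Matrix X Y ℂ) (W : Matrix Y X ℂ)
    (h : ∀ i j, MemLocalIdeal M ((A * W) i j - (1 : Matrix X X ℂ) i j)) :
    Fintype.card X ≤ Fintype.card Y := by
  classical
  have hdet := Cfsg.Agent.Lib.Helper77.IdemTrace.det_one_add_sub_one hMp (A * W - 1) h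
  rw [add_sub_cancel] at hdet
  have hne : (A * W).det ≠ 0 := by
    intro h0
    rw [h0, zero_sub] at hdet
    exact not_memLocalIdeal_one hMp (memLocalIdeal_neg_iff.mp hdet)
  have hunit : IsUnit (A * W) := (Matrix.isUnit_iff_isUnit_det _).mpr (isUnit_iff_ne_zero.mpr hne)
  calc Fintype.card X = (A * W).rank := (Matrix.rank_of_isUnit _ hunit).symm
    _ ≤ A.rank := Matrix.rank_mul_le_left A W
    _ ≤ Fintype.card Y := Matrix.rank_le_card_width A

theorem card_centralizer_eq_of_isConj {g h : G} (hc : IsConj g h) :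
    Nat.card (Subgroup.centralizer ({g} : Set G)) =
      Nat.card (Subgroup.centralizer ({h} : Set G)) := by
  obtain ⟨x, rfl⟩ := isConj_iff.mp hc
  refine Nat.card_congr ⟨fun z => ⟨x * z * x⁻¹, ?_⟩, fun w => ⟨x⁻¹ * w * x, ?_⟩, ?_, ?_⟩
  · have hz := z.2
    rw [Subgroup.mem_centralizer_iff] at hz ⊢
    intro k hk
    rw [Set.mem_singleton_iff] at hk
    subst hk
    have h1 := hz g rfl
    calc x * g * x⁻¹ * (x * ↑z * x⁻¹) = x * (g * ↑z) * x⁻¹ := by group
      _ = x * (↑z * g) * x⁻¹ := by rw [h1]
      _ = x * ↑z * x⁻¹ * (x * g * x⁻¹) := by group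
  · have hw := w.2
    rw [Subgroup.mem_centralizer_iff] at hw ⊢
    intro k hk
    rw [Set.mem_singleton_iff] at hk
    subst hk
    have h1 := hw (x * k * x⁻¹) rfl
    calc k * (x⁻¹ * ↑w * x) = x⁻¹ * (x * k * x⁻¹ * ↑w) * x := by group
      _ = x⁻¹ * (↑w * (x * k * x⁻¹)) * x := by rw [h1]
      _ = x⁻¹ * ↑w * x * k := by group
  · intro z
    ext
    simp only
    group
  · intro w
    ext
    simp only
    group

theorem orderOf_eq_of_isConj' {g h : G} (hc : IsConj g h) : orderOf g = orderOf h := by
  obtain ⟨x, rfl⟩ := isConj_iff.mp hc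
  exact (orderOf_injective (MulAut.conj x).toMonoidHom (MulAut.conj x).injective g).symm

/-- The number of `p`-blocks of defect `σ` is at most the number of `p`-regular conjugacy classes
of defect `σ`. -/
theorem card_blocks_le [Finite G] (p : ℕ) [Fact p.Prime] (M : Ideal AlgInt)
    (hM : IsPModular p M) (σ : ℕ) :
    Nat.card {B : Set (IrrCharacter G) // IsPBlock M B ∧ blockDefect p B = σ} ≤
      Nat.card {C : ConjClasses G // ∃ g : G, ConjClasses.mk g = C ∧ ¬ p ∣ orderOf g ∧
        (Nat.card (Subgroup.centralizer ({g} : Set G))).factorization p = σ} := by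
  classical
  have := Fintype.ofFinite G
  have := finite_irrCharacter G
  have hMp := isPrime_of_isPModular hM
  have : Fintype {B : Set (IrrCharacter G) // IsPBlock M B ∧ blockDefect p B = σ} :=
    Fintype.ofFinite _
  have : Fintype {C : ConjClasses G // ∃ g : G, ConjClasses.mk g = C ∧ ¬ p ∣ orderOf g ∧
        (Nat.card (Subgroup.centralizer ({g} : Set G))).factorization p = σ} :=
    Fintype.ofFinite _
  rw [Nat.card_eq_fintype_card, Nat.card_eq_fintype_card]
  have hex : ∀ B : {B : Set (IrrCharacter G) // IsPBlock M B ∧ blockDefect p B = σ},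
      ∃ χ : IrrCharacter G, χ ∈ B.1 := fun B => isPBlock_nonempty hMp B.2.1
  choose rep hrep using hex
  set A : Matrix {B : Set (IrrCharacter G) // IsPBlock M B ∧ blockDefect p B = σ}
      {C : ConjClasses G // ∃ g : G, ConjClasses.mk g = C ∧ ¬ p ∣ orderOf g ∧
        (Nat.card (Subgroup.centralizer ({g} : Set G))).factorization p = σ} ℂ :=
    fun B C => blockCoeff B.1 C.1.out with hA
  set W : Matrix {C : ConjClasses G // ∃ g : G, ConjClasses.mk g = C ∧ ¬ p ∣ orderOf g ∧
        (Nat.card (Subgroup.centralizer ({g} : Set G))).factorization p = σ}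
      {B : Set (IrrCharacter G) // IsPBlock M B ∧ blockDefect p B = σ} ℂ :=
    fun C B => centralChar (rep B : G → ℂ) C.1.out with hW
  refine card_le_of_congr_one hMp A W ?_
  intro B B'
  have hdef : blockDefect p (blockOf M (rep B' : G → ℂ)) = blockDefect p B.1 := by
    rw [← eq_blockOf_of_mem hMp B'.2.1 (hrep B'), B'.2.2, B.2.2]
  have h := sum_defect_classes p M hM B.1 B.2.1 (rep B') hdef
  have hiff : (rep B' ∈ B.1) ↔ B = B' := by
    constructor
    · intro hmem
      apply Subtype.ext
      rw [eq_blockOf_of_mem hMp B.2.1 hmem, eq_blockOf_of_mem hMp B'.2.1 (hrep B')]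
    · rintro rfl
      exact hrep B
  have hPQ : ∀ c : ConjClasses G, c ∈ Finset.univ.filter (fun c : ConjClasses G =>
      ¬ p ∣ orderOf c.out ∧
        (Nat.card (Subgroup.centralizer ({c.out} : Set G))).factorization p =
          blockDefect p B.1) ↔
      ∃ g : G, ConjClasses.mk g = c ∧ ¬ p ∣ orderOf g ∧
        (Nat.card (Subgroup.centralizer ({g} : Set G))).factorization p = σ := by
    intro c
    rw [Finset.mem_filter]
    constructor
    · rintro ⟨-, h1, h2⟩
      exact ⟨c.out, Quotient.out_eq c, h1, h2.trans B.2.2⟩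
    · rintro ⟨g, hg, h1, h2⟩
      have hc : IsConj c.out g :=
        ConjClasses.mk_eq_mk_iff_isConj.mp ((Quotient.out_eq c).trans hg.symm)
      refine ⟨Finset.mem_univ _, ?_, ?_⟩
      · rwa [orderOf_eq_of_isConj' hc]
      · rw [card_centralizer_eq_of_isConj hc, h2, B.2.2]
  have hsum : (∑ c : ConjClasses G,
      if (¬ p ∣ orderOf c.out ∧
          (Nat.card (Subgroup.centralizer ({c.out} : Set G))).factorization p =
            blockDefect p B.1) then
        blockCoeff B.1 c.out * centralChar (rep B' : G → ℂ) c.out else 0) =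
      (A * W) B B' := by
    rw [Matrix.mul_apply, ← Finset.sum_filter]
    exact Finset.sum_subtype _ hPQ
      (fun c => blockCoeff B.1 c.out * centralChar (rep B' : G → ℂ) c.out)
  rw [hsum] at h
  have h2 := memLocalIdeal_sub_comm h
  rw [Matrix.one_apply]
  convert h2 using 2
  by_cases hBB : B = B'
  · rw [if_pos hBB, if_pos (hiff.mpr hBB)]
  · rw [if_neg hBB, if_neg (fun hm => hBB (hiff.mp hm))]

end Cfsg.Agent.Lib.Helper75.DefectCount
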