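import Mathlib
import Cfsg.Agent.Lib.Helper75.NumMinMax
import Cfsg.Agent.Lib.Helper75.DefectCount
import Cfsg.Agent.Lib.Helper77.IdemTrace
import Cfsg.Agent.Lib.Helper16.MinMax
import Cfsg.Agent.Lib.CT.Ops

/-!
# Real `2`-blocks of full defect

A `2`-block of full defect which is closed under complex conjugation is the principal block
(Brauer).  The proof pairs the conjugacy classes with their inverses in the class-sum expansion
of `ω(e_B)`.
-/

set_option autoImplicit false

namespace Cfsg.Agent.Lib.Helper75.RealBlock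

open Cfsg Cfsg.Agent.Lib.Helper77.LocalRing Cfsg.Agent.Lib.CT.Wedderburn
  Cfsg.Agent.Lib.Helper77.BlockIdem Cfsg.Agent.Lib.Helper77.CentralChar
  Cfsg.Agent.Lib.CT.DefectZeroBlock Cfsg.Agent.Lib.Helper77.IdemTrace
  Cfsg.Agent.Lib.Helper75.NumMinMax
open scoped ComplexConjugate

universe u
variable {G : Type u} [Group G]

/-- A sum of local integers over a type with an involution `τ`, the summand being `τ`-invariant
modulo the local ideal (at a prime over `2`) and in the local ideal at the fixed points other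
than `a₀`, is congruent to the summand at `a₀`. -/
theorem sum_involution_mem {M : Ideal AlgInt} (hM : IsPModular 2 M) {α : Type*} [Fintype α]
    [DecidableEq α] (τ : α → α) (hτ : ∀ a, τ (τ a) = a) (F : α → ℂ)
    (hF : ∀ a, MemLocalRing M (F a)) (h1 : ∀ a, MemLocalIdeal M (F (τ a) - F a)) (a₀ : α)
    (ha₀ : τ a₀ = a₀) (h2 : ∀ a, τ a = a → a ≠ a₀ → MemLocalIdeal M (F a)) :
    MemLocalIdeal M (∑ a, F a - F a₀) := by
  have hMp := isPrime_of_isPModular hM
  set F' : α → localSubring M hMp := fun a => ⟨F a, (mem_localSubring hMp).mpr (hF a)⟩ with hF'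
  have h2I : MemLocalIdeal M (2 : ℂ) := by
    have := memLocalIdeal_natCast_of_dvd hM (dvd_refl 2)
    simpa using this
  have hsum : ∑ a ∈ Finset.univ.erase a₀, Ideal.Quotient.mk (localIdeal hMp) (F' a) = 0 := by
    refine Finset.sum_involution (fun a _ => τ a) ?_ ?_ ?_ ?_
    · intro a _
      rw [← map_add, Ideal.Quotient.eq_zero_iff_mem, mem_localIdeal]
      have h3 : ((F' a + F' (τ a) : localSubring M hMp) : ℂ) = 2 * F a + (F (τ a) - F a) := by
        rw [Subring.coe_add]
        simp only [hF']
        ring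
      rw [h3]
      exact memLocalIdeal_add hMp (memLocalIdeal_mul_right hMp h2I (hF a)) (h1 a)
    · intro a ha hne hfix
      apply hne
      exact Ideal.Quotient.eq_zero_iff_mem.mpr (h2 a hfix (Finset.ne_of_mem_erase ha))
    · intro a ha
      rw [Finset.mem_erase] at ha ⊢
      refine ⟨fun h => ha.1 ?_, Finset.mem_univ _⟩
      rw [← hτ a, h, ha₀]
    · intro a _
      exact hτ a
  have h3 : (∑ a ∈ Finset.univ.erase a₀, F' a) ∈ localIdeal hMp := by
    rw [← Ideal.Quotient.eq_zero_iff_mem, map_sum]
    exact hsum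
  have h4 := (mem_localIdeal hMp _).mp h3
  rw [← Finset.add_sum_erase Finset.univ F (Finset.mem_univ a₀), add_sub_cancel_left]
  convert h4 using 1
  rw [AddSubmonoidClass.coe_finsetSum]

/-- A nontrivial element of odd order conjugate to its inverse has a class of even size. -/
theorem two_dvd_index_of_isConj_inv [Finite G] (g : G) (hodd : ¬ 2 ∣ orderOf g) (hg1 : g ≠ 1)
    (hc : IsConj g g⁻¹) : 2 ∣ (Subgroup.centralizer ({g} : Set G)).index := by
  classical
  have := Fintype.ofFinite G
  rw [← Cfsg.Agent.Lib.Helper77.ClassSum.card_conj_eq_index g]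
  have hsum : ∑ _z ∈ Finset.univ.filter (fun x : G => IsConj g x), (1 : ZMod 2) = 0 := by
    refine Finset.sum_involution (fun z _ => z⁻¹) ?_ ?_ ?_ ?_
    · intro z _
      decide
    · intro z hz _ hfix
      rw [Finset.mem_filter] at hz
      have hzz : z ^ 2 = 1 := by
        rw [pow_two]
        nth_rewrite 1 [← hfix]
        exact inv_mul_cancel z
      have hord : orderOf g = orderOf z :=
        Cfsg.Agent.Lib.Helper75.DefectCount.orderOf_eq_of_isConj' hz.2
      have hdvd : orderOf z ∣ 2 := orderOf_dvd_of_pow_eq_one hzz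
      have h1 : orderOf z = 1 := by
        rcases (Nat.dvd_prime Nat.prime_two).mp hdvd with h | h
        · exact h
        · exact absurd (by rw [hord, h]) hodd
      rw [orderOf_eq_one_iff] at h1
      rw [h1] at hz
      exact hg1 (isConj_one_left.mp hz.2)
    · intro z hz
      rw [Finset.mem_filter] at hz ⊢
      refine ⟨Finset.mem_univ _, hc.trans ?_⟩
      obtain ⟨c, hcz⟩ := isConj_iff.mp hz.2
      exact isConj_iff.mpr ⟨c, by rw [← hcz, conj_inv]⟩
    · intro z _
      exact inv_inv z
  rw [Finset.sum_const, nsmul_one] at hsum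
  exact (ZMod.natCast_eq_zero_iff _ 2).mp hsum

/-- The complex conjugate of an irreducible character. -/
noncomputable def cbar (χ : IrrCharacter G) : IrrCharacter G :=
  ⟨fun g => (χ : G → ℂ) g⁻¹, Cfsg.Agent.Lib.CT.Ops.isIrrCharacter_inv_arg χ.2⟩

theorem cbar_apply (χ : IrrCharacter G) (g : G) : (cbar χ : G → ℂ) g = (χ : G → ℂ) g⁻¹ := rfl

theorem cbar_injective : Function.Injective (cbar (G := G)) := by
  intro χ ψ h
  apply Subtype.ext
  funext g
  have := congrFun (congrArg Subtype.val h) g⁻¹
  simpa [cbar] using this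

theorem image_cbar [Finite G] (B : Set (IrrCharacter G)) :
    cbar '' B = {ψ : IrrCharacter G | ∃ χ ∈ B, (ψ : G → ℂ) = fun g => conj ((χ : G → ℂ) g)} := by
  ext ψ
  constructor
  · rintro ⟨χ, hχ, rfl⟩
    refine ⟨χ, hχ, ?_⟩
    funext g
    rw [cbar_apply, char_apply_inv (isCharacter_of_irr χ.2)]
  · rintro ⟨χ, hχ, h⟩
    refine ⟨χ, hχ, Subtype.ext ?_⟩
    rw [h]
    funext g
    rw [cbar_apply, char_apply_inv (isCharacter_of_irr χ.2)]

/-- The idempotent coefficients of a block closed under complex conjugation are invariant under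
inversion. -/
theorem blockCoeff_inv_of_real [Finite G] (B : Set (IrrCharacter G)) (hreal : cbar '' B = B)
    (g : G) : blockCoeff B g⁻¹ = blockCoeff B g := by
  unfold blockCoeff
  congr 1
  conv_rhs => rw [← hreal]
  rw [finsum_mem_image (cbar_injective.injOn)]
  refine finsum_mem_congr rfl fun χ _ => ?_
  rw [cbar_apply, cbar_apply, inv_one]

theorem centralizer_inv (g : G) :
    Subgroup.centralizer ({g⁻¹} : Set G) = Subgroup.centralizer ({g} : Set G) := by
  ext z
  simp only [Subgroup.mem_centralizer_iff, Set.mem_singleton_iff, forall_eq]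
  constructor
  · intro h
    have : Commute g⁻¹ z := h
    exact (Commute.inv_left_iff.mp this)
  · intro h
    have : Commute g z := h
    exact (Commute.inv_left_iff.mpr this)

theorem centralChar_inv (φ : IrrCharacter G) (g : G) :
    centralChar (φ : G → ℂ) g⁻¹ = centralChar (cbar φ : G → ℂ) g := by
  unfold centralChar
  rw [centralizer_inv, cbar_apply, cbar_apply, inv_one]

open Classical in
/-- For a `2`-block `B` with inversion-invariant idempotent coefficients and an irreducible `φ`
whose central character is inversion-invariant modulo the local ideal and lies in the local ideal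
at the classes of even size, `ω_φ(e_B)` is congruent to the coefficient of `e_B` at `1`. -/
theorem omega_blockIdem_sub_coeff_one [Fintype G] {M : Ideal AlgInt} (hM : IsPModular 2 M)
    (B : Set (IrrCharacter G)) (hB : IsPBlock M B)
    (hBinv : ∀ g, blockCoeff B g⁻¹ = blockCoeff B g) (φ : IrrCharacter G)
    (hφ1 : ∀ x, MemLocalIdeal M (centralChar (φ : G → ℂ) x⁻¹ - centralChar (φ : G → ℂ) x))
    (hφ2 : ∀ x, 2 ∣ (Subgroup.centralizer ({x} : Set G)).index →
      MemLocalIdeal M (centralChar (φ : G → ℂ) x)) :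
    MemLocalIdeal M (omega (φ : G → ℂ) (blockIdem B) - blockCoeff B 1) := by
  have hMp := isPrime_of_isPModular hM
  have : Fact (Nat.Prime 2) := ⟨Nat.prime_two⟩
  rw [omega_eq_sum_classes φ _ (blockIdem_mem_center B)]
  have hout : ∀ g : G, IsConj (ConjClasses.mk g).out g := fun g =>
    ConjClasses.mk_eq_mk_iff_isConj.mp (Quotient.out_eq _)
  set τ : ConjClasses G → ConjClasses G := fun c => ConjClasses.mk (c.out)⁻¹ with hτdef
  have hτ : ∀ c, τ (τ c) = c := by
    intro c
    have h1 : IsConj (ConjClasses.mk (c.out)⁻¹).out (c.out)⁻¹ := hout _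
    have h2 : IsConj ((ConjClasses.mk (c.out)⁻¹).out)⁻¹ c.out := by
      obtain ⟨x, hx⟩ := isConj_iff.mp h1
      exact isConj_iff.mpr ⟨x, by rw [← conj_inv, hx, inv_inv]⟩
    show ConjClasses.mk ((ConjClasses.mk (c.out)⁻¹).out)⁻¹ = c
    rw [ConjClasses.mk_eq_mk_iff_isConj.mpr h2]
    exact Quotient.out_eq c
  set a₀ : ConjClasses G := ConjClasses.mk 1 with ha₀def
  have hout1 : a₀.out = 1 := isConj_one_left.mp (hout 1)
  have ha₀ : τ a₀ = a₀ := by
    show ConjClasses.mk (a₀.out)⁻¹ = a₀
    rw [hout1, inv_one]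
  have hcoeffR : ∀ g : G, MemLocalRing M (blockCoeff B g) :=
    blockCoeff_memLocalRing 2 M hM B hB
  have hωR : ∀ g : G, MemLocalRing M (centralChar (φ : G → ℂ) g) := fun g =>
    memLocalRing_of_isIntegral hMp
      (Cfsg.Agent.Lib.Helper80.Integrality.isIntegral_centralChar φ _)
  have key := sum_involution_mem hM τ hτ
    (fun c => blockCoeff B c.out * centralChar (φ : G → ℂ) c.out)
    (fun c => memLocalRing_mul hMp (hcoeffR _) (hωR _)) (by
      intro c
      have hc' : IsConj (τ c).out (c.out)⁻¹ := hout _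
      show MemLocalIdeal M (blockCoeff B (τ c).out * centralChar (φ : G → ℂ) (τ c).out -
        blockCoeff B c.out * centralChar (φ : G → ℂ) c.out)
      rw [← Cfsg.Agent.Lib.Helper16.MinMax.blockCoeff_eq_of_isConj B hc',
        ← Cfsg.Agent.Lib.Helper16.MinMax.centralChar_eq_of_isConj φ hc', hBinv, ← mul_sub]
      exact memLocalIdeal_mul_left hMp (hcoeffR _) (hφ1 _)) a₀ ha₀ (by
      intro c hfix hne
      show MemLocalIdeal M (blockCoeff B c.out * centralChar (φ : G → ℂ) c.out)
      have hg1 : c.out ≠ 1 := by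
        intro h1
        apply hne
        rw [ha₀def, ← h1]
        exact (Quotient.out_eq c).symm
      have hconj : IsConj c.out (c.out)⁻¹ := by
        have h3 : ConjClasses.mk (c.out)⁻¹ = ConjClasses.mk c.out := by
          rw [show ConjClasses.mk c.out = c from Quotient.out_eq c]
          exact hfix
        exact (ConjClasses.mk_eq_mk_iff_isConj.mp h3).symm
      by_cases hsing : 2 ∣ orderOf c.out
      · rw [Cfsg.Agent.Lib.Helper77.OsimaVanish.blockCoeff_eq_zero_of_singular 2 M hM B hB _ hsing,
          zero_mul]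
        exact memLocalIdeal_zero hMp
      · exact memLocalIdeal_mul_left hMp (hcoeffR _)
          (hφ2 _ (two_dvd_index_of_isConj_inv _ hsing hg1 hconj)))
  have hF0 : blockCoeff B a₀.out * centralChar (φ : G → ℂ) a₀.out = blockCoeff B 1 := by
    rw [hout1]
    have h1 : centralChar (φ : G → ℂ) 1 = 1 := by
      unfold centralChar
      have htop : Subgroup.centralizer ({1} : Set G) = ⊤ := by
        ext z
        simp [Subgroup.mem_centralizer_iff]
      rw [htop, Subgroup.index_top, Nat.cast_one, one_mul, div_self (irr_one_ne_zero φ.2)]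
    rw [h1, mul_one]
  simp only [hF0] at key
  exact key

/-- **Brauer.** A `2`-block of full defect that is closed under complex conjugation is the
principal block. -/
theorem eq_principalBlock_of_real [Finite G] (M : Ideal AlgInt) (hM : IsPModular 2 M)
    (B : Set (IrrCharacter G)) (hB : IsPBlock M B) (P : Sylow 2 G)
    (hfull : IsDefectGroup 2 M B (P : Subgroup G))
    (hreal : {ψ : IrrCharacter G | ∃ χ ∈ B, (ψ : G → ℂ) = fun g => conj ((χ : G → ℂ) g)} = B) :
    B = principalBlock M G := by
  classical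
  have := Fintype.ofFinite G
  have : Fact (Nat.Prime 2) := ⟨Nat.prime_two⟩
  have hMp := isPrime_of_isPModular hM
  have hreal' : cbar '' B = B := by rw [image_cbar]; exact hreal
  obtain ⟨g₀, hg₀, P₀, hP₀⟩ := hfull
  have hcard : (Nat.card (Subgroup.centralizer ({g₀} : Set G))).factorization 2 =
      (Nat.card G).factorization 2 := by
    have h1 : Nat.card (P : Subgroup G) =
        Nat.card (P₀ : Subgroup (Subgroup.centralizer ({g₀} : Set G))) := by
      rw [hP₀, Subgroup.card_map_of_injective (Subgroup.subtype_injective _)]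
    rw [P.card_eq_multiplicity, P₀.card_eq_multiplicity] at h1
    exact (Nat.pow_right_injective (le_refl 2) h1).symm
  have hdef : blockDefect 2 B = (Nat.card G).factorization 2 := by
    have h1 : ¬ blockDefect 2 B <
        (Nat.card (Subgroup.centralizer ({g₀} : Set G))).factorization 2 := fun h =>
      hg₀.2.1 (memLocalIdeal_blockCoeff_of_lt 2 M hM B hB g₀ h)
    have h2 : blockDefect 2 B ≤ (Nat.card G).factorization 2 := by
      unfold blockDefect
      exact Nat.sub_le _ _
    omega
  have heven : ∀ χ ∈ B, ∀ x : G, 2 ∣ (Subgroup.centralizer ({x} : Set G)).index →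
      MemLocalIdeal M (centralChar (χ : G → ℂ) x) := by
    intro χ hχ x hx
    refine memLocalIdeal_centralChar_of_lt 2 M hM B hB χ hχ x ?_
    rw [hdef]
    have h1 := congrArg (fun f => f 2) (Nat.factorization_mul
      (Nat.card_pos (α := Subgroup.centralizer ({x} : Set G))).ne'
      (Subgroup.index_ne_zero_of_finite (H := Subgroup.centralizer ({x} : Set G))))
    simp only [Finsupp.coe_add, Pi.add_apply] at h1
    rw [Subgroup.card_mul_index] at h1
    have h2 : 1 ≤ (Subgroup.centralizer ({x} : Set G)).index.factorization 2 :=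
      (Nat.Prime.dvd_iff_one_le_factorization Nat.prime_two
        Subgroup.index_ne_zero_of_finite).mp hx
    omega
  obtain ⟨χ₀, hχ₀⟩ := isPBlock_nonempty hMp hB
  obtain ⟨t, ht⟩ : ∃ t : IrrCharacter G, (t : G → ℂ) = fun _ => 1 :=
    ⟨⟨_, Cfsg.Agent.Lib.CT.Ops.isIrrCharacter_one⟩, rfl⟩
  have hBinv := blockCoeff_inv_of_real B hreal'
  have hχ1 : ∀ x, MemLocalIdeal M
      (centralChar (χ₀ : G → ℂ) x⁻¹ - centralChar (χ₀ : G → ℂ) x) := by
    intro x
    rw [centralChar_inv]
    have hmem : cbar χ₀ ∈ B := by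
      rw [← hreal']
      exact ⟨χ₀, hχ₀, rfl⟩
    have hsame : SameBlock M (χ₀ : G → ℂ) (cbar χ₀ : G → ℂ) := by
      have h := eq_blockOf_of_mem hMp hB hχ₀
      rw [h] at hmem
      exact hmem
    exact memLocalIdeal_sub_comm (hsame x)
  have ht1 : ∀ x, MemLocalIdeal M
      (centralChar (t : G → ℂ) x⁻¹ - centralChar (t : G → ℂ) x) := by
    intro x
    rw [centralChar_inv]
    have h : (cbar t : G → ℂ) = (t : G → ℂ) := by
      funext g
      rw [cbar_apply, ht]
    rw [h, sub_self]
    exact memLocalIdeal_zero hMp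
  have ht2 : ∀ x, 2 ∣ (Subgroup.centralizer ({x} : Set G)).index →
      MemLocalIdeal M (centralChar (t : G → ℂ) x) := by
    intro x hx
    have h : centralChar (t : G → ℂ) x = ((Subgroup.centralizer ({x} : Set G)).index : ℂ) := by
      simp [centralChar, ht]
    rw [h]
    exact memLocalIdeal_natCast_of_dvd hM hx
  have h1 := omega_blockIdem_sub_coeff_one hM B hB hBinv χ₀ hχ1 (heven χ₀ hχ₀)
  have h2 := omega_blockIdem_sub_coeff_one hM B hB hBinv t ht1 ht2
  rw [omega_blockIdem, if_pos hχ₀] at h1
  rw [omega_blockIdem] at h2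
  by_cases htB : t ∈ B
  · have h3 := eq_blockOf_of_mem hMp hB htB
    rw [ht] at h3
    exact h3
  · rw [if_neg htB, zero_sub] at h2
    have h3 := memLocalIdeal_sub hMp h1 h2
    rw [sub_neg_eq_add, sub_add_cancel] at h3
    exact absurd h3 (not_memLocalIdeal_one hMp)

end Cfsg.Agent.Lib.Helper75.RealBlock
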