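import Mathlib
import Cfsg.Agent.Lib.Helper75.RealBlock
import Cfsg.Agent.Lib.Helper76.GaloisConj

/-!
# `2`-blocks of full defect stable under a Galois automorphism inverting odd roots of unity

A `2`-block of full defect which is stable under `χ ↦ χ ∘ (· ^ k)`, where `g ^ k = g⁻¹` for all
elements `g` of odd order, is the principal block.
-/

set_option autoImplicit false

namespace Cfsg.Agent.Lib.Helper75.RealBlock2

open Cfsg Cfsg.Agent.Lib.Helper77.LocalRing Cfsg.Agent.Lib.CT.Wedderburn
  Cfsg.Agent.Lib.Helper77.BlockIdem Cfsg.Agent.Lib.Helper77.CentralChar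
  Cfsg.Agent.Lib.CT.DefectZeroBlock Cfsg.Agent.Lib.Helper77.IdemTrace
  Cfsg.Agent.Lib.Helper75.NumMinMax Cfsg.Agent.Lib.Helper75.RealBlock
open scoped ComplexConjugate

universe u
variable {G : Type u} [Group G]

open Classical in
/-- Variant of `RealBlock.omega_blockIdem_sub_coeff_one` where the inversion invariance is only
required at the elements of odd order. -/
theorem omega_blockIdem_sub_coeff_one' [Fintype G] {M : Ideal AlgInt} (hM : IsPModular 2 M)
    (B : Set (IrrCharacter G)) (hB : IsPBlock M B)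
    (hBinv : ∀ g, ¬ 2 ∣ orderOf g → blockCoeff B g⁻¹ = blockCoeff B g) (φ : IrrCharacter G)
    (hφ1 : ∀ x, ¬ 2 ∣ orderOf x →
      MemLocalIdeal M (centralChar (φ : G → ℂ) x⁻¹ - centralChar (φ : G → ℂ) x))
    (hφ2 : ∀ x, 2 ∣ (Subgroup.centralizer ({x} : Set G)).index →
      MemLocalIdeal M (centralChar (φ : G → ℂ) x)) :
    MemLocalIdeal M (omega (φ : G → ℂ) (blockIdem B) - blockCoeff B 1) := by
  have hMp := isPrime_of_isPModular hM
  have : Fact (Nat.Prime 2) := ⟨Nat.prime_two⟩
  rw [omega_eq_sum_classes φ _ (blockIdem_mem_center B)]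
  have hout : ∀ g : G, IsConj (ConjClasses.mk g).out g := fun g =>
    ConjClasses.mk_eq_mk_iff_isConj.mp (Quotient.out_eq _)
  set τ : ConjClasses G → ConjClasses G := fun c => ConjClasses.mk (c.out)⁻¹ with hτdef
  have hτ : ∀ c, τ (τ c) = c := by
    intro c
    have h1 : IsConj (ConjClasses.mk (c.out)⁻¹).out (c.out)⁻¹ := hout _
    have h2 : IsConj ((ConjClasses.mk (c.out)⁻¹).out)⁻¹ c.out := by
      obtain ⟨x, hx⟩ := isConj_iff.mp h1
      exact isConj_iff.mpr ⟨x, by rw [← conj_inv, hx, inv_inv]⟩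
    show ConjClasses.mk ((ConjClasses.mk (c.out)⁻¹).out)⁻¹ = c
    rw [ConjClasses.mk_eq_mk_iff_isConj.mpr h2]
    exact Quotient.out_eq c
  set a₀ : ConjClasses G := ConjClasses.mk 1 with ha₀def
  have hout1 : a₀.out = 1 := isConj_one_left.mp (hout 1)
  have ha₀ : τ a₀ = a₀ := by
    show ConjClasses.mk (a₀.out)⁻¹ = a₀
    rw [hout1, inv_one]
  have hcoeffR : ∀ g : G, MemLocalRing M (blockCoeff B g) :=
    blockCoeff_memLocalRing 2 M hM B hB
  have hωR : ∀ g : G, MemLocalRing M (centralChar (φ : G → ℂ) g) := fun g =>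
    memLocalRing_of_isIntegral hMp
      (Cfsg.Agent.Lib.Helper80.Integrality.isIntegral_centralChar φ _)
  have key := sum_involution_mem hM τ hτ
    (fun c => blockCoeff B c.out * centralChar (φ : G → ℂ) c.out)
    (fun c => memLocalRing_mul hMp (hcoeffR _) (hωR _)) (by
      intro c
      have hc' : IsConj (τ c).out (c.out)⁻¹ := hout _
      show MemLocalIdeal M (blockCoeff B (τ c).out * centralChar (φ : G → ℂ) (τ c).out -
        blockCoeff B c.out * centralChar (φ : G → ℂ) c.out)
      rw [← Cfsg.Agent.Lib.Helper16.MinMax.blockCoeff_eq_of_isConj B hc',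
        ← Cfsg.Agent.Lib.Helper16.MinMax.centralChar_eq_of_isConj φ hc']
      by_cases hsing : 2 ∣ orderOf c.out
      · rw [Cfsg.Agent.Lib.Helper77.OsimaVanish.blockCoeff_eq_zero_of_singular 2 M hM B hB _
            hsing,
          Cfsg.Agent.Lib.Helper77.OsimaVanish.blockCoeff_eq_zero_of_singular 2 M hM B hB
            (c.out)⁻¹ (by rw [orderOf_inv]; exact hsing), zero_mul, zero_mul, sub_self]
        exact memLocalIdeal_zero hMp
      · rw [hBinv _ hsing, ← mul_sub]
        exact memLocalIdeal_mul_left hMp (hcoeffR _) (hφ1 _ hsing)) a₀ ha₀ (by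
      intro c hfix hne
      show MemLocalIdeal M (blockCoeff B c.out * centralChar (φ : G → ℂ) c.out)
      have hg1 : c.out ≠ 1 := by
        intro h1
        apply hne
        rw [ha₀def, ← h1]
        exact (Quotient.out_eq c).symm
      have hconj : IsConj c.out (c.out)⁻¹ := by
        have h3 : ConjClasses.mk (c.out)⁻¹ = ConjClasses.mk c.out := by
          rw [show ConjClasses.mk c.out = c from Quotient.out_eq c]
          exact hfix
        exact (ConjClasses.mk_eq_mk_iff_isConj.mp h3).symm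
      by_cases hsing : 2 ∣ orderOf c.out
      · rw [Cfsg.Agent.Lib.Helper77.OsimaVanish.blockCoeff_eq_zero_of_singular 2 M hM B hB _ hsing,
          zero_mul]
        exact memLocalIdeal_zero hMp
      · exact memLocalIdeal_mul_left hMp (hcoeffR _)
          (hφ2 _ (two_dvd_index_of_isConj_inv _ hsing hg1 hconj)))
  have hF0 : blockCoeff B a₀.out * centralChar (φ : G → ℂ) a₀.out = blockCoeff B 1 := by
    rw [hout1]
    have h1 : centralChar (φ : G → ℂ) 1 = 1 := by
      unfold centralChar
      have htop : Subgroup.centralizer ({1} : Set G) = ⊤ := by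
        ext z
        simp [Subgroup.mem_centralizer_iff]
      rw [htop, Subgroup.index_top, Nat.cast_one, one_mul, div_self (irr_one_ne_zero φ.2)]
    rw [h1, mul_one]
  simp only [hF0] at key
  exact key

/-- Composition of an irreducible character with the `k`-th power map, `k` coprime to `|G|`. -/
noncomputable def pk [Finite G] (k : ℕ) (hk : k.Coprime (Nat.card G)) (χ : IrrCharacter G) :
    IrrCharacter G :=
  ⟨fun g => (χ : G → ℂ) (g ^ k), Cfsg.Agent.Lib.Helper76.GaloisConj.isIrrCharacter_pow χ.2 k hk⟩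

theorem pk_apply [Finite G] (k : ℕ) (hk : k.Coprime (Nat.card G)) (χ : IrrCharacter G) (g : G) :
    (pk k hk χ : G → ℂ) g = (χ : G → ℂ) (g ^ k) := rfl

theorem pk_injective [Finite G] (k : ℕ) (hk : k.Coprime (Nat.card G)) :
    Function.Injective (pk (G := G) k hk) := by
  intro χ ψ h
  apply Subtype.ext
  funext g
  obtain ⟨g', rfl⟩ := (powCoprime hk.symm).surjective g
  have := congrFun (congrArg Subtype.val h) g'
  simpa [pk] using this

/-- A set of irreducible characters stable under the `k`-th power map has idempotent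
coefficients invariant under `g ↦ g ^ k`. -/
theorem blockCoeff_pow_of_stable [Finite G] (k : ℕ) (hk : k.Coprime (Nat.card G))
    (B : Set (IrrCharacter G)) (hstab : ∀ χ ∈ B, pk k hk χ ∈ B) (g : G) :
    blockCoeff B (g ^ k) = blockCoeff B g := by
  have := finite_irrCharacter G
  have himg : pk k hk '' B = B := by
    refine Set.eq_of_subset_of_ncard_le ?_ ?_ (Set.toFinite B)
    · rintro _ ⟨χ, hχ, rfl⟩
      exact hstab χ hχ
    · rw [Set.ncard_image_of_injective _ (pk_injective k hk)]
  unfold blockCoeff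
  congr 1
  conv_rhs => rw [← himg]
  rw [finsum_mem_image ((pk_injective k hk).injOn)]
  refine finsum_mem_congr rfl fun χ _ => ?_
  rw [pk_apply, pk_apply, one_pow]

/-- A `2`-block of full defect stable under `χ ↦ χ ∘ (· ^ k)`, where `g ^ k = g⁻¹` for every
`g` of odd order, is the principal block. -/
theorem eq_principalBlock_of_stable [Finite G] (M : Ideal AlgInt) (hM : IsPModular 2 M) (k : ℕ)
    (hk : Nat.Coprime k (Nat.card G)) (hk₂ : ∀ g : G, Odd (orderOf g) → g ^ k = g⁻¹)
    (B : Set (IrrCharacter G)) (hB : IsPBlock M B)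
    (hdef : blockDefect 2 B = (Nat.card G).factorization 2)
    (hstab : ∀ χ ∈ B, ∃ ψ ∈ B, ∀ g : G, (ψ : G → ℂ) g = (χ : G → ℂ) (g ^ k)) :
    B = principalBlock M G := by
  classical
  have := Fintype.ofFinite G
  have : Fact (Nat.Prime 2) := ⟨Nat.prime_two⟩
  have hMp := isPrime_of_isPModular hM
  have hstab' : ∀ χ ∈ B, pk k hk χ ∈ B := by
    intro χ hχ
    obtain ⟨ψ, hψ, h⟩ := hstab χ hχ
    have : ψ = pk k hk χ := Subtype.ext (funext h)
    rwa [← this]
  have hodd : ∀ g : G, ¬ 2 ∣ orderOf g → g ^ k = g⁻¹ := fun g hg =>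
    hk₂ g (Nat.not_even_iff_odd.mp (fun h => hg (even_iff_two_dvd.mp h)))
  have hBinv : ∀ g, ¬ 2 ∣ orderOf g → blockCoeff B g⁻¹ = blockCoeff B g := by
    intro g hg
    rw [← hodd g hg]
    exact blockCoeff_pow_of_stable k hk B hstab' g
  have heven : ∀ χ ∈ B, ∀ x : G, 2 ∣ (Subgroup.centralizer ({x} : Set G)).index →
      MemLocalIdeal M (centralChar (χ : G → ℂ) x) := by
    intro χ hχ x hx
    refine memLocalIdeal_centralChar_of_lt 2 M hM B hB χ hχ x ?_
    rw [hdef]
    have h1 := congrArg (fun f => f 2) (Nat.factorization_mul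
      (Nat.card_pos (α := Subgroup.centralizer ({x} : Set G))).ne'
      (Subgroup.index_ne_zero_of_finite (H := Subgroup.centralizer ({x} : Set G))))
    simp only [Finsupp.coe_add, Pi.add_apply] at h1
    rw [Subgroup.card_mul_index] at h1
    have h2 : 1 ≤ (Subgroup.centralizer ({x} : Set G)).index.factorization 2 :=
      (Nat.Prime.dvd_iff_one_le_factorization Nat.prime_two
        Subgroup.index_ne_zero_of_finite).mp hx
    omega
  obtain ⟨χ₀, hχ₀⟩ := isPBlock_nonempty hMp hB
  obtain ⟨t, ht⟩ : ∃ t : IrrCharacter G, (t : G → ℂ) = fun _ => 1 :=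
    ⟨⟨_, Cfsg.Agent.Lib.CT.Ops.isIrrCharacter_one⟩, rfl⟩
  have hχ1 : ∀ x, ¬ 2 ∣ orderOf x → MemLocalIdeal M
      (centralChar (χ₀ : G → ℂ) x⁻¹ - centralChar (χ₀ : G → ℂ) x) := by
    intro x hx
    have h1 : centralChar (χ₀ : G → ℂ) x⁻¹ = centralChar (pk k hk χ₀ : G → ℂ) x := by
      unfold centralChar
      rw [centralizer_inv, pk_apply, pk_apply, one_pow, hodd x hx]
    rw [h1]
    have hmem : pk k hk χ₀ ∈ B := hstab' χ₀ hχ₀
    have hsame : SameBlock M (χ₀ : G → ℂ) (pk k hk χ₀ : G → ℂ) := by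
      have h := eq_blockOf_of_mem hMp hB hχ₀
      rw [h] at hmem
      exact hmem
    exact memLocalIdeal_sub_comm (hsame x)
  have ht1 : ∀ x, ¬ 2 ∣ orderOf x → MemLocalIdeal M
      (centralChar (t : G → ℂ) x⁻¹ - centralChar (t : G → ℂ) x) := by
    intro x _
    have h : centralChar (t : G → ℂ) x⁻¹ = centralChar (t : G → ℂ) x := by
      unfold centralChar
      rw [centralizer_inv, ht]
    rw [h, sub_self]
    exact memLocalIdeal_zero hMp
  have ht2 : ∀ x, 2 ∣ (Subgroup.centralizer ({x} : Set G)).index →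
      MemLocalIdeal M (centralChar (t : G → ℂ) x) := by
    intro x hx
    have h : centralChar (t : G → ℂ) x = ((Subgroup.centralizer ({x} : Set G)).index : ℂ) := by
      simp [centralChar, ht]
    rw [h]
    exact memLocalIdeal_natCast_of_dvd hM hx
  have h1 := omega_blockIdem_sub_coeff_one' hM B hB hBinv χ₀ hχ1 (heven χ₀ hχ₀)
  have h2 := omega_blockIdem_sub_coeff_one' hM B hB hBinv t ht1 ht2
  rw [omega_blockIdem, if_pos hχ₀] at h1
  rw [omega_blockIdem] at h2
  by_cases htB : t ∈ B
  · have h3 := eq_blockOf_of_mem hMp hB htB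
    rw [ht] at h3
    exact h3
  · rw [if_neg htB, zero_sub] at h2
    have h3 := memLocalIdeal_sub hMp h1 h2
    rw [sub_neg_eq_add, sub_add_cancel] at h3
    exact absurd h3 (not_memLocalIdeal_one hMp)

end Cfsg.Agent.Lib.Helper75.RealBlock2
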