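import Mathlib
import Cfsg.Agent.Lib.Helper75.RealBlock2

/-!
# Galois conjugation and blocks

For `k` coprime to `|G|`, the map `χ ↦ χ ∘ (· ^ k)` (Galois conjugation) sends a block to a
union of blocks: the coefficient function of the image idempotent is `g ↦ e_B(g ^ k)`, which is
again local-integral.  In particular the block of a character fixed by the map is stable.
-/

set_option autoImplicit false

namespace Cfsg.Agent.Lib.Helper75.GaloisBlock

open Cfsg Cfsg.Agent.Lib.Helper77.LocalRing Cfsg.Agent.Lib.CT.Wedderburn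
  Cfsg.Agent.Lib.Helper77.BlockIdem Cfsg.Agent.Lib.Helper77.CentralChar
  Cfsg.Agent.Lib.CT.DefectZeroBlock Cfsg.Agent.Lib.Helper75.RealBlock2
open scoped ComplexConjugate

universe u
variable {G : Type u} [Group G]

theorem blockCoeff_image_pk [Finite G] (k : ℕ) (hk : k.Coprime (Nat.card G))
    (B : Set (IrrCharacter G)) (g : G) :
    blockCoeff (pk k hk '' B) g = blockCoeff B (g ^ k) := by
  unfold blockCoeff
  congr 1
  rw [finsum_mem_image ((pk_injective k hk).injOn)]
  refine finsum_mem_congr rfl fun χ _ => ?_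
  rw [pk_apply, pk_apply, one_pow]

/-- The Galois conjugate of a block is closed under the same-block relation. -/
theorem mem_image_pk_of_sameBlock [Finite G] (p : ℕ) [Fact p.Prime] (M : Ideal AlgInt)
    (hM : IsPModular p M) (k : ℕ) (hk : k.Coprime (Nat.card G)) (B : Set (IrrCharacter G))
    (hB : IsPBlock M B) {χ ψ : IrrCharacter G} (hχ : χ ∈ pk k hk '' B)
    (h : SameBlock M (χ : G → ℂ) (ψ : G → ℂ)) : ψ ∈ pk k hk '' B := by
  classical
  have hMp := isPrime_of_isPModular hM
  have hint : blockIdem (pk k hk '' B) ∈ intSubring M hMp := by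
    intro g
    rw [coeff_blockIdem, blockCoeff_image_pk]
    exact blockCoeff_memLocalRing p M hM B hB _
  have h1 := omega_sub_mem hMp h (blockIdem (pk k hk '' B)) (blockIdem_mem_center _) hint
  rw [omega_blockIdem, omega_blockIdem, if_pos hχ] at h1
  by_contra hψ
  rw [if_neg hψ, sub_zero] at h1
  exact not_memLocalIdeal_one hMp h1

/-- The block of a character fixed by the `k`-th power map is stable under that map. -/
theorem pk_mem_blockOf_of_fixed [Finite G] (p : ℕ) [Fact p.Prime] (M : Ideal AlgInt)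
    (hM : IsPModular p M) (k : ℕ) (hk : k.Coprime (Nat.card G)) (χ : IrrCharacter G)
    (hχ : pk k hk χ = χ) :
    ∀ ψ ∈ blockOf M (χ : G → ℂ), pk k hk ψ ∈ blockOf M (χ : G → ℂ) := by
  have hMp := isPrime_of_isPModular hM
  have := finite_irrCharacter G
  set B : Set (IrrCharacter G) := blockOf M (χ : G → ℂ) with hBdef
  have hB : IsPBlock M B := isPBlock_blockOf χ
  have hχB : χ ∈ B := Cfsg.Agent.Lib.Helper77.DefectClass.self_mem_blockOf hMp χ
  have hχS : χ ∈ pk k hk '' B := ⟨χ, hχB, hχ⟩
  have hsub : B ⊆ pk k hk '' B := fun ψ hψ =>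
    mem_image_pk_of_sameBlock p M hM k hk B hB hχS hψ
  have heq : B = pk k hk '' B := by
    refine Set.eq_of_subset_of_ncard_le hsub ?_ (Set.toFinite _)
    rw [Set.ncard_image_of_injective _ (pk_injective k hk)]
  intro ψ hψ
  rw [heq]
  exact ⟨ψ, hψ, rfl⟩

end Cfsg.Agent.Lib.Helper75.GaloisBlock
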