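import Mathlib

/-!
# A normal 2-complement

A finite group whose Sylow 2-subgroups have order 4 and exponent 2 and which has a central
involution has a normal 2-complement (Burnside's transfer theorem).
-/

set_option autoImplicit false

namespace Cfsg.Agent.Lib.Helper75.TwoComp

universe u
variable {H : Type u} [Group H]

/-- With a central involution `t` in a Sylow 2-subgroup `Q` of order 4 and exponent 2, the
normalizer of `Q` centralizes `Q`. -/
theorem normalizer_le_centralizer [Finite H] (Q : Sylow 2 H) (hQ : Nat.card Q = 4)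
    (hexp : ∀ x ∈ (Q : Subgroup H), x * x = 1) (t : H) (ht1 : t ≠ 1)
    (htc : ∀ h : H, h * t = t * h) (htQ : t ∈ (Q : Subgroup H)) :
    Subgroup.normalizer ((Q : Subgroup H) : Set H) ≤
      Subgroup.centralizer ((Q : Subgroup H) : Set H) := by
  classical
  intro g hg
  rw [Subgroup.mem_centralizer_iff]
  intro a ha
  have ha' : a ∈ (Q : Subgroup H) := ha
  have hab : ∀ x ∈ (Q : Subgroup H), ∀ y ∈ (Q : Subgroup H), x * y = y * x := by
    intro x hx y hy
    have h1 := hexp (x * y) (mul_mem hx hy)
    have h2 : x⁻¹ = x := inv_eq_of_mul_eq_one_left (hexp x hx)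
    have h3 : y⁻¹ = y := inv_eq_of_mul_eq_one_left (hexp y hy)
    have h4 : x * y = (x * y)⁻¹ := eq_inv_of_mul_eq_one_left h1
    rw [mul_inv_rev, h2, h3] at h4
    exact h4
  have hconj : ∀ x, x ∈ (Q : Subgroup H) → g * x * g⁻¹ ∈ (Q : Subgroup H) := fun x hx =>
    (Subgroup.mem_normalizer_iff.mp hg x).mp hx
  by_cases ha1 : a = 1
  · subst ha1; simp
  by_cases hat : a = t
  · subst hat; exact (htc g).symm
  have henum : ∀ b ∈ (Q : Subgroup H), b = 1 ∨ b = t ∨ b = a ∨ b = t * a := by
    intro b hb
    have hS4 : ({1, t, a, t * a} : Finset H).card = 4 := by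
      rw [Finset.card_insert_of_notMem, Finset.card_insert_of_notMem,
        Finset.card_insert_of_notMem, Finset.card_singleton]
      · simp only [Finset.mem_singleton]
        intro h
        exact ht1 (right_eq_mul.mp h)
      · simp only [Finset.mem_insert, Finset.mem_singleton]
        rintro (h | h)
        · exact hat h.symm
        · exact ha1 (left_eq_mul.mp h)
      · simp only [Finset.mem_insert, Finset.mem_singleton]
        rintro (h | h | h)
        · exact ht1 h.symm
        · exact ha1 h.symm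
        · apply hat
          have h5 := hexp t htQ
          exact mul_left_cancel (h.symm.trans h5.symm)
    have hsub : (({1, t, a, t * a} : Finset H) : Set H) ⊆ ((Q : Subgroup H) : Set H) := by
      intro x hx
      simp only [Finset.coe_insert, Finset.coe_singleton, Set.mem_insert_iff,
        Set.mem_singleton_iff] at hx
      rcases hx with rfl | rfl | rfl | rfl
      · exact one_mem _
      · exact htQ
      · exact ha'
      · exact mul_mem htQ ha'
    have hcard : ((Q : Subgroup H) : Set H).ncard ≤
        (({1, t, a, t * a} : Finset H) : Set H).ncard := by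
      rw [Set.ncard_coe_finset, hS4, ← hQ]
      exact le_of_eq (Nat.card_coe_set_eq _).symm
    have heq := Set.eq_of_subset_of_ncard_le hsub hcard (Set.toFinite _)
    have hbS : b ∈ (({1, t, a, t * a} : Finset H) : Set H) := by rw [heq]; exact hb
    simpa using hbS
  rcases henum (g * a * g⁻¹) (hconj a ha') with h | h | h | h
  · exact absurd (conj_eq_one_iff.mp h) ha1
  · exfalso
    apply hat
    calc a = g⁻¹ * (g * a * g⁻¹) * g := by group
      _ = g⁻¹ * t * g := by rw [h]
      _ = g⁻¹ * (t * g) := by group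
      _ = g⁻¹ * (g * t) := by rw [htc g]
      _ = t := by group
  · calc a * g = (g * a * g⁻¹) * g := by rw [h]
      _ = g * a := by group
  · exfalso
    have hpow : ∀ j : ℕ, g ^ j * a * (g ^ j)⁻¹ = t ^ j * a := by
      intro j
      induction j with
      | zero => simp
      | succ j ih =>
        have hc : g * t ^ j = t ^ j * g := Commute.pow_right (htc g) j
        calc g ^ (j + 1) * a * (g ^ (j + 1))⁻¹ = g * (g ^ j * a * (g ^ j)⁻¹) * g⁻¹ := by
              rw [pow_succ']; group
          _ = g * (t ^ j * a) * g⁻¹ := by rw [ih]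
          _ = (g * t ^ j) * a * g⁻¹ := by group
          _ = (t ^ j * g) * a * g⁻¹ := by rw [hc]
          _ = t ^ j * (g * a * g⁻¹) := by group
          _ = t ^ j * (t * a) := by rw [h]
          _ = t ^ (j + 1) * a := by rw [pow_succ]; group
    obtain ⟨k, m, hm, hkm⟩ := Nat.exists_eq_two_pow_mul_odd (orderOf_pos g).ne'
    have hgm_norm : g ^ m ∈ Subgroup.normalizer ((Q : Subgroup H) : Set H) := pow_mem hg m
    have hgm2 : IsPGroup 2 (Subgroup.zpowers (g ^ m)) := by
      rintro ⟨x, hx⟩
      obtain ⟨i, rfl⟩ := Subgroup.mem_zpowers_iff.mp hx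
      refine ⟨k, Subtype.ext ?_⟩
      show ((g ^ m) ^ i) ^ 2 ^ k = 1
      rw [← zpow_natCast, ← zpow_mul, mul_comm, zpow_mul, zpow_natCast, ← pow_mul, mul_comm,
        ← hkm, pow_orderOf_eq_one, one_zpow]
    have hinf : Subgroup.zpowers (g ^ m) ⊓ Subgroup.normalizer ((Q : Subgroup H) : Set H) =
        Subgroup.zpowers (g ^ m) ⊓ (Q : Subgroup H) := hgm2.inf_normalizer_sylow Q
    have hgmQ : g ^ m ∈ (Q : Subgroup H) := by
      have h5 : g ^ m ∈ Subgroup.zpowers (g ^ m) ⊓
          Subgroup.normalizer ((Q : Subgroup H) : Set H) :=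
        ⟨Subgroup.mem_zpowers _, hgm_norm⟩
      rw [hinf] at h5
      exact h5.2
    have h1 := hab (g ^ m) hgmQ a ha'
    have h2 := hpow m
    have htm : t ^ m = t := by
      obtain ⟨r, rfl⟩ := hm
      rw [pow_succ, pow_mul, pow_two, hexp t htQ, one_pow, one_mul]
    rw [htm, h1, mul_inv_cancel_right] at h2
    exact ht1 (right_eq_mul.mp h2)

/-- A finite group with Sylow 2-subgroups of order 4, all of whose 2-elements square to 1, and
with a central involution, has a normal subgroup of odd order and index 4. -/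
theorem exists_normal_complement [Finite H] (hcard : (Nat.card H).factorization 2 = 2)
    (hexp : ∀ x : H, (∃ k : ℕ, orderOf x = 2 ^ k) → x * x = 1) (t : H) (ht : orderOf t = 2)
    (htc : ∀ h : H, h * t = t * h) :
    ∃ K : Subgroup H, K.Normal ∧ ¬ 2 ∣ Nat.card K ∧ K.index = 4 := by
  haveI : Fact (Nat.Prime 2) := ⟨Nat.prime_two⟩
  obtain ⟨Q⟩ : Nonempty (Sylow 2 H) := inferInstance
  have hQ : Nat.card Q = 4 := by rw [Sylow.card_eq_multiplicity, hcard]; rfl
  have hexpQ : ∀ x ∈ (Q : Subgroup H), x * x = 1 := by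
    intro x hx
    apply hexp
    obtain ⟨k, hk⟩ := (IsPGroup.iff_orderOf.mp Q.isPGroup') ⟨x, hx⟩
    exact ⟨k, by rw [← hk, Subgroup.orderOf_mk]⟩
  have ht1 : t ≠ 1 := by
    rintro rfl
    simp at ht
  have htQ : t ∈ (Q : Subgroup H) := by
    have h2 : IsPGroup 2 (Subgroup.zpowers t) :=
      IsPGroup.of_card (n := 1) (by rw [Nat.card_zpowers, ht]; rfl)
    have hinf : Subgroup.zpowers t ⊓ Subgroup.normalizer ((Q : Subgroup H) : Set H) =
        Subgroup.zpowers t ⊓ (Q : Subgroup H) := h2.inf_normalizer_sylow Q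
    have h5 : t ∈ Subgroup.zpowers t ⊓ Subgroup.normalizer ((Q : Subgroup H) : Set H) := by
      refine Subgroup.mem_inf.mpr ⟨Subgroup.mem_zpowers t, ?_⟩
      rw [Subgroup.mem_normalizer_iff]
      intro h
      have e : t * h * t⁻¹ = h := by
        rw [← htc h]; group
      rw [e]
    rw [hinf] at h5
    exact h5.2
  have hNC := normalizer_le_centralizer Q hQ hexpQ t ht1 htc htQ
  refine ⟨(MonoidHom.transferSylow Q hNC).ker, inferInstance,
    MonoidHom.not_dvd_card_ker_transferSylow Q hNC, ?_⟩
  rw [(MonoidHom.ker_transferSylow_isComplement' Q hNC).symm.index_eq_card, hQ]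

end Cfsg.Agent.Lib.Helper75.TwoComp
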