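import Mathlib
import Cfsg.Agent.Lib.Helper75.TwoComp
import Cfsg.Agent.Lib.Helper75.Section3
import Cfsg.Agent.Lib.Helper75.PNilBlock
import Cfsg.Agent.S0947

/-!
# Groups with a Klein four Sylow 2-subgroup and one class of involutions

Group-theoretic data (`group_data`): an involution `t`, all 2-elements square to one, and the
centralizer of `t` has a normal 2-complement of index 4.  Character-theoretic consequences for the
principal 2-block are in `KleinFour2`.
-/

set_option autoImplicit false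

namespace Cfsg.Agent.Lib.Helper75.KleinFour

open Cfsg

universe u
variable {G : Type u} [Group G]

/-- In a group whose Sylow 2-subgroup has exponent 2, every 2-element squares to one. -/
theorem two_elt_sq [Finite G] (P : Sylow 2 G) (hexp : ∀ x ∈ (P : Subgroup G), x * x = 1)
    (x : G) (hx : ∃ k : ℕ, orderOf x = 2 ^ k) : x * x = 1 := by
  haveI : Fact (Nat.Prime 2) := ⟨Nat.prime_two⟩
  obtain ⟨k, hk⟩ := hx
  have h2 : IsPGroup 2 (Subgroup.zpowers x) :=
    IsPGroup.of_card (n := k) (by rw [Nat.card_zpowers, hk])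
  obtain ⟨Q, hQ⟩ := h2.exists_le_sylow
  obtain ⟨g, hg⟩ := MulAction.exists_smul_eq G Q P
  have hxQ : x ∈ (Q : Subgroup G) := hQ (Subgroup.mem_zpowers x)
  have h3 : g * x * g⁻¹ ∈ (P : Subgroup G) := by
    rw [← hg]
    exact Subgroup.smul_mem_pointwise_smul x (MulAut.conj g) (Q : Subgroup G) hxQ
  have h4 := hexp _ h3
  have h5 : g * (x * x) * g⁻¹ = 1 := by
    rw [← h4]; group
  exact conj_eq_one_iff.mp h5

theorem sylow_comm (P : Sylow 2 G) (hexp : ∀ x ∈ (P : Subgroup G), x * x = 1) :
    ∀ x ∈ (P : Subgroup G), ∀ y ∈ (P : Subgroup G), x * y = y * x := by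
  intro x hx y hy
  have h1 := hexp (x * y) (mul_mem hx hy)
  have h2 : x⁻¹ = x := inv_eq_of_mul_eq_one_left (hexp x hx)
  have h3 : y⁻¹ = y := inv_eq_of_mul_eq_one_left (hexp y hy)
  have h4 : x * y = (x * y)⁻¹ := eq_inv_of_mul_eq_one_left h1
  rw [mul_inv_rev, h2, h3] at h4
  exact h4

/-- The group-theoretic data for a group with a Klein four Sylow 2-subgroup. -/
theorem group_data [Finite G] (P : Sylow 2 G) (hP : Nat.card P = 4)
    (hexp : ∀ x ∈ (P : Subgroup G), x * x = 1) :
    ∃ t : G, orderOf t = 2 ∧ t ∈ (P : Subgroup G) ∧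
      (P : Subgroup G) ≤ Subgroup.centralizer ({t} : Set G) ∧
      ∃ K : Subgroup (Subgroup.centralizer ({t} : Set G)), K.Normal ∧ ¬ 2 ∣ Nat.card K ∧
        K.index = 4 := by
  haveI : Fact (Nat.Prime 2) := ⟨Nat.prime_two⟩
  have hne : (P : Subgroup G) ≠ ⊥ := by
    intro h
    have h1 : Nat.card (P : Subgroup G) = 1 := by rw [h]; exact Subgroup.card_bot
    omega
  obtain ⟨⟨t, htP⟩, ht1⟩ := (Subgroup.ne_bot_iff_exists_ne_one).mp hne
  have ht1' : t ≠ 1 := fun h => ht1 (Subtype.ext h)
  have ht2 : orderOf t = 2 := orderOf_eq_prime (by rw [pow_two]; exact hexp t htP) ht1'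
  have hPC : (P : Subgroup G) ≤ Subgroup.centralizer ({t} : Set G) := by
    intro x hx
    rw [Subgroup.mem_centralizer_iff]
    intro z hz
    rw [Set.mem_singleton_iff] at hz
    subst hz
    exact sylow_comm P hexp z htP x hx
  refine ⟨t, ht2, htP, hPC, ?_⟩
  have hfacG : (Nat.card G).factorization 2 = 2 := by
    have h1 := Sylow.card_eq_multiplicity P
    rw [hP] at h1
    have h2 : (2 : ℕ) ^ 2 = 2 ^ (Nat.card G).factorization 2 := by rw [← h1]; norm_num
    exact (Nat.pow_right_injective (le_refl 2) h2).symm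
  have hfacH : (Nat.card (Subgroup.centralizer ({t} : Set G))).factorization 2 = 2 := by
    have hpos : Nat.card (Subgroup.centralizer ({t} : Set G)) ≠ 0 := Nat.card_pos.ne'
    have h1 : Nat.card (Subgroup.centralizer ({t} : Set G)) ∣ Nat.card G :=
      Subgroup.card_subgroup_dvd_card _
    have h2 : (Nat.card (Subgroup.centralizer ({t} : Set G))).factorization 2 ≤
        (Nat.card G).factorization 2 :=
      (Nat.factorization_le_iff_dvd hpos Nat.card_pos.ne').mpr h1 2
    have h3 : 2 ^ 2 ∣ Nat.card (Subgroup.centralizer ({t} : Set G)) := by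
      have h4 : Nat.card (P : Subgroup G) ∣ Nat.card (Subgroup.centralizer ({t} : Set G)) :=
        Subgroup.card_dvd_of_le hPC
      rw [hP] at h4
      exact h4
    have h5 := (Nat.Prime.pow_dvd_iff_le_factorization Nat.prime_two hpos).mp h3
    omega
  have hexpH : ∀ x : Subgroup.centralizer ({t} : Set G), (∃ k : ℕ, orderOf x = 2 ^ k) →
      x * x = 1 := by
    rintro x ⟨k, hk⟩
    apply Subtype.ext
    exact two_elt_sq P hexp (x : G) ⟨k, by rw [Subgroup.orderOf_coe, hk]⟩
  have htC : t ∈ Subgroup.centralizer ({t} : Set G) := hPC htP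
  have hto : orderOf (⟨t, htC⟩ : Subgroup.centralizer ({t} : Set G)) = 2 := by
    rw [Subgroup.orderOf_mk, ht2]
  have htc : ∀ h : Subgroup.centralizer ({t} : Set G), h * ⟨t, htC⟩ = ⟨t, htC⟩ * h := by
    intro h
    apply Subtype.ext
    exact (Subgroup.mem_centralizer_iff.mp h.2 t rfl).symm
  exact Cfsg.Agent.Lib.Helper75.TwoComp.exists_normal_complement hfacH hexpH ⟨t, htC⟩ hto htc

end Cfsg.Agent.Lib.Helper75.KleinFour
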