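import Mathlib
import Cfsg.Agent.Lib.Helper75.KleinFour
import Cfsg.Agent.Lib.CT.SectionOrth

/-!
# The principal 2-block of a group with a Klein four Sylow 2-subgroup and one class of involutions

With `t` an involution, `K` the normal 2-complement of `C_G(t)` and `B₀` the principal 2-block:
the characters of `B₀` take the values `±1` at `t`, there are four of them, and each has
`⟨χ°, χ⟩ = 3/4`, so that `l(B₀) = 3`.
-/

set_option autoImplicit false

namespace Cfsg.Agent.Lib.Helper75.KleinFour2

open Cfsg Cfsg.Agent.Lib.CT.Wedderburn Cfsg.Agent.Lib.Helper77.LocalRing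
  Cfsg.Agent.Lib.CT.ThirdMain Cfsg.Agent.Lib.Helper75.Section Cfsg.Agent.Lib.Helper75.Section2
  Cfsg.Agent.Lib.Helper75.Section3 Cfsg.Agent.Lib.Helper75.PNilBlock
  Cfsg.Agent.Lib.Helper75.KleinFour
open scoped ComplexConjugate

universe u
variable {G : Type u} [Group G]

/-- If a character takes the same value `c` at all non-identity elements of a subgroup `A`, then
`χ(1) + (|A| - 1) c` is a multiple of `|A|`. -/
theorem restrict_const [Finite G] {χ : G → ℂ} (hχ : IsCharacter G χ) (A : Subgroup G) (c : ℂ)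
    (h : ∀ x ∈ A, x ≠ 1 → χ x = c) :
    ∃ m : ℕ, χ 1 + ((Nat.card A : ℂ) - 1) * c = (Nat.card A : ℂ) * m := by
  classical
  have := Fintype.ofFinite A
  obtain ⟨m, hm⟩ := Cfsg.Agent.Lib.CT.Clifford.classInner_char_nat
    (Cfsg.Agent.Lib.CT.Ops.isCharacter_restrict A hχ)
    (Cfsg.Agent.Lib.CT.Ops.isCharacter_one (G := A))
  refine ⟨m, ?_⟩
  unfold classInner at hm
  have hsum : ∑ a : A, χ a * conj ((fun _ : A => (1 : ℂ)) a) =
      χ 1 + ((Nat.card A : ℂ) - 1) * c := by
    have h1 : ∀ a : A, χ a * conj ((fun _ : A => (1 : ℂ)) a) =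
        c + (if a = 1 then χ 1 - c else 0) := by
      intro a
      by_cases ha : a = 1
      · subst ha; simp
      · rw [if_neg ha, add_zero, map_one, mul_one]
        exact h a a.2 (fun h' => ha (Subtype.ext h'))
    rw [Finset.sum_congr rfl (fun a _ => h1 a), Finset.sum_add_distrib, Finset.sum_const,
      Finset.sum_ite_eq' Finset.univ (1 : A) (fun _ => χ 1 - c), if_pos (Finset.mem_univ _),
      Finset.card_univ, nsmul_eq_mul, Nat.card_eq_fintype_card]
    ring
  rw [hsum] at hm
  have hne : (Nat.card A : ℂ) ≠ 0 := Nat.cast_ne_zero.mpr Nat.card_pos.ne'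
  rw [← hm]
  field_simp

/-- The value of an irreducible character at the involution `t` is an integer congruent to the
degree modulo 4. -/
theorem value_at_invol [Finite G] (P : Sylow 2 G) (hP : Nat.card P = 4)
    (hexp : ∀ x ∈ (P : Subgroup G), x * x = 1)
    (hone : ∀ s t : G, orderOf s = 2 → orderOf t = 2 → IsConj s t) (t : G) (ht : orderOf t = 2)
    (χ : IrrCharacter G) :
    ∃ n : ℤ, (χ : G → ℂ) t = (n : ℂ) ∧ (4 : ℤ) ∣ (charDegree (χ : G → ℂ) : ℤ) - n := by
  have hχ := isCharacter_of_irr χ.2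
  have hcl := char_isClassFunction hχ
  have hval : ∀ x : G, orderOf x = 2 → (χ : G → ℂ) x = (χ : G → ℂ) t := by
    intro x hx
    obtain ⟨c, hc⟩ := isConj_iff.mp (hone x t hx ht)
    rw [← hc, hcl]
  obtain ⟨m₁, h1⟩ := restrict_const hχ (Subgroup.zpowers t) ((χ : G → ℂ) t) (by
    intro x hx hx1
    apply hval
    have hd : orderOf x ∣ 2 := by rw [← ht]; exact orderOf_dvd_of_mem_zpowers hx
    rcases (Nat.dvd_prime Nat.prime_two).mp hd with h | h
    · exact absurd (orderOf_eq_one_iff.mp h) hx1
    · exact h)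
  obtain ⟨m₂, h2⟩ := restrict_const hχ (P : Subgroup G) ((χ : G → ℂ) t) (by
    intro x hx hx1
    apply hval
    exact orderOf_eq_prime (by rw [pow_two]; exact hexp x hx) hx1)
  rw [Nat.card_zpowers, ht] at h1
  rw [hP] at h2
  push_cast at h1 h2
  have hd := char_natCast_charDegree hχ
  refine ⟨2 * m₁ - charDegree (χ : G → ℂ), ?_, ?_⟩
  · push_cast
    rw [hd]
    linear_combination h1
  · refine ⟨(m₁ : ℤ) - m₂, ?_⟩
    have h3 : ((((charDegree (χ : G → ℂ) : ℤ) - (2 * m₁ - charDegree (χ : G → ℂ))) : ℤ) : ℂ) =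
        ((4 * ((m₁ : ℤ) - m₂) : ℤ) : ℂ) := by
      push_cast
      rw [hd]
      linear_combination (-1 : ℂ) * h2 + 3 * h1
    exact_mod_cast h3

/-- The section restriction at `t` of a character of the principal block is constant on the
normal 2-complement `K` of `C_G(t)` and vanishes elsewhere. -/
theorem secRes_eq [Finite G] (M : Ideal AlgInt) (hM : IsPModular 2 M) (t : G)
    (ht : orderOf t = 2) (K : Subgroup (Subgroup.centralizer ({t} : Set G))) [K.Normal]
    (hK : ¬ 2 ∣ Nat.card K) (hKi : K.index = 4) [DecidablePred (· ∈ K)] (χ : IrrCharacter G)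
    (hχ : χ ∈ principalBlock M G) (c : Subgroup.centralizer ({t} : Set G)) :
    secRes 2 t (χ : G → ℂ) c = if c ∈ K then (χ : G → ℂ) t else 0 := by
  classical
  haveI : Fact (Nat.Prime 2) := ⟨Nat.prime_two⟩
  have hMp := isPrime_of_isPModular hM
  have htp : ∃ k : ℕ, orderOf t = 2 ^ k := ⟨1, by rw [ht]; rfl⟩
  have hQ : IsPGroup 2 (Subgroup.centralizer ({t} : Set G) ⧸ K) :=
    IsPGroup.of_card (n := 2) (by rw [← Subgroup.index_eq_card, hKi]; rfl)
  have := Fintype.ofFinite (Subgroup.centralizer ({t} : Set G))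
  have := finite_irrCharacter (Subgroup.centralizer ({t} : Set G))
  have := Fintype.ofFinite (IrrCharacter (Subgroup.centralizer ({t} : Set G)))
  have hP : IsPBlock M (principalBlock M G) := ⟨triv G, rfl⟩
  by_cases hc : c ∈ K
  · rw [if_pos hc]
    have h1 : ¬ 2 ∣ orderOf (1 : Subgroup.centralizer ({t} : Set G)) := by
      rw [orderOf_one]; norm_num
    have e1 := secRes_eq_sum 2 M hM t htp (principalBlock M G) hP χ hχ c
    have e2 := secRes_eq_sum 2 M hM t htp (principalBlock M G) hP χ hχ 1
    have e3 : secRes 2 t (χ : G → ℂ) c = secRes 2 t (χ : G → ℂ) 1 := by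
      rw [e1, e2]
      refine Finset.sum_congr rfl fun ψ _ => ?_
      by_cases hψ : ψ ∈ secT M t (principalBlock M G)
      · rw [if_pos hψ, if_pos hψ]
        have hψ' : ψ ∈ principalBlock M (Subgroup.centralizer ({t} : Set G)) := by
          rw [← secT_principal 2 M hM t htp]; exact hψ
        rw [apply_eq_of_mem_principalBlock 2 M hM K hK ψ hψ' c hc]
      · rw [if_neg hψ, if_neg hψ]
    rw [e3, secRes_of_regular 2 t _ h1]
    simp
  · rw [if_neg hc]
    apply secRes_of_singular
    by_contra hreg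
    exact hc (mem_of_pRegular Nat.prime_two K hQ c hreg)

/-- The norm of the section restriction at `t`. -/
theorem norm_secRes [Finite G] (M : Ideal AlgInt) (hM : IsPModular 2 M) (t : G)
    (ht : orderOf t = 2) (K : Subgroup (Subgroup.centralizer ({t} : Set G))) [K.Normal]
    (hK : ¬ 2 ∣ Nat.card K) (hKi : K.index = 4)
    [Fintype (Subgroup.centralizer ({t} : Set G))] (χ : IrrCharacter G)
    (hχ : χ ∈ principalBlock M G) :
    classInner (secRes 2 t (χ : G → ℂ)) (secRes 2 t (χ : G → ℂ)) =
      (χ : G → ℂ) t * conj ((χ : G → ℂ) t) / 4 := by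
  classical
  unfold classInner
  have h1 : ∀ c : Subgroup.centralizer ({t} : Set G),
      secRes 2 t (χ : G → ℂ) c * conj (secRes 2 t (χ : G → ℂ) c) =
        if c ∈ K then (χ : G → ℂ) t * conj ((χ : G → ℂ) t) else 0 := by
    intro c
    rw [secRes_eq M hM t ht K hK hKi χ hχ c]
    split_ifs <;> simp
  rw [Finset.sum_congr rfl (fun c _ => h1 c), Finset.sum_ite, Finset.sum_const_zero, add_zero,
    Finset.sum_const, nsmul_eq_mul]
  have := Fintype.ofFinite K
  have hcardK : (Finset.univ.filter
      (fun c : Subgroup.centralizer ({t} : Set G) => c ∈ K)).card = Nat.card K := by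
    rw [Nat.card_eq_fintype_card]
    exact (Fintype.card_of_subtype _ (by simp)).symm
  have hcardH : (Nat.card (Subgroup.centralizer ({t} : Set G)) : ℂ) = (Nat.card K : ℂ) * 4 := by
    rw [← Subgroup.card_mul_index K, hKi]
    push_cast
    ring
  have hne : (Nat.card K : ℂ) ≠ 0 := Nat.cast_ne_zero.mpr Nat.card_pos.ne'
  rw [hcardK, hcardH]
  field_simp

/-- The squares of the values at `t` of the characters of the principal block sum to 4. -/
theorem sum_sq_eq_four [Finite G] (M : Ideal AlgInt) (hM : IsPModular 2 M) (t : G)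
    (ht : orderOf t = 2) (K : Subgroup (Subgroup.centralizer ({t} : Set G))) [K.Normal]
    (hK : ¬ 2 ∣ Nat.card K) (hKi : K.index = 4) :
    ∑ᶠ ζ ∈ principalBlock M G, ‖(ζ : G → ℂ) t‖ ^ 2 = 4 := by
  haveI : Fact (Nat.Prime 2) := ⟨Nat.prime_two⟩
  have htp : ∃ k : ℕ, orderOf t = 2 ^ k := ⟨1, by rw [ht]; rfl⟩
  have ht1 : t ≠ 1 := by
    rintro rfl
    simp at ht
  have h1 := (Cfsg.Agent.S0947.result 2 M hM t htp ht1
    (1 : Subgroup.centralizer ({t} : Set G)) (by rw [orderOf_one]; norm_num)).1
  have hQ : IsPGroup 2 (Subgroup.centralizer ({t} : Set G) ⧸ K) :=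
    IsPGroup.of_card (n := 2) (by rw [← Subgroup.index_eq_card, hKi]; rfl)
  have h2 := sum_principalBlock_sq 2 M hM K hK hQ
  rw [hKi] at h2
  simp only [OneMemClass.coe_one, mul_one] at h1
  rw [h1, h2]
  norm_num

/-- A character of the principal block does not vanish at `t`. -/
theorem value_ne_zero [Finite G] (M : Ideal AlgInt) (hM : IsPModular 2 M) (P : Sylow 2 G)
    (t : G) (hPC : (P : Subgroup G) ≤ Subgroup.centralizer ({t} : Set G))
    (χ : IrrCharacter G) (hχ : χ ∈ principalBlock M G) : (χ : G → ℂ) t ≠ 0 := by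
  haveI : Fact (Nat.Prime 2) := ⟨Nat.prime_two⟩
  intro h0
  have h1 := hχ t
  unfold centralChar at h1
  rw [h0, mul_zero, zero_div, sub_zero, mul_one, div_one] at h1
  have h2 := (memLocalIdeal_natCast_iff hM _).mp h1
  have h3 : (Subgroup.centralizer ({t} : Set G)).index ∣ (P : Subgroup G).index :=
    Subgroup.index_dvd_of_le hPC
  exact P.not_dvd_index (dvd_trans h2 h3)

/-- The characters of the principal block take the values `±1` at `t`, and there are four of
them. -/
theorem values_and_card [Finite G] (M : Ideal AlgInt) (hM : IsPModular 2 M) (P : Sylow 2 G)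
    (hP : Nat.card P = 4) (hexp : ∀ x ∈ (P : Subgroup G), x * x = 1)
    (hone : ∀ s t : G, orderOf s = 2 → orderOf t = 2 → IsConj s t) (t : G) (ht : orderOf t = 2)
    (hPC : (P : Subgroup G) ≤ Subgroup.centralizer ({t} : Set G))
    (K : Subgroup (Subgroup.centralizer ({t} : Set G))) [K.Normal]
    (hK : ¬ 2 ∣ Nat.card K) (hKi : K.index = 4) :
    (∀ χ ∈ principalBlock M G, (χ : G → ℂ) t = 1 ∨ (χ : G → ℂ) t = -1) ∧
      Nat.card (principalBlock M G) = 4 := by
  classical
  have hMp := isPrime_of_isPModular hM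
  have := finite_irrCharacter G
  have := Fintype.ofFinite (IrrCharacter G)
  choose n hn hn4 using fun χ : IrrCharacter G => value_at_invol P hP hexp hone t ht χ
  have hsum := sum_sq_eq_four M hM t ht K hK hKi
  rw [finsum_mem_def, finsum_eq_sum_of_fintype] at hsum
  have hsumZ : ∑ ζ ∈ Finset.univ.filter (fun ζ : IrrCharacter G => ζ ∈ principalBlock M G),
      (n ζ) ^ 2 = 4 := by
    have h1 : ∀ ζ : IrrCharacter G, Set.indicator (principalBlock M G)
        (fun ζ : IrrCharacter G => ‖(ζ : G → ℂ) t‖ ^ 2) ζ =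
        if ζ ∈ principalBlock M G then (((n ζ) ^ 2 : ℤ) : ℝ) else 0 := by
      intro ζ
      rw [Set.indicator_apply]
      by_cases h : ζ ∈ principalBlock M G
      · rw [if_pos h, if_pos h, hn ζ, Complex.norm_intCast, sq_abs]
        push_cast
        rfl
      · rw [if_neg h, if_neg h]
    rw [Finset.sum_congr rfl (fun ζ _ => h1 ζ), ← Finset.sum_filter] at hsum
    exact_mod_cast hsum
  have hn0 : ∀ ζ ∈ principalBlock M G, n ζ ≠ 0 := by
    intro ζ hζ h0
    apply value_ne_zero M hM P t hPC ζ hζ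
    rw [hn ζ, h0]
    simp
  have htriv : triv G ∈ principalBlock M G := triv_mem_principalBlock hMp
  have hntriv : n (triv G) = 1 := by
    have h1 := hn (triv G)
    have h2 : ((triv G : IrrCharacter G) : G → ℂ) t = 1 := rfl
    rw [h2] at h1
    exact_mod_cast h1.symm
  have hall : ∀ ζ ∈ principalBlock M G, (n ζ) ^ 2 = 1 := by
    intro ζ₀ hζ₀
    by_contra hne
    have h4 : 4 ≤ (n ζ₀) ^ 2 := by
      have h0 := hn0 ζ₀ hζ₀
      have hcases : n ζ₀ ≤ -2 ∨ n ζ₀ = -1 ∨ n ζ₀ = 1 ∨ 2 ≤ n ζ₀ := by omega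
      rcases hcases with h | h | h | h
      · nlinarith
      · exfalso; apply hne; rw [h]; norm_num
      · exfalso; apply hne; rw [h]; norm_num
      · nlinarith
    have hneq : ζ₀ ≠ triv G := by
      intro h
      apply hne
      rw [h, hntriv]
      norm_num
    have hsub : ({ζ₀, triv G} : Finset (IrrCharacter G)) ⊆
        Finset.univ.filter (fun ζ : IrrCharacter G => ζ ∈ principalBlock M G) := by
      intro ζ hζ
      rw [Finset.mem_insert, Finset.mem_singleton] at hζ
      rw [Finset.mem_filter]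
      rcases hζ with rfl | rfl
      · exact ⟨Finset.mem_univ _, hζ₀⟩
      · exact ⟨Finset.mem_univ _, htriv⟩
    have hle := Finset.sum_le_sum_of_subset_of_nonneg (f := fun ζ : IrrCharacter G => (n ζ) ^ 2)
      hsub (fun ζ _ _ => sq_nonneg _)
    rw [Finset.sum_pair hneq, hsumZ, hntriv] at hle
    norm_num at hle
    omega
  constructor
  · intro χ hχ
    have h1 := hall χ hχ
    have h2 : (n χ - 1) * (n χ + 1) = 0 := by ring_nf; rw [h1]; ring
    rcases mul_eq_zero.mp h2 with h | h
    · left
      rw [hn χ]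
      have : n χ = 1 := by omega
      rw [this]
      simp
    · right
      rw [hn χ]
      have : n χ = -1 := by omega
      rw [this]
      simp
  · have h5 : ∑ ζ ∈ Finset.univ.filter (fun ζ : IrrCharacter G => ζ ∈ principalBlock M G),
        (n ζ) ^ 2 = ∑ ζ ∈ Finset.univ.filter
          (fun ζ : IrrCharacter G => ζ ∈ principalBlock M G), (1 : ℤ) :=
      Finset.sum_congr rfl fun ζ hζ => hall ζ (Finset.mem_filter.mp hζ).2
    rw [hsumZ, Finset.sum_const, nsmul_eq_mul, mul_one] at h5
    have := Fintype.ofFinite (principalBlock M G)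
    rw [Nat.card_eq_fintype_card,
      Fintype.card_of_subtype (Finset.univ.filter
        (fun ζ : IrrCharacter G => ζ ∈ principalBlock M G)) (by simp)]
    exact_mod_cast h5.symm

theorem sum_subtype_of_eq_top [Fintype G] (A : Subgroup G) [Fintype A] (hA : A = ⊤)
    (F : G → ℂ) : ∑ c : A, F (c : G) = ∑ g : G, F g := by
  subst hA
  exact Fintype.sum_equiv Subgroup.topEquiv.toEquiv _ _ (fun c => rfl)

/-- The section restriction at the identity is the `p`-regular part. -/
theorem classInner_secRes_one [Fintype G] [Fintype (Subgroup.centralizer ({(1 : G)} : Set G))]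
    (p : ℕ) (f : G → ℂ) :
    classInner (secRes p 1 f) (secRes p 1 f) = classInner (pRegularPart p f) f := by
  have htop : Subgroup.centralizer ({(1 : G)} : Set G) = ⊤ := by
    rw [Subgroup.centralizer_eq_top_iff_subset, Set.singleton_subset_iff]
    exact Subgroup.one_mem _
  rw [← classInner_pRegularPart_right p f f]
  unfold classInner
  have hcard : Nat.card (Subgroup.centralizer ({(1 : G)} : Set G)) = Nat.card G := by
    rw [htop, Subgroup.card_top]
  rw [hcard]
  congr 1
  rw [← sum_subtype_of_eq_top _ htop (fun g => pRegularPart p f g * conj (pRegularPart p f g))]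
  refine Finset.sum_congr rfl fun c _ => ?_
  have e : secRes p 1 f c = pRegularPart p f (c : G) := by
    by_cases hc : p ∣ orderOf c
    · rw [secRes_of_singular p 1 f hc,
        pRegularPart_of_singular p f (by rwa [Subgroup.orderOf_coe])]
    · rw [secRes_of_regular p 1 f hc, one_mul,
        pRegularPart_of_regular p f (by rwa [Subgroup.orderOf_coe])]
  rw [e]

/-- For a character of the principal block, `⟨χ°, χ⟩ = 3/4`. -/
theorem norm_pRegular [Fintype G] (M : Ideal AlgInt) (hM : IsPModular 2 M) (P : Sylow 2 G)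
    (hexp : ∀ x ∈ (P : Subgroup G), x * x = 1)
    (hone : ∀ s t : G, orderOf s = 2 → orderOf t = 2 → IsConj s t) (t : G) (ht : orderOf t = 2)
    (K : Subgroup (Subgroup.centralizer ({t} : Set G))) [K.Normal]
    (hK : ¬ 2 ∣ Nat.card K) (hKi : K.index = 4) (χ : IrrCharacter G)
    (hχ : χ ∈ principalBlock M G) (hval : (χ : G → ℂ) t = 1 ∨ (χ : G → ℂ) t = -1) :
    classInner (pRegularPart 2 (χ : G → ℂ)) (χ : G → ℂ) = 3 / 4 := by
  classical
  letI : ∀ x : G, Fintype (Subgroup.centralizer ({x} : Set G)) := fun x => Fintype.ofFinite _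
  have ht1 : t ≠ 1 := by
    rintro rfl
    simp at ht
  have hX : ∀ x ∈ ({1, t} : Finset G), ∃ k : ℕ, orderOf x = 2 ^ k := by
    intro x hx
    rw [Finset.mem_insert, Finset.mem_singleton] at hx
    rcases hx with rfl | rfl
    · exact ⟨0, by rw [orderOf_one, pow_zero]⟩
    · exact ⟨1, by rw [ht, pow_one]⟩
  have hXrep : ∀ g : G, (∃ k : ℕ, orderOf g = 2 ^ k) →
      ∃! x, x ∈ ({1, t} : Finset G) ∧ IsConj g x := by
    intro g hg
    have hsq := two_elt_sq P hexp g hg
    by_cases hg1 : g = 1
    · subst hg1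
      refine ⟨1, ⟨by simp, IsConj.refl 1⟩, ?_⟩
      rintro x ⟨-, hx⟩
      exact (isConj_one_right.mp hx)
    · have hg2 : orderOf g = 2 := orderOf_eq_prime (by rw [pow_two]; exact hsq) hg1
      refine ⟨t, ⟨by simp, hone g t hg2 ht⟩, ?_⟩
      rintro x ⟨hx, hc⟩
      rw [Finset.mem_insert, Finset.mem_singleton] at hx
      rcases hx with rfl | rfl
      · exact absurd (isConj_one_left.mp hc) hg1
      · rfl
  have h1 := classInner_self_eq_sum_sections Nat.prime_two ({1, t} : Finset G) hX hXrep
    (χ : G → ℂ) (Cfsg.Agent.Lib.CT.Orth.irr_isClassFunction χ)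
  rw [irr_orthonormal, if_pos rfl, Finset.sum_pair (Ne.symm ht1), classInner_secRes_one,
    norm_secRes M hM t ht K hK hKi χ hχ] at h1
  have h2 : (χ : G → ℂ) t * conj ((χ : G → ℂ) t) = 1 := by
    rcases hval with h | h <;> rw [h] <;> simp
  rw [h2] at h1
  linear_combination (-1 : ℂ) * h1

/-- **`l(B₀) = 3`** for the principal 2-block of a group with Klein four Sylow 2-subgroups and
one class of involutions. -/
theorem blockRank_principal [Finite G] (M : Ideal AlgInt) (hM : IsPModular 2 M) (P : Sylow 2 G)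
    (hP : Nat.card P = 4) (hexp : ∀ x ∈ (P : Subgroup G), x * x = 1)
    (hone : ∀ s t : G, orderOf s = 2 → orderOf t = 2 → IsConj s t) :
    blockRank 2 (principalBlock M G) = 3 := by
  classical
  haveI : Fact (Nat.Prime 2) := ⟨Nat.prime_two⟩
  obtain ⟨t, ht, -, hPC, K, hKn, hK, hKi⟩ := group_data P hP hexp
  have hvc := values_and_card M hM P hP hexp hone t ht hPC K hK hKi
  have := Fintype.ofFinite G
  have := finite_irrCharacter G
  have := Fintype.ofFinite (IrrCharacter G)
  have hPB : IsPBlock M (principalBlock M G) := ⟨triv G, rfl⟩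
  have h1 := blockRank_eq_sum 2 M hM (principalBlock M G) hPB
  have h2 : ∀ ψ : IrrCharacter G, (if ψ ∈ principalBlock M G then
      classInner (pRegularPart 2 (ψ : G → ℂ)) (ψ : G → ℂ) else 0) =
      if ψ ∈ principalBlock M G then (3 / 4 : ℂ) else 0 := by
    intro ψ
    by_cases hψ : ψ ∈ principalBlock M G
    · rw [if_pos hψ, if_pos hψ,
        norm_pRegular M hM P hexp hone t ht K hK hKi ψ hψ (hvc.1 ψ hψ)]
    · rw [if_neg hψ, if_neg hψ]
  rw [Finset.sum_congr rfl (fun ψ _ => h2 ψ), ← Finset.sum_filter, Finset.sum_const,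
    nsmul_eq_mul] at h1
  have h3 : (Finset.univ.filter (fun ζ : IrrCharacter G => ζ ∈ principalBlock M G)).card = 4 := by
    have h4 := hvc.2
    have := Fintype.ofFinite (principalBlock M G)
    rw [Nat.card_eq_fintype_card,
      Fintype.card_of_subtype (Finset.univ.filter
        (fun ζ : IrrCharacter G => ζ ∈ principalBlock M G)) (by simp)] at h4
    exact h4
  rw [h3] at h1
  have h5 : (blockRank 2 (principalBlock M G) : ℂ) = ((3 : ℕ) : ℂ) := by
    rw [h1]; norm_num
  exact_mod_cast h5

end Cfsg.Agent.Lib.Helper75.KleinFour2
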