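import Mathlib
import Cfsg.Agent.Lib.Helper75.KleinFour2

/-!
# The principal 2-block for Klein four Sylow 2-subgroups and one class of involutions: structure

`principal_structure`: the principal block is `{1, ζ₂, ζ₃, ζ₄}` with values `1, ε, -1` at the
involutions, degrees congruent to these values modulo 4, and `1 + ζ₂ + ε ζ₃ - ζ₄ = 0` on the
elements of odd order.
-/

set_option autoImplicit false

namespace Cfsg.Agent.Lib.Helper75.KleinFour3

open Cfsg Cfsg.Agent.Lib.CT.Wedderburn Cfsg.Agent.Lib.Helper77.LocalRing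
  Cfsg.Agent.Lib.CT.ThirdMain Cfsg.Agent.Lib.Helper75.Section Cfsg.Agent.Lib.Helper75.Section2
  Cfsg.Agent.Lib.Helper75.Section3 Cfsg.Agent.Lib.Helper75.PNilBlock
  Cfsg.Agent.Lib.Helper75.KleinFour Cfsg.Agent.Lib.Helper75.KleinFour2
open scoped ComplexConjugate

universe u
variable {G : Type u} [Group G]

/-- Block orthogonality between the involution `t` and an element of odd order. -/
theorem relation [Finite G] (M : Ideal AlgInt) (hM : IsPModular 2 M) (t : G)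
    (ht : orderOf t = 2) (y : G) (hy : ¬ 2 ∣ orderOf y) :
    ∑ᶠ χ ∈ principalBlock M G, (χ : G → ℂ) t * (χ : G → ℂ) y = 0 := by
  have ht1 : t ≠ 1 := by
    rintro rfl
    simp at ht
  have hPB : IsPBlock M (principalBlock M G) := ⟨triv G, rfl⟩
  have hy' : ¬ 2 ∣ orderOf y⁻¹ := by rwa [orderOf_inv]
  have h1 := Cfsg.Agent.Lib.CT.SectionOrth.section_orthogonality 2 M hM (principalBlock M G) hPB
    t y⁻¹ t 1 ⟨1, mul_one t, Commute.one_right t, ⟨1, by rw [ht, pow_one]⟩,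
      by rw [orderOf_one]; norm_num⟩
    ⟨y⁻¹, one_mul _, Commute.one_left _, ⟨0, by rw [orderOf_one, pow_zero]⟩, hy'⟩
    (fun h => ht1 (isConj_one_left.mp h))
  rw [← h1]
  refine finsum_mem_congr rfl fun χ _ => ?_
  rw [char_apply_inv (isCharacter_of_irr χ.2), Complex.conj_conj]

/-- The structure of the principal 2-block of a group with Klein four Sylow 2-subgroups and one
class of involutions. -/
theorem principal_structure [Finite G] (M : Ideal AlgInt) (hM : IsPModular 2 M) (P : Sylow 2 G)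
    (hP : Nat.card P = 4) (hexp : ∀ x ∈ (P : Subgroup G), x * x = 1)
    (hone : ∀ s t : G, orderOf s = 2 → orderOf t = 2 → IsConj s t) :
    ∃ ζ₂ ζ₃ ζ₄ : IrrCharacter G, ∃ ε : ℤ, (ε = 1 ∨ ε = -1) ∧ (ζ₂ : G → ℂ) ≠ (fun _ => 1) ∧
      (ζ₃ : G → ℂ) ≠ (fun _ => 1) ∧ ζ₂ ≠ ζ₃ ∧ ζ₂ ≠ ζ₄ ∧ ζ₃ ≠ ζ₄ ∧
      principalBlock M G = {χ : IrrCharacter G | (χ : G → ℂ) = (fun _ => 1) ∨ χ = ζ₂ ∨ χ = ζ₃ ∨
        χ = ζ₄} ∧
      (∀ z : G, orderOf z = 2 → (ζ₂ : G → ℂ) z = 1 ∧ (ζ₃ : G → ℂ) z = (ε : ℂ) ∧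
        (ζ₄ : G → ℂ) z = -1) ∧
      (4 : ℤ) ∣ (charDegree (ζ₂ : G → ℂ) : ℤ) - 1 ∧
      (4 : ℤ) ∣ (charDegree (ζ₃ : G → ℂ) : ℤ) - ε ∧
      (4 : ℤ) ∣ (charDegree (ζ₄ : G → ℂ) : ℤ) + 1 ∧
      ∀ y : G, Odd (orderOf y) →
        1 + (ζ₂ : G → ℂ) y + (ε : ℂ) * (ζ₃ : G → ℂ) y - (ζ₄ : G → ℂ) y = 0 := by
  classical
  have hMp := isPrime_of_isPModular hM
  obtain ⟨t, ht, -, hPC, K, hKn, hK, hKi⟩ := group_data P hP hexp
  obtain ⟨hval, hcard⟩ := values_and_card M hM P hP hexp hone t ht hPC K hK hKi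
  have := finite_irrCharacter G
  have := Fintype.ofFinite (IrrCharacter G)
  set F : Finset (IrrCharacter G) :=
    Finset.univ.filter (fun ζ : IrrCharacter G => ζ ∈ principalBlock M G) with hF
  have hmemF : ∀ χ, χ ∈ F ↔ χ ∈ principalBlock M G := fun χ => by
    rw [hF, Finset.mem_filter]; simp
  have hF4 : F.card = 4 := by
    have h4 := hcard
    have := Fintype.ofFinite (principalBlock M G)
    rw [Nat.card_eq_fintype_card, Fintype.card_of_subtype F (by simp [hF])] at h4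
    exact h4
  have htriv : triv G ∈ F := (hmemF _).mpr (triv_mem_principalBlock hMp)
  set F' : Finset (IrrCharacter G) := F.erase (triv G) with hF'
  have hF'3 : F'.card = 3 := by rw [hF', Finset.card_erase_of_mem htriv, hF4]
  have hmemF' : ∀ χ, χ ∈ F' ↔ χ ≠ triv G ∧ χ ∈ principalBlock M G := fun χ => by
    rw [hF', Finset.mem_erase, hmemF]
  have hrel : ∀ y : G, ¬ 2 ∣ orderOf y →
      1 + ∑ χ ∈ F', (χ : G → ℂ) t * (χ : G → ℂ) y = 0 := by
    intro y hy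
    have h1 := relation M hM t ht y hy
    rw [finsum_mem_def, finsum_eq_sum_of_fintype] at h1
    have h2 : ∑ χ : IrrCharacter G, Set.indicator (principalBlock M G)
        (fun χ : IrrCharacter G => (χ : G → ℂ) t * (χ : G → ℂ) y) χ =
        ∑ χ ∈ F, (χ : G → ℂ) t * (χ : G → ℂ) y := by
      rw [hF, Finset.sum_filter]
      refine Finset.sum_congr rfl fun χ _ => ?_
      rw [Set.indicator_apply]
    rw [h2, ← Finset.add_sum_erase F _ htriv] at h1
    have h3 : ((triv G : IrrCharacter G) : G → ℂ) t * ((triv G : IrrCharacter G) : G → ℂ) y = 1 := by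
      show (1 : ℂ) * 1 = 1
      norm_num
    rw [h3] at h1
    exact h1
  have hdeg : ∀ χ : IrrCharacter G, (χ : G → ℂ) 1 = (charDegree (χ : G → ℂ) : ℂ) := fun χ =>
    (char_natCast_charDegree (isCharacter_of_irr χ.2)).symm
  have hdpos : ∀ χ : IrrCharacter G, 1 ≤ charDegree (χ : G → ℂ) := by
    intro χ
    by_contra h
    have h0 : charDegree (χ : G → ℂ) = 0 := by omega
    have h1 := hdeg χ
    rw [h0, Nat.cast_zero] at h1
    exact Cfsg.Agent.Lib.Helper77.CentralChar.irr_one_ne_zero χ.2 h1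
  have h1reg : ¬ 2 ∣ orderOf (1 : G) := by rw [orderOf_one]; norm_num
  have hex4 : ∃ ζ ∈ F', (ζ : G → ℂ) t = -1 := by
    by_contra hcon
    simp only [not_exists, not_and] at hcon
    have h1 := hrel 1 h1reg
    have h2 : ∑ χ ∈ F', (χ : G → ℂ) t * (χ : G → ℂ) 1 =
        ((∑ χ ∈ F', charDegree (χ : G → ℂ) : ℕ) : ℂ) := by
      rw [Nat.cast_sum]
      refine Finset.sum_congr rfl fun χ hχ => ?_
      rcases hval χ ((hmemF' χ).mp hχ).2 with h | h
      · rw [h, one_mul, hdeg]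
      · exact absurd h (hcon χ hχ)
    rw [h2] at h1
    have h3 : ((1 + ∑ χ ∈ F', charDegree (χ : G → ℂ) : ℕ) : ℂ) = 0 := by
      push_cast
      push_cast at h1
      exact h1
    have h4 := Nat.cast_eq_zero.mp h3
    omega
  obtain ⟨ζ₄, hζ₄F, hζ₄t⟩ := hex4
  have hex2 : ∃ ζ ∈ F', (ζ : G → ℂ) t = 1 := by
    by_contra hcon
    simp only [not_exists, not_and] at hcon
    have h1 := hrel 1 h1reg
    have h2 : ∑ χ ∈ F', (χ : G → ℂ) t * (χ : G → ℂ) 1 =
        -((∑ χ ∈ F', charDegree (χ : G → ℂ) : ℕ) : ℂ) := by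
      rw [Nat.cast_sum, ← Finset.sum_neg_distrib]
      refine Finset.sum_congr rfl fun χ hχ => ?_
      rcases hval χ ((hmemF' χ).mp hχ).2 with h | h
      · exact absurd h (hcon χ hχ)
      · rw [h, hdeg]; ring
    rw [h2] at h1
    have h3 : ((∑ χ ∈ F', charDegree (χ : G → ℂ) : ℕ) : ℂ) = ((1 : ℕ) : ℂ) := by
      rw [Nat.cast_one]
      linear_combination -h1
    have h4 : ∑ χ ∈ F', charDegree (χ : G → ℂ) = 1 := by exact_mod_cast h3
    have h5 : F'.card ≤ ∑ χ ∈ F', charDegree (χ : G → ℂ) := by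
      calc F'.card = ∑ χ ∈ F', 1 := by simp
        _ ≤ _ := Finset.sum_le_sum fun χ _ => hdpos χ
    omega
  obtain ⟨ζ₂, hζ₂F, hζ₂t⟩ := hex2
  have h24 : ζ₂ ≠ ζ₄ := by
    intro h
    rw [h, hζ₄t] at hζ₂t
    norm_num at hζ₂t
  have hc1 : ((F'.erase ζ₂).erase ζ₄).card = 1 := by
    rw [Finset.card_erase_of_mem (Finset.mem_erase.mpr ⟨h24.symm, hζ₄F⟩),
      Finset.card_erase_of_mem hζ₂F, hF'3]
  obtain ⟨ζ₃, hζ₃⟩ := Finset.card_pos.mp (by rw [hc1]; norm_num)
  rw [Finset.mem_erase, Finset.mem_erase] at hζ₃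
  obtain ⟨h34, h32, hζ₃F⟩ := hζ₃
  have hF'eq : F' = {ζ₂, ζ₃, ζ₄} := by
    symm
    apply Finset.eq_of_subset_of_card_le
    · intro χ hχ
      simp only [Finset.mem_insert, Finset.mem_singleton] at hχ
      rcases hχ with rfl | rfl | rfl <;> assumption
    · rw [hF'3, Finset.card_insert_of_notMem, Finset.card_insert_of_notMem,
        Finset.card_singleton]
      · simp [h34]
      · simp [h32.symm, h24]
  obtain ⟨ε, hε, hεt⟩ : ∃ ε : ℤ, (ε = 1 ∨ ε = -1) ∧ (ζ₃ : G → ℂ) t = (ε : ℂ) := by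
    rcases hval ζ₃ ((hmemF' ζ₃).mp hζ₃F).2 with h | h
    · exact ⟨1, Or.inl rfl, by rw [h]; simp⟩
    · exact ⟨-1, Or.inr rfl, by rw [h]; simp⟩
  have hneT : ∀ χ : IrrCharacter G, χ ≠ triv G → (χ : G → ℂ) ≠ (fun _ => 1) := by
    intro χ hχ h
    apply hχ
    exact Subtype.ext h
  have hinv : ∀ (χ : IrrCharacter G) (z : G), orderOf z = 2 →
      (χ : G → ℂ) z = (χ : G → ℂ) t := by
    intro χ z hz
    obtain ⟨c, hc⟩ := isConj_iff.mp (hone z t hz ht)
    rw [← hc, char_isClassFunction (isCharacter_of_irr χ.2)]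
  have hmod : ∀ (χ : IrrCharacter G) (e : ℤ), (χ : G → ℂ) t = (e : ℂ) →
      (4 : ℤ) ∣ (charDegree (χ : G → ℂ) : ℤ) - e := by
    intro χ e he
    obtain ⟨n, hn, hn4⟩ := value_at_invol P hP hexp hone t ht χ
    have hne : n = e := by
      rw [he] at hn
      exact_mod_cast hn.symm
    rw [← hne]
    exact hn4
  refine ⟨ζ₂, ζ₃, ζ₄, ε, hε, hneT ζ₂ ((hmemF' ζ₂).mp hζ₂F).1, hneT ζ₃ ((hmemF' ζ₃).mp hζ₃F).1,
    h32.symm, h24, h34, ?_, ?_, ?_, hmod ζ₃ ε hεt, ?_, ?_⟩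
  · ext χ
    constructor
    · intro hχ
      by_cases h : χ = triv G
      · left
        rw [h]
        rfl
      · right
        have h1 : χ ∈ F' := (hmemF' χ).mpr ⟨h, hχ⟩
        rw [hF'eq] at h1
        simpa using h1
    · rintro (h | rfl | rfl | rfl)
      · have h1 : χ = triv G := Subtype.ext h
        rw [h1]
        exact triv_mem_principalBlock hMp
      · exact ((hmemF' _).mp hζ₂F).2
      · exact ((hmemF' _).mp hζ₃F).2
      · exact ((hmemF' _).mp hζ₄F).2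
  · intro z hz
    exact ⟨by rw [hinv ζ₂ z hz, hζ₂t], by rw [hinv ζ₃ z hz, hεt], by rw [hinv ζ₄ z hz, hζ₄t]⟩
  · have h1 := hmod ζ₂ 1 (by rw [hζ₂t]; simp)
    exact h1
  · have h1 := hmod ζ₄ (-1) (by rw [hζ₄t]; simp)
    simpa using h1
  · intro y hy
    have h2reg : ¬ 2 ∣ orderOf y := by
      intro h
      exact (Nat.not_even_iff_odd.mpr hy) (even_iff_two_dvd.mpr h)
    have h1 := hrel y h2reg
    rw [hF'eq, Finset.sum_insert (by simp [h32.symm, h24]),
      Finset.sum_insert (by simp [h34]), Finset.sum_singleton, hζ₂t, hεt, hζ₄t] at h1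
    linear_combination h1

end Cfsg.Agent.Lib.Helper75.KleinFour3
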