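import Mathlib
import Cfsg.Agent.Lib.Helper63.S66Stmt

set_option autoImplicit false

/-!
S1366, piece HALLKS (helper63's call): if all primes of `|K|` are in `σ(H)`, then `K*` is a Hall
`κ(H)`-subgroup of `H`.  Purely from the hypothesis pieces.
-/

namespace Cfsg.Agent.Lib.Helper75.S66HALLKS

universe u

open Cfsg Cfsg.Agent.Lib.Helper9.S51IStmt Cfsg.Agent.Lib.Helper63.S66Stmt

/-- elements of the join of two elementwise commuting subgroups are products -/
theorem mem_sup_comm {G : Type u} [Group G] (A B : Subgroup G)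
    (h : ∀ a ∈ A, ∀ b ∈ B, a * b = b * a) {g : G} (hg : g ∈ A ⊔ B) :
    ∃ a ∈ A, ∃ b ∈ B, g = a * b := by
  rw [Subgroup.sup_eq_closure] at hg
  induction hg using Subgroup.closure_induction with
  | mem x hx =>
    rcases hx with hx | hx
    · exact ⟨x, hx, 1, B.one_mem, (mul_one x).symm⟩
    · exact ⟨1, A.one_mem, x, hx, (one_mul x).symm⟩
  | one => exact ⟨1, A.one_mem, 1, B.one_mem, (mul_one 1).symm⟩
  | mul x y _ _ ihx ihy =>
    obtain ⟨a, ha, b, hb, rfl⟩ := ihx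
    obtain ⟨a', ha', b', hb', rfl⟩ := ihy
    refine ⟨a * a', A.mul_mem ha ha', b * b', B.mul_mem hb hb', ?_⟩
    calc a * b * (a' * b') = a * (b * a') * b' := by group
      _ = a * (a' * b) * b' := by rw [h a' ha' b hb]
      _ = a * a' * (b * b') := by group
  | inv x _ ih =>
    obtain ⟨a, ha, b, hb, rfl⟩ := ih
    refine ⟨a⁻¹, A.inv_mem ha, b⁻¹, B.inv_mem hb, ?_⟩
    rw [mul_inv_rev, h a⁻¹ (A.inv_mem ha) b⁻¹ (B.inv_mem hb)]

theorem main (hKCyc : KCyc.{u}) (hHallGe : HallGe.{u}) (hKsKap : KsKap.{u}) (hHallZ : HallZ.{u})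
    (hZLe : ZLe.{u}) : HallKs.{u} := by
  intro G _ _ hG M K U H x p cfg hall
  have hZ := hZLe hG M K U H x p cfg
  have hKsH : Ks M K ≤ H := le_trans le_sup_right hZ.1
  obtain ⟨K₁, hK₁, hle⟩ := hHallGe hG H (Ks M K) cfg.hH hKsH (hKsKap hG M K U H x p cfg)
  have hcyc : IsCyclic K₁ := hKCyc hG H cfg.hH K₁ hK₁
  obtain ⟨hK₁Z, -⟩ := hHallZ hG M K U H x p cfg K₁ hK₁ hcyc hle
  have hcomm : ∀ a ∈ K, ∀ b ∈ Ks M K, a * b = b * a := by
    intro a ha b hb
    have hb2 : b ∈ Subgroup.centralizer (K : Set G) := (Subgroup.mem_inf.mp hb).2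
    exact (Subgroup.mem_centralizer_iff.mp hb2 a ha)
  have hK₁le : K₁ ≤ Ks M K := by
    intro k₁ hk₁
    obtain ⟨k, hk, c, hc, rfl⟩ := mem_sup_comm K (Ks M K) hcomm (hK₁Z hk₁)
    have hkK₁ : k ∈ K₁ := by
      have h1 : k * c * c⁻¹ ∈ K₁ := K₁.mul_mem hk₁ (K₁.inv_mem (hle hc))
      rwa [mul_inv_cancel_right] at h1
    have hk1 : k = 1 := by
      by_contra hne
      have hord : orderOf k ≠ 1 := fun h => hne (orderOf_eq_one_iff.mp h)
      obtain ⟨q, hq, hqd⟩ := Nat.exists_prime_and_dvd hord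
      have h1 : q ∣ Nat.card K := hqd.trans (Subgroup.orderOf_dvd_natCard K hk)
      have h2 : q ∣ Nat.card K₁ := hqd.trans (Subgroup.orderOf_dvd_natCard K₁ hkK₁)
      have h3 : q ∈ Cfsg.sigma H := hall q hq h1
      have h4 : q ∈ Cfsg.kappa H := hK₁.2.1 q hq h2
      exact h4.2.2.1 h3
    rw [hk1, one_mul]
    exact hc
  have heq : K₁ = Ks M K := le_antisymm hK₁le hle
  rw [← heq]
  exact hK₁

end Cfsg.Agent.Lib.Helper75.S66HALLKS
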