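import Mathlib
import Cfsg.Prelude.Def_Blocks
import Cfsg.Agent.Lib.CT.Product
import Cfsg.Agent.Lib.Helper77.ClassSum

/-!
# Characters and conjugacy classes of a central product `G = U₁ U₂`, `[U₁, U₂] = 1`
-/

set_option autoImplicit false

namespace Cfsg.Agent.Lib.Helper75.CentralProd

open Cfsg Cfsg.Agent.Lib.CT Cfsg.Agent.Lib.CT.Wedderburn Cfsg.Agent.Lib.Helper77.ClassSum
open scoped ComplexConjugate

universe u
variable {G : Type u} [Group G]

/-- The multiplication map of two elementwise commuting subgroups. -/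
noncomputable def mulHom (U₁ U₂ : Subgroup G) (hcomm : ∀ u ∈ U₁, ∀ v ∈ U₂, u * v = v * u) :
    U₁ × U₂ →* G :=
  MonoidHom.noncommCoprod U₁.subtype U₂.subtype
    (fun u v => show Commute (U₁.subtype u) (U₂.subtype v) from hcomm u u.2 v v.2)

theorem mulHom_apply (U₁ U₂ : Subgroup G) (hcomm : ∀ u ∈ U₁, ∀ v ∈ U₂, u * v = v * u)
    (x : U₁ × U₂) : mulHom U₁ U₂ hcomm x = (x.1 : G) * (x.2 : G) := rfl

theorem mulHom_surjective (U₁ U₂ : Subgroup G) (hcomm : ∀ u ∈ U₁, ∀ v ∈ U₂, u * v = v * u)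
    (hgen : U₁ ⊔ U₂ = ⊤) : Function.Surjective (mulHom U₁ U₂ hcomm) := by
  rw [← MonoidHom.range_eq_top]
  unfold mulHom
  rw [MonoidHom.noncommCoprod_range, Subgroup.range_subtype, Subgroup.range_subtype, hgen]

/-- Every irreducible character of a central product is a product of irreducible characters of
the two factors. -/
theorem exists_factor [Finite G] (U₁ U₂ : Subgroup G)
    (hcomm : ∀ u ∈ U₁, ∀ v ∈ U₂, u * v = v * u) (hgen : U₁ ⊔ U₂ = ⊤) (χ : IrrCharacter G) :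
    ∃ (φ₁ : IrrCharacter U₁) (φ₂ : IrrCharacter U₂), ∀ (u : U₁) (v : U₂),
      (χ : G → ℂ) ((u : G) * (v : G)) = (φ₁ : U₁ → ℂ) u * (φ₂ : U₂ → ℂ) v := by
  have h1 : IsIrrCharacter (U₁ × U₂) (fun x => (χ : G → ℂ) (mulHom U₁ U₂ hcomm x)) :=
    Ops.isIrrCharacter_comp_surjective (mulHom U₁ U₂ hcomm)
      (mulHom_surjective U₁ U₂ hcomm hgen) χ.2
  obtain ⟨φ, ψ, hφ, hψ, heq⟩ := (Product.isIrrCharacter_prod_iff _).mp h1
  refine ⟨⟨φ, hφ⟩, ⟨ψ, hψ⟩, fun u v => ?_⟩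
  exact congrFun heq (u, v)

/-- Conjugation in a central product is componentwise. -/
theorem conj_mul (U₁ U₂ : Subgroup G) (hcomm : ∀ u ∈ U₁, ∀ v ∈ U₂, u * v = v * u)
    {a u b v : G} (ha : a ∈ U₁) (hu : u ∈ U₁) (hb : b ∈ U₂) (hv : v ∈ U₂) :
    (a * b) * (u * v) * (a * b)⁻¹ = (a * u * a⁻¹) * (b * v * b⁻¹) := by
  have h1 : b * u = u * b := (hcomm u hu b hb).symm
  have h2 : a⁻¹ * (b * v * b⁻¹) = (b * v * b⁻¹) * a⁻¹ :=
    hcomm a⁻¹ (U₁.inv_mem ha) _ (U₂.mul_mem (U₂.mul_mem hb hv) (U₂.inv_mem hb))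
  calc (a * b) * (u * v) * (a * b)⁻¹ = a * (b * u) * v * b⁻¹ * a⁻¹ := by group
    _ = a * (u * b) * v * b⁻¹ * a⁻¹ := by rw [h1]
    _ = a * u * ((b * v * b⁻¹) * a⁻¹) := by group
    _ = a * u * (a⁻¹ * (b * v * b⁻¹)) := by rw [h2]
    _ = (a * u * a⁻¹) * (b * v * b⁻¹) := by group

/-- Class sizes in a central product multiply, when multiplication is injective on the product
of the two classes. -/
theorem index_centralizer_mul [Finite G] (U₁ U₂ : Subgroup G)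
    (hcomm : ∀ u ∈ U₁, ∀ v ∈ U₂, u * v = v * u) (hgen : U₁ ⊔ U₂ = ⊤) (u : U₁) (v : U₂)
    (hinj : ∀ (k₁ k₁' : U₁) (k₂ k₂' : U₂), IsConj u k₁ → IsConj u k₁' → IsConj v k₂ →
      IsConj v k₂' → (k₁ : G) * (k₂ : G) = (k₁' : G) * (k₂' : G) → k₁ = k₁' ∧ k₂ = k₂') :
    (Subgroup.centralizer ({(u : G) * (v : G)} : Set G)).index =
      (Subgroup.centralizer ({u} : Set U₁)).index * (Subgroup.centralizer ({v} : Set U₂)).index := by
  classical
  have := Fintype.ofFinite G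
  rw [← card_conj_eq_index, ← card_conj_eq_index, ← card_conj_eq_index, ← Finset.card_product]
  have himg : (Finset.univ.filter fun k : G => IsConj ((u : G) * (v : G)) k) =
      ((Finset.univ.filter fun k : U₁ => IsConj u k) ×ˢ
        (Finset.univ.filter fun k : U₂ => IsConj v k)).image
        (fun q : U₁ × U₂ => (q.1 : G) * (q.2 : G)) := by
    ext k
    simp only [Finset.mem_filter, Finset.mem_univ, true_and, Finset.mem_image,
      Finset.mem_product, Prod.exists]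
    constructor
    · intro hk
      obtain ⟨g, hg⟩ := isConj_iff.mp hk
      obtain ⟨⟨a, b⟩, hab⟩ := mulHom_surjective U₁ U₂ hcomm hgen g
      rw [mulHom_apply] at hab
      simp only at hab
      refine ⟨a * u * a⁻¹, b * v * b⁻¹, ⟨isConj_iff.mpr ⟨a, rfl⟩, isConj_iff.mpr ⟨b, rfl⟩⟩, ?_⟩
      rw [← hg, ← hab, conj_mul U₁ U₂ hcomm a.2 u.2 b.2 v.2]
      rfl
    · rintro ⟨k₁, k₂, ⟨h1, h2⟩, rfl⟩
      obtain ⟨a, ha⟩ := isConj_iff.mp h1
      obtain ⟨b, hb⟩ := isConj_iff.mp h2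
      refine isConj_iff.mpr ⟨(a : G) * (b : G), ?_⟩
      rw [conj_mul U₁ U₂ hcomm a.2 u.2 b.2 v.2, ← ha, ← hb]
      rfl
  rw [himg]
  apply Finset.card_image_of_injOn
  rintro ⟨k₁, k₂⟩ hk ⟨k₁', k₂'⟩ hk' heq
  simp only [Finset.coe_product, Finset.coe_filter, Finset.mem_univ, true_and, Set.mem_prod,
    Set.mem_ofPred_eq] at hk hk'
  obtain ⟨e1, e2⟩ := hinj k₁ k₁' k₂ k₂' hk.1 hk'.1 hk.2 hk'.2 heq
  rw [e1, e2]

end Cfsg.Agent.Lib.Helper75.CentralProd
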