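import Mathlib
import Cfsg.Prelude.Def_Blocks
import Cfsg.Prelude.Def_BlockRank
import Cfsg.Agent.S0924
import Cfsg.Agent.Lib.CT.Kernel
import Cfsg.Agent.Lib.CT.SectionOrth
import Cfsg.Agent.Lib.CT.DefectZeroBlock
import Cfsg.Agent.Lib.Helper16.QuotP
import Cfsg.Agent.Lib.Helper16.MinMax
import Cfsg.Agent.Lib.Helper16.Defect
import Cfsg.Agent.Lib.Helper75.Section
import Cfsg.Agent.Lib.Helper75.NumMinMax
import Cfsg.Agent.Lib.Helper26.GenChar

/-!
Blocks with a central defect group of order two (namespace `Cfsg.Agent.Lib.Helper75.DefOne`).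
Let `z` be a central involution of the finite group `H` and `b` a `2`-block of `H` with defect group
`⟨z⟩`.  Then `b` consists of exactly two characters `θ, θ'`, with `z` in the kernel of `θ` only, and
they agree on the elements of odd order.
-/

set_option autoImplicit false

namespace Cfsg.Agent.Lib.Helper75.DefOne

open Cfsg
open Cfsg.Agent.Lib.CT.Wedderburn Cfsg.Agent.Lib.CT.Orth Cfsg.Agent.Lib.Helper75.Section
  Cfsg.Agent.Lib.CT.DefectZeroBlock Cfsg.Agent.Lib.Helper77.LocalRing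
  Cfsg.Agent.Lib.CT.SectionOrth
open scoped ComplexConjugate

universe u
variable {H : Type u} [Group H]

/-- `finsum` over a set as a `Finset.sum` of an `if`. -/
theorem finsum_mem_eq_sum {α : Type*} [Fintype α] (s : Set α) [DecidablePred (· ∈ s)]
    (F : α → ℂ) : ∑ᶠ a ∈ s, F a = ∑ a : α, if a ∈ s then F a else 0 := by
  rw [finsum_mem_def, finsum_eq_sum_of_fintype]
  refine Finset.sum_congr rfl fun a _ => ?_
  by_cases ha : a ∈ s
  · rw [Set.indicator_of_mem ha, if_pos ha]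
  · rw [Set.indicator_of_notMem ha, if_neg ha]

/-- Sum of an `if` over a two element set. -/
theorem sum_ite_pair {α : Type*} [Fintype α] [DecidableEq α] (s : Set α) [DecidablePred (· ∈ s)]
    (a b : α) (hab : a ≠ b) (ha : a ∈ s) (hb : b ∈ s) (hs : ∀ c ∈ s, c = a ∨ c = b)
    (F : α → ℂ) : ∑ c : α, (if c ∈ s then F c else 0) = F a + F b := by
  have h1 : ∀ c : α, (if c ∈ s then F c else 0) =
      (if c = a then F a else 0) + (if c = b then F b else 0) := by
    intro c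
    by_cases hc : c ∈ s
    · rcases hs c hc with rfl | rfl
      · rw [if_pos hc, if_pos rfl, if_neg hab, add_zero]
      · rw [if_pos hc, if_neg (Ne.symm hab), if_pos rfl, zero_add]
    · rw [if_neg hc, if_neg (fun h : c = a => hc (h ▸ ha)), if_neg (fun h : c = b => hc (h ▸ hb)),
        add_zero]
  rw [Finset.sum_congr rfl (fun c _ => h1 c), Finset.sum_add_distrib,
    Finset.sum_ite_eq' Finset.univ a, Finset.sum_ite_eq' Finset.univ b,
    if_pos (Finset.mem_univ _), if_pos (Finset.mem_univ _)]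

/-- An element of the group generated by an involution is trivial or the involution. -/
theorem eq_one_or_eq_of_mem_zpowers {z u : H} (hz : orderOf z = 2) (hu : u ∈ Subgroup.zpowers z) :
    u = 1 ∨ u = z := by
  obtain ⟨k, rfl⟩ := Subgroup.mem_zpowers_iff.1 hu
  rw [← zpow_mod_orderOf, hz]
  rcases Int.emod_two_eq_zero_or_one k with h | h
  · left
    rw [show ((2 : ℕ) : ℤ) = 2 from rfl, h, zpow_zero]
  · right
    rw [show ((2 : ℕ) : ℤ) = 2 from rfl, h, zpow_one]

theorem mul_self_of_orderOf_two {z : H} (hz : orderOf z = 2) : z * z = 1 := by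
  rw [← pow_two, ← hz, pow_orderOf_eq_one]

theorem ne_one_of_orderOf_two {z : H} (hz : orderOf z = 2) : z ≠ 1 := by
  rintro rfl
  rw [orderOf_one] at hz
  omega

/-- The product of a central involution and an element of odd order has even order. -/
theorem singular_mul {z c : H} (hz : orderOf z = 2) (hzc : Commute z c)
    (hc : ¬ 2 ∣ orderOf c) : 2 ∣ orderOf (z * c) := by
  have hcop : Nat.Coprime (orderOf z) (orderOf c) := by
    rw [hz]
    exact (Nat.Prime.coprime_iff_not_dvd Nat.prime_two).2 hc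
  rw [hzc.orderOf_mul_eq_mul_orderOf_of_coprime hcop, hz]
  exact dvd_mul_right 2 _

/-- Conjugation fixes the elements of the group generated by a central element. -/
theorem conj_eq_of_mem_zpowers {z : H} (hzc : ∀ c : H, z * c = c * z) {w : H}
    (hw : w ∈ Subgroup.zpowers z) (t : H) : t * w * t⁻¹ = w := by
  obtain ⟨k, rfl⟩ := Subgroup.mem_zpowers_iff.1 hw
  have h1 : Commute (z ^ k) t := (show Commute z t from hzc t).zpow_left k
  rw [← h1.eq, mul_inv_cancel_right]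

/-- A character of a block with defect group `⟨z⟩`, `z` a central involution, vanishes at `c`
unless `c` or `z * c` has odd order. -/
theorem regular_or_of_ne_zero [Finite H] (M : Ideal AlgInt) (hM : IsPModular 2 M) (z : H)
    (hz : orderOf z = 2) (hzc : ∀ c : H, z * c = c * z) (b : Set (IrrCharacter H))
    (hb : IsPBlock M b) (hD : IsDefectGroup 2 M b (Subgroup.zpowers z)) (ψ : IrrCharacter H)
    (hψ : ψ ∈ b) (c : H) (hc : (ψ : H → ℂ) c ≠ 0) :
    ¬ 2 ∣ orderOf c ∨ ¬ 2 ∣ orderOf (z * c) := by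
  haveI : Fact (Nat.Prime 2) := ⟨Nat.prime_two⟩
  have hMp := isPrime_of_isPModular hM
  obtain ⟨u, hu⟩ := exists_isPPart 2 Nat.prime_two c
  by_contra hcon
  rw [not_or, not_not, not_not] at hcon
  apply hc
  apply Cfsg.Agent.S0924.result 2 M hM ψ c u hu
  intro D hDb hmem
  rw [← eq_blockOf_of_mem hMp hb hψ] at hDb
  obtain ⟨t, ht⟩ := Cfsg.Agent.Lib.Helper16.MinMax.defectGroup_conj hM b hb hD hDb
  have huz : u ∈ Subgroup.zpowers z := by
    rw [ht] at hmem
    obtain ⟨w, hw, hwu⟩ := Subgroup.mem_map.1 hmem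
    have h1 : t * w * t⁻¹ = u := hwu
    rw [conj_eq_of_mem_zpowers hzc hw t] at h1
    rw [← h1]
    exact hw
  obtain ⟨v, huv, -, -, hv⟩ := hu
  rcases eq_one_or_eq_of_mem_zpowers hz huz with h1 | h1
  · rw [h1, one_mul] at huv
    rw [huv] at hv
    exact hv hcon.1
  · rw [h1] at huv
    have h2 : z * c = v := by
      rw [← huv, ← mul_assoc, mul_self_of_orderOf_two hz, one_mul]
    rw [h2] at hcon
    exact hv hcon.2

/-- A central involution acts on an irreducible character through a sign. -/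
theorem exists_sign [Finite H] (z : H) (hz : orderOf z = 2) (hzc : ∀ c : H, z * c = c * z)
    (ψ : IrrCharacter H) :
    ∃ s : ℂ, (s = 1 ∨ s = -1) ∧ ∀ c, (ψ : H → ℂ) (z * c) = s * (ψ : H → ℂ) c := by
  have hzcen : z ∈ Subgroup.center H := Subgroup.mem_center_iff.2 fun g => (hzc g).symm
  obtain ⟨ω, hω, -, -⟩ := Cfsg.Agent.Lib.CT.Kernel.exists_scalar_of_norm_eq
    (isCharacter_of_irr ψ.2) (Cfsg.Agent.Lib.CT.Kernel.norm_eq_of_mem_center ψ.2 hzcen)
  refine ⟨ω, ?_, hω⟩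
  have h1 : (ψ : H → ℂ) 1 = ω * ω * (ψ : H → ℂ) 1 := by
    have h2 := hω (z * 1)
    rw [hω 1, ← mul_assoc, mul_one, mul_self_of_orderOf_two hz] at h2
    rw [mul_assoc]
    exact h2
  have hne : (ψ : H → ℂ) 1 ≠ 0 := Cfsg.Agent.Lib.Helper77.CentralChar.irr_one_ne_zero ψ.2
  have h3 : ω * ω = 1 := by
    have h4 : (ω * ω - 1) * (ψ : H → ℂ) 1 = 0 := by rw [sub_mul, one_mul, ← h1, sub_self]
    rcases mul_eq_zero.1 h4 with h5 | h5
    · exact sub_eq_zero.1 h5
    · exact absurd h5 hne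
  exact mul_self_eq_one_iff.1 h3

/-- In a block with defect group `⟨z⟩`, `z` a central involution, there is at most one character
with `z` in its kernel. -/
theorem eq_of_sign_one [Finite H] (M : Ideal AlgInt) (hM : IsPModular 2 M) (z : H)
    (hz : orderOf z = 2) (hzc : ∀ c : H, z * c = c * z) (b : Set (IrrCharacter H))
    (hb : IsPBlock M b) (hD : IsDefectGroup 2 M b (Subgroup.zpowers z)) (θ ψ : IrrCharacter H)
    (hθ : θ ∈ b) (hψ : ψ ∈ b) (hθz : (θ : H → ℂ) z = (θ : H → ℂ) 1)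
    (hψz : (ψ : H → ℂ) z = (ψ : H → ℂ) 1) : ψ = θ := by
  haveI : Fact (Nat.Prime 2) := ⟨Nat.prime_two⟩
  have hMp := isPrime_of_isPModular hM
  haveI hZn : (Subgroup.zpowers z).Normal := ⟨fun n hn g => by
    rw [conj_eq_of_mem_zpowers hzc hn g]; exact hn⟩
  have hZθ : ∀ n ∈ Subgroup.zpowers z, (θ : H → ℂ) n = (θ : H → ℂ) 1 := by
    intro n hn
    rcases eq_one_or_eq_of_mem_zpowers hz hn with rfl | rfl
    · rfl
    · exact hθz
  have hZψ : ∀ n ∈ Subgroup.zpowers z, (ψ : H → ℂ) n = (ψ : H → ℂ) 1 := by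
    intro n hn
    rcases eq_one_or_eq_of_mem_zpowers hz hn with rfl | rfl
    · rfl
    · exact hψz
  obtain ⟨θb, hθb, hθbv⟩ := Cfsg.Agent.Lib.CT.Kernel.exists_quotient_irr
    (Subgroup.zpowers z) θ.2 hZθ
  obtain ⟨ψb, hψb, hψbv⟩ := Cfsg.Agent.Lib.CT.Kernel.exists_quotient_irr
    (Subgroup.zpowers z) ψ.2 hZψ
  have hsame : SameBlock M (θ : H → ℂ) (ψ : H → ℂ) := by
    have h1 : ψ ∈ blockOf M (θ : H → ℂ) := by
      rw [← eq_blockOf_of_mem hMp hb hθ]; exact hψ
    exact h1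
  have h1 : SameBlock M (fun g : H => θb (g : H ⧸ Subgroup.zpowers z))
      (fun g : H => ψb (g : H ⧸ Subgroup.zpowers z)) := by
    have e1 : (fun g : H => θb (g : H ⧸ Subgroup.zpowers z)) = (θ : H → ℂ) := funext hθbv
    have e2 : (fun g : H => ψb (g : H ⧸ Subgroup.zpowers z)) = (ψ : H → ℂ) := funext hψbv
    rw [e1, e2]
    exact hsame
  have hZp : IsPGroup 2 (Subgroup.zpowers z) :=
    IsPGroup.of_card (n := 1) (by rw [Nat.card_zpowers, hz]; rfl)
  have hCidx : (Subgroup.centralizer ((Subgroup.zpowers z : Subgroup H) : Set H)).index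
      = 2 ^ 0 := by
    have htop : Subgroup.centralizer ((Subgroup.zpowers z : Subgroup H) : Set H) = ⊤ := by
      rw [Subgroup.centralizer_eq_top_iff_subset]
      intro n hn
      rw [SetLike.mem_coe, Subgroup.mem_center_iff]
      intro g
      have := conj_eq_of_mem_zpowers hzc hn g
      rw [← this, inv_mul_cancel_right, this]
    rw [htop, Subgroup.index_top, pow_zero]
  have h2 := Cfsg.Agent.Lib.Helper16.QuotP.sameBlock_of_comp_mk_pGroup 2 hM
    (Subgroup.zpowers z) hZp hCidx ⟨θb, hθb⟩ ⟨ψb, hψb⟩ h1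
  -- `θb` has defect zero
  have hdeg : charDegree θb = charDegree (θ : H → ℂ) := by
    unfold charDegree
    rw [← hθbv 1, QuotientGroup.mk_one]
  have hcardH : Nat.card H = Nat.card (H ⧸ Subgroup.zpowers z) * 2 := by
    rw [Subgroup.card_eq_card_quotient_mul_card_subgroup (Subgroup.zpowers z), Nat.card_zpowers,
      hz]
  have hbd : blockDefect 2 b = 1 := by
    have h3 := Cfsg.Agent.Lib.Helper16.Defect.card_defectGroup 2 hM b hb _ hD
    rw [Nat.card_zpowers, hz] at h3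
    have h4 : 2 ^ 1 = 2 ^ blockDefect 2 b := by rw [pow_one]; exact h3
    exact (Nat.pow_right_injective (le_refl 2) h4).symm
  obtain ⟨e, he1, he2, -⟩ := Cfsg.Agent.Lib.Helper75.NumMinMax.exists_defect_data 2 b ⟨θ, hθ⟩
  have hq0 : Nat.card (H ⧸ Subgroup.zpowers z) ≠ 0 := Nat.card_pos.ne'
  have hfac : (Nat.card H).factorization 2 =
      (Nat.card (H ⧸ Subgroup.zpowers z)).factorization 2 + 1 := by
    rw [hcardH, Nat.factorization_mul hq0 (by norm_num), Finsupp.add_apply,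
      Nat.Prime.factorization_self Nat.prime_two]
  have hdeg0 : charDegree (θ : H → ℂ) ≠ 0 := (irr_charDegree_pos θ.2).ne'
  have hle1 : e ≤ (charDegree (θ : H → ℂ)).factorization 2 :=
    (Nat.Prime.pow_dvd_iff_le_factorization Nat.prime_two hdeg0).1 (he2 θ hθ)
  have hle2 := factorization_charDegree_le 2 (⟨θb, hθb⟩ : IrrCharacter (H ⧸ Subgroup.zpowers z))
  have hdef : (charDegree θb).factorization 2 =
      (Nat.card (H ⧸ Subgroup.zpowers z)).factorization 2 := by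
    have hle2' : (charDegree θb).factorization 2 ≤
        (Nat.card (H ⧸ Subgroup.zpowers z)).factorization 2 := hle2
    rw [hdeg] at hle2' ⊢
    omega
  have h3 := blockOf_eq_singleton_of_defect_zero hM
    (⟨θb, hθb⟩ : IrrCharacter (H ⧸ Subgroup.zpowers z)) hdef
  have h4 : (⟨ψb, hψb⟩ : IrrCharacter (H ⧸ Subgroup.zpowers z)) ∈ blockOf M θb := h2
  have h5 : (blockOf M θb : Set (IrrCharacter (H ⧸ Subgroup.zpowers z))) = {⟨θb, hθb⟩} := h3
  rw [h5, Set.mem_singleton_iff] at h4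
  have h6 : ψb = θb := congrArg Subtype.val h4
  apply Subtype.ext
  funext g
  rw [← hψbv g, ← hθbv g, h6]

theorem pRegularPart_congr (p : ℕ) {f g : H → ℂ} (h : ∀ y : H, ¬ p ∣ orderOf y → f y = g y) :
    pRegularPart p f = pRegularPart p g := by
  funext y
  by_cases hy : p ∣ orderOf y
  · rw [pRegularPart_of_singular p _ hy, pRegularPart_of_singular p _ hy]
  · rw [pRegularPart_of_regular p _ hy, pRegularPart_of_regular p _ hy, h y hy]

/-- Decomposition of the inner product of two characters of a block with defect group `⟨z⟩`,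
`z` a central involution. -/
theorem classInner_eq [Fintype H] (M : Ideal AlgInt) (hM : IsPModular 2 M) (z : H)
    (hz : orderOf z = 2) (hzc : ∀ c : H, z * c = c * z) (b : Set (IrrCharacter H))
    (hb : IsPBlock M b) (hD : IsDefectGroup 2 M b (Subgroup.zpowers z)) (ψ ψ' : IrrCharacter H)
    (hψ : ψ ∈ b) (s s' : ℂ) (hs : s = 1 ∨ s = -1) (hs' : s' = 1 ∨ s' = -1)
    (hsψ : ∀ c, (ψ : H → ℂ) (z * c) = s * (ψ : H → ℂ) c)
    (hsψ' : ∀ c, (ψ' : H → ℂ) (z * c) = s' * (ψ' : H → ℂ) c) :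
    classInner (ψ : H → ℂ) (ψ' : H → ℂ) = (1 + s * s') *
      classInner (pRegularPart 2 (ψ : H → ℂ)) (pRegularPart 2 (ψ' : H → ℂ)) := by
  have hss : s * s = 1 := by rcases hs with rfl | rfl <;> norm_num
  have hs's' : s' * s' = 1 := by rcases hs' with rfl | rfl <;> norm_num
  have hs'c : conj s' = s' := by rcases hs' with rfl | rfl <;> simp
  have hpt : ∀ c : H, (ψ : H → ℂ) c * conj ((ψ' : H → ℂ) c) =
      pRegularPart 2 (ψ : H → ℂ) c * conj (pRegularPart 2 (ψ' : H → ℂ) c) +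
        s * s' * (pRegularPart 2 (ψ : H → ℂ) (z * c) *
          conj (pRegularPart 2 (ψ' : H → ℂ) (z * c))) := by
    intro c
    by_cases hc : 2 ∣ orderOf c
    · have e1 : pRegularPart 2 (ψ : H → ℂ) c = 0 := pRegularPart_of_singular 2 _ hc
      by_cases hzc' : 2 ∣ orderOf (z * c)
      · have h0 : (ψ : H → ℂ) c = 0 := by
          by_contra hne
          rcases regular_or_of_ne_zero M hM z hz hzc b hb hD ψ hψ c hne with h | h
          · exact h hc
          · exact h hzc'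
        have e3 : pRegularPart 2 (ψ : H → ℂ) (z * c) = 0 := pRegularPart_of_singular 2 _ hzc'
        rw [h0, e1, e3]
        ring
      · have e3 : pRegularPart 2 (ψ : H → ℂ) (z * c) = s * (ψ : H → ℂ) c := by
          rw [pRegularPart_of_regular 2 _ hzc', hsψ c]
        have e4 : pRegularPart 2 (ψ' : H → ℂ) (z * c) = s' * (ψ' : H → ℂ) c := by
          rw [pRegularPart_of_regular 2 _ hzc', hsψ' c]
        rw [e1, e3, e4, map_mul, hs'c]
        linear_combination (-(s' * s') * ((ψ : H → ℂ) c * conj ((ψ' : H → ℂ) c))) * hss +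
          (-((ψ : H → ℂ) c * conj ((ψ' : H → ℂ) c))) * hs's'
    · have hzc' : 2 ∣ orderOf (z * c) := singular_mul hz (hzc c) hc
      have e1 : pRegularPart 2 (ψ : H → ℂ) c = (ψ : H → ℂ) c := pRegularPart_of_regular 2 _ hc
      have e2 : pRegularPart 2 (ψ' : H → ℂ) c = (ψ' : H → ℂ) c := pRegularPart_of_regular 2 _ hc
      have e3 : pRegularPart 2 (ψ : H → ℂ) (z * c) = 0 := pRegularPart_of_singular 2 _ hzc'
      rw [e1, e2, e3]
      ring
  have h2 : ∑ c : H, pRegularPart 2 (ψ : H → ℂ) (z * c) *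
      conj (pRegularPart 2 (ψ' : H → ℂ) (z * c)) =
      ∑ c : H, pRegularPart 2 (ψ : H → ℂ) c * conj (pRegularPart 2 (ψ' : H → ℂ) c) :=
    Equiv.sum_comp (Equiv.mulLeft z)
      (fun c => pRegularPart 2 (ψ : H → ℂ) c * conj (pRegularPart 2 (ψ' : H → ℂ) c))
  unfold classInner
  rw [Finset.sum_congr rfl (fun c _ => hpt c), Finset.sum_add_distrib, ← Finset.mul_sum, h2]
  ring

/-- **Blocks with a central defect group of order two.** -/
theorem main [Fintype H] (M : Ideal AlgInt) (hM : IsPModular 2 M) (z : H)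
    (hz : orderOf z = 2) (hzc : ∀ c : H, z * c = c * z) (b : Set (IrrCharacter H))
    (hb : IsPBlock M b) (hD : IsDefectGroup 2 M b (Subgroup.zpowers z)) (θ : IrrCharacter H)
    (hθ : θ ∈ b) (hθz : (θ : H → ℂ) z = (θ : H → ℂ) 1) :
    ∃ θ' : IrrCharacter H, θ' ∈ b ∧ θ' ≠ θ ∧ (∀ ψ ∈ b, ψ = θ ∨ ψ = θ') ∧
      (∀ y : H, ¬ 2 ∣ orderOf y → (θ' : H → ℂ) y = (θ : H → ℂ) y) ∧
      (∀ c : H, (θ : H → ℂ) (z * c) = (θ : H → ℂ) c) ∧
      (∀ c : H, (θ' : H → ℂ) (z * c) = -(θ' : H → ℂ) c) ∧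
      classInner (pRegularPart 2 (θ : H → ℂ)) (pRegularPart 2 (θ : H → ℂ)) = 1 / 2 := by
  classical
  have hMp := isPrime_of_isPModular hM
  haveI := finite_irrCharacter H
  haveI := Fintype.ofFinite (IrrCharacter H)
  choose σ hσ1 hσ2 using fun ψ : IrrCharacter H => exists_sign z hz hzc ψ
  have hne1 : ∀ ψ : IrrCharacter H, (ψ : H → ℂ) 1 ≠ 0 := fun ψ =>
    Cfsg.Agent.Lib.Helper77.CentralChar.irr_one_ne_zero ψ.2
  have hσθ : σ θ = 1 := by
    have h1 := hσ2 θ 1
    rw [mul_one, hθz] at h1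
    have h2 : (σ θ - 1) * (θ : H → ℂ) 1 = 0 := by rw [sub_mul, one_mul, ← h1, sub_self]
    rcases mul_eq_zero.1 h2 with h | h
    · exact sub_eq_zero.1 h
    · exact absurd h (hne1 θ)
  have hσb : ∀ ψ ∈ b, ψ ≠ θ → σ ψ = -1 := by
    intro ψ hψ hne
    rcases hσ1 ψ with h | h
    · exfalso
      apply hne
      apply eq_of_sign_one M hM z hz hzc b hb hD θ ψ hθ hψ hθz
      have h1 := hσ2 ψ 1
      rw [mul_one, h, one_mul] at h1
      exact h1
    · exact h
  have hin : ∀ ψ ∈ b, ∀ ψ' : IrrCharacter H, classInner (ψ : H → ℂ) (ψ' : H → ℂ) =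
      (1 + σ ψ * σ ψ') * classInner (pRegularPart 2 (ψ : H → ℂ)) (pRegularPart 2 (ψ' : H → ℂ)) :=
    fun ψ hψ ψ' => classInner_eq M hM z hz hzc b hb hD ψ ψ' hψ (σ ψ) (σ ψ') (hσ1 ψ) (hσ1 ψ')
      (hσ2 ψ) (hσ2 ψ')
  have hn1 : ∀ ψ ∈ b, classInner (pRegularPart 2 (ψ : H → ℂ)) (pRegularPart 2 (ψ : H → ℂ))
      = 1 / 2 := by
    intro ψ hψ
    have h1 := hin ψ hψ ψ
    rw [irr_orthonormal, if_pos rfl] at h1
    have h2 : σ ψ * σ ψ = 1 := by rcases hσ1 ψ with h | h <;> rw [h] <;> norm_num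
    rw [h2] at h1
    linear_combination (-1 / 2 : ℂ) * h1
  have hn2 : ∀ ψ ∈ b, ∀ ψ' ∈ b, ψ ≠ θ → ψ' ≠ θ → ψ ≠ ψ' →
      classInner (pRegularPart 2 (ψ : H → ℂ)) (pRegularPart 2 (ψ' : H → ℂ)) = 0 := by
    intro ψ hψ ψ' hψ' h1 h2 h3
    have h4 := hin ψ hψ ψ'
    rw [irr_orthonormal, if_neg h3, hσb ψ hψ h1, hσb ψ' hψ' h2] at h4
    linear_combination (-1 / 2 : ℂ) * h4
  have horth : ∀ y y' : H, ¬ 2 ∣ orderOf y → ¬ 2 ∣ orderOf y' →
      (θ : H → ℂ) y * conj ((θ : H → ℂ) y') = ∑ ψ : IrrCharacter H,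
        if (ψ ∈ b ∧ ψ ≠ θ) then (ψ : H → ℂ) y * conj ((ψ : H → ℂ) y') else 0 := by
    intro y y' hy hy'
    have h1 := section_orthogonality 2 M hM b hb (z * y) y' z 1
      ⟨y, rfl, hzc y, ⟨1, by rw [hz, pow_one]⟩, hy⟩
      ⟨y', one_mul y', Commute.one_left y', ⟨0, by rw [orderOf_one, pow_zero]⟩, hy'⟩
      (fun h => ne_one_of_orderOf_two hz (isConj_one_left.1 h))
    rw [finsum_mem_eq_sum] at h1
    have h2 : ∀ ψ : IrrCharacter H,
        (if ψ ∈ b then (ψ : H → ℂ) (z * y) * conj ((ψ : H → ℂ) y') else 0) =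
        (if ψ = θ then (θ : H → ℂ) y * conj ((θ : H → ℂ) y') else 0) -
          (if (ψ ∈ b ∧ ψ ≠ θ) then (ψ : H → ℂ) y * conj ((ψ : H → ℂ) y') else 0) := by
      intro ψ
      by_cases hψθ : ψ = θ
      · rw [hψθ, if_pos hθ, if_pos rfl, if_neg (fun h => h.2 rfl), sub_zero, hσ2 θ y, hσθ, one_mul]
      · by_cases hψ : ψ ∈ b
        · rw [if_pos hψ, if_neg hψθ, if_pos ⟨hψ, hψθ⟩, hσ2 ψ y, hσb ψ hψ hψθ]
          ring
        · rw [if_neg hψ, if_neg hψθ, if_neg (fun h => hψ h.1), sub_zero]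
    rw [Finset.sum_congr rfl (fun ψ _ => h2 ψ), Finset.sum_sub_distrib,
      Finset.sum_ite_eq' Finset.univ θ, if_pos (Finset.mem_univ _)] at h1
    exact sub_eq_zero.1 h1
  have horth' : ∀ y y' : H, ¬ 2 ∣ orderOf y' →
      pRegularPart 2 (θ : H → ℂ) y * conj ((θ : H → ℂ) y') = ∑ ψ : IrrCharacter H,
        if (ψ ∈ b ∧ ψ ≠ θ) then pRegularPart 2 (ψ : H → ℂ) y * conj ((ψ : H → ℂ) y') else 0 := by
    intro y y' hy'
    by_cases hy : 2 ∣ orderOf y
    · rw [pRegularPart_of_singular 2 _ hy, zero_mul]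
      symm
      apply Finset.sum_eq_zero
      intro ψ _
      split_ifs
      · rw [pRegularPart_of_singular 2 _ hy, zero_mul]
      · rfl
    · rw [pRegularPart_of_regular 2 _ hy, horth y y' hy hy']
      refine Finset.sum_congr rfl fun ψ _ => ?_
      rw [pRegularPart_of_regular 2 _ hy]
  have hkey : ∀ ψ₁ ∈ b, ψ₁ ≠ θ → ∀ y' : H, ¬ 2 ∣ orderOf y' →
      (ψ₁ : H → ℂ) y' = (θ : H → ℂ) y' := by
    intro ψ₁ hψ₁ hne
    have hA : ∀ y' : H, ¬ 2 ∣ orderOf y' →
        conj ((θ : H → ℂ) y') * classInner (pRegularPart 2 (θ : H → ℂ))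
          (pRegularPart 2 (ψ₁ : H → ℂ)) = conj ((ψ₁ : H → ℂ) y') * (1 / 2) := by
      intro y' hy'
      have hfun : (conj ((θ : H → ℂ) y')) • pRegularPart 2 (θ : H → ℂ) =
          ∑ ψ : IrrCharacter H, (if (ψ ∈ b ∧ ψ ≠ θ) then
            (conj ((ψ : H → ℂ) y')) • pRegularPart 2 (ψ : H → ℂ) else 0) := by
        funext y
        rw [Pi.smul_apply, smul_eq_mul, Finset.sum_apply, mul_comm, horth' y y' hy']
        refine Finset.sum_congr rfl fun ψ _ => ?_
        split_ifs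
        · rw [Pi.smul_apply, smul_eq_mul, mul_comm]
        · rfl
      have h1 := congrArg (fun f : H → ℂ => classInner f (pRegularPart 2 (ψ₁ : H → ℂ))) hfun
      beta_reduce at h1
      rw [classInner_smul_left, classInner_sum_left, Finset.sum_eq_single ψ₁] at h1
      · rw [h1, if_pos ⟨hψ₁, hne⟩, classInner_smul_left, hn1 ψ₁ hψ₁]
      · intro ψ _ hψne
        split_ifs with hc
        · rw [classInner_smul_left, hn2 ψ hc.1 ψ₁ hψ₁ hc.2 hne hψne, mul_zero]
        · exact classInner_zero_left _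
      · intro h
        exact absurd (Finset.mem_univ _) h
    set κ : ℂ := 2 * conj (classInner (pRegularPart 2 (θ : H → ℂ))
      (pRegularPart 2 (ψ₁ : H → ℂ))) with hκ
    have hB : ∀ y' : H, ¬ 2 ∣ orderOf y' → (ψ₁ : H → ℂ) y' = κ * (θ : H → ℂ) y' := by
      intro y' hy'
      have h1 := congrArg (starRingEnd ℂ) (hA y' hy')
      rw [map_mul, map_mul, Complex.conj_conj, Complex.conj_conj] at h1
      rw [hκ]
      have h2 : conj (1 / 2 : ℂ) = 1 / 2 := by
        rw [map_div₀, map_one]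
        congr 1
        exact Complex.conj_ofNat 2
      rw [h2] at h1
      linear_combination (-2 : ℂ) * h1
    have hreg1 : ¬ 2 ∣ orderOf (1 : H) := by rw [orderOf_one]; norm_num
    have hpart : pRegularPart 2 (ψ₁ : H → ℂ) = κ • pRegularPart 2 (θ : H → ℂ) := by
      funext y
      rw [Pi.smul_apply, smul_eq_mul]
      by_cases hy : 2 ∣ orderOf y
      · rw [pRegularPart_of_singular 2 _ hy, pRegularPart_of_singular 2 _ hy, mul_zero]
      · rw [pRegularPart_of_regular 2 _ hy, pRegularPart_of_regular 2 _ hy, hB y hy]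
    have hκκ : κ * conj κ = 1 := by
      have h1 := hn1 ψ₁ hψ₁
      rw [hpart, classInner_smul_left, Cfsg.Agent.Lib.Helper26.GenChar.classInner_smul_right,
        hn1 θ hθ] at h1
      linear_combination (2 : ℂ) * h1
    obtain ⟨n₁, hn₁pos, hn₁⟩ := irr_exists_apply_one_pos ψ₁.2
    obtain ⟨n₀, hn₀pos, hn₀⟩ := irr_exists_apply_one_pos θ.2
    have h1 := hB 1 hreg1
    rw [hn₁, hn₀] at h1
    have h2 : (n₁ : ℂ) * (n₁ : ℂ) = (n₀ : ℂ) * (n₀ : ℂ) := by
      have h3 := congrArg (starRingEnd ℂ) h1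
      rw [map_mul, Complex.conj_natCast, Complex.conj_natCast] at h3
      calc (n₁ : ℂ) * (n₁ : ℂ) = (κ * (n₀ : ℂ)) * (conj κ * (n₀ : ℂ)) := by rw [← h1, ← h3]
        _ = (κ * conj κ) * ((n₀ : ℂ) * (n₀ : ℂ)) := by ring
        _ = (n₀ : ℂ) * (n₀ : ℂ) := by rw [hκκ, one_mul]
    have h4 : n₁ * n₁ = n₀ * n₀ := by exact_mod_cast h2
    have h5 : n₁ = n₀ := Nat.mul_self_inj.1 h4
    have hκ1 : κ = 1 := by
      rw [h5] at h1
      have h6 : (κ - 1) * (n₀ : ℂ) = 0 := by rw [sub_mul, one_mul, ← h1, sub_self]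
      rcases mul_eq_zero.1 h6 with h | h
      · exact sub_eq_zero.1 h
      · exfalso
        have : n₀ = 0 := by exact_mod_cast h
        omega
    intro y' hy'
    rw [hB y' hy', hκ1, one_mul]
  have hreg1 : ¬ 2 ∣ orderOf (1 : H) := by rw [orderOf_one]; norm_num
  have hex : ∃ θ' : IrrCharacter H, θ' ∈ b ∧ θ' ≠ θ := by
    by_contra hcon
    have hcon' : ∀ ψ : IrrCharacter H, ψ ∈ b → ψ = θ := by
      intro ψ hψ
      by_contra hne
      exact hcon ⟨ψ, hψ, hne⟩
    have h1 := horth 1 1 hreg1 hreg1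
    rw [Finset.sum_eq_zero (fun ψ _ => if_neg (fun h => h.2 (hcon' ψ h.1)))] at h1
    rcases mul_eq_zero.1 h1 with h | h
    · exact hne1 θ h
    · exact hne1 θ ((map_eq_zero (starRingEnd ℂ)).1 h)
  obtain ⟨θ', hθ', hθ'ne⟩ := hex
  refine ⟨θ', hθ', hθ'ne, ?_, hkey θ' hθ' hθ'ne, ?_, ?_, hn1 θ hθ⟩
  · intro ψ hψ
    by_contra hcon
    rw [not_or] at hcon
    have h1 := hn2 ψ hψ θ' hθ' hcon.1 hθ'ne hcon.2
    rw [pRegularPart_congr 2 (hkey ψ hψ hcon.1), pRegularPart_congr 2 (hkey θ' hθ' hθ'ne),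
      hn1 θ hθ] at h1
    norm_num at h1
  · intro c
    rw [hσ2 θ c, hσθ, one_mul]
  · intro c
    rw [hσ2 θ' c, hσb θ' hθ' hθ'ne, neg_one_mul]

/-- With the notation of `main`: `θ - θ'` is twice the regular part of `θ` shifted by `z`. -/
theorem sub_eq [Finite H] (M : Ideal AlgInt) (hM : IsPModular 2 M) (z : H)
    (hz : orderOf z = 2) (hzc : ∀ c : H, z * c = c * z) (b : Set (IrrCharacter H))
    (hb : IsPBlock M b) (hD : IsDefectGroup 2 M b (Subgroup.zpowers z)) (θ θ' : IrrCharacter H)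
    (hθ : θ ∈ b) (hθ' : θ' ∈ b)
    (hreg : ∀ y : H, ¬ 2 ∣ orderOf y → (θ' : H → ℂ) y = (θ : H → ℂ) y)
    (hs : ∀ c : H, (θ : H → ℂ) (z * c) = (θ : H → ℂ) c)
    (hs' : ∀ c : H, (θ' : H → ℂ) (z * c) = -(θ' : H → ℂ) c) (c : H) :
    (θ : H → ℂ) c - (θ' : H → ℂ) c = 2 * pRegularPart 2 (θ : H → ℂ) (z * c) := by
  by_cases hzc' : 2 ∣ orderOf (z * c)
  · rw [pRegularPart_of_singular 2 _ hzc', mul_zero]
    by_cases hc : 2 ∣ orderOf c
    · have h0 : (θ : H → ℂ) c = 0 := by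
        by_contra hne
        rcases regular_or_of_ne_zero M hM z hz hzc b hb hD θ hθ c hne with h | h
        · exact h hc
        · exact h hzc'
      have h0' : (θ' : H → ℂ) c = 0 := by
        by_contra hne
        rcases regular_or_of_ne_zero M hM z hz hzc b hb hD θ' hθ' c hne with h | h
        · exact h hc
        · exact h hzc'
      rw [h0, h0', sub_zero]
    · rw [hreg c hc, sub_self]
  · rw [pRegularPart_of_regular 2 _ hzc']
    have h1 := hs' c
    rw [hreg _ hzc', hs c] at h1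
    rw [hs c]
    linear_combination (-1 : ℂ) * h1

end Cfsg.Agent.Lib.Helper75.DefOne
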