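import Mathlib
import Cfsg.Agent.Lib.Helper75.DefOne
import Cfsg.Agent.Lib.Helper75.Section3
import Cfsg.Agent.Lib.Helper16.FirstMain
import Cfsg.Agent.Lib.Helper16.IndBlock
import Cfsg.Agent.Lib.CT.Clifford
import Cfsg.Agent.Lib.CT.Ops

/-!
Blocks of defect one for `p = 2` (namespace `Cfsg.Agent.Lib.Helper75.DefOne2`): a `2`-block `B` of
`G` with defect group `⟨x⟩` of order two consists of two characters, which agree on the elements
of odd order and satisfy `χᵢ(x y) = εᵢ θ(y)` on the odd order elements `y` of `C_G(x)`.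
-/

set_option autoImplicit false

namespace Cfsg.Agent.Lib.Helper75.DefOne2

open Cfsg
open Cfsg.Agent.Lib.CT.Wedderburn Cfsg.Agent.Lib.CT.Orth Cfsg.Agent.Lib.Helper75.Section
  Cfsg.Agent.Lib.Helper75.Section3
  Cfsg.Agent.Lib.CT.DefectZeroBlock Cfsg.Agent.Lib.Helper77.LocalRing
  Cfsg.Agent.Lib.CT.SectionOrth Cfsg.Agent.Lib.Helper77.DefectClass
open scoped ComplexConjugate

universe u
variable {G : Type u} [Group G]

/-- `x` as an element of its centralizer. -/
def xc (x : G) : Subgroup.centralizer ({x} : Set G) :=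
  ⟨x, Subgroup.mem_centralizer_singleton_iff.2 rfl⟩

theorem coe_xc (x : G) : ((xc x : Subgroup.centralizer ({x} : Set G)) : G) = x := rfl

theorem orderOf_xc (x : G) : orderOf (xc x) = orderOf x := by
  rw [← Subgroup.orderOf_coe]
  rfl

theorem xc_mul (x : G) (c : Subgroup.centralizer ({x} : Set G)) : xc x * c = c * xc x :=
  Subtype.ext (Subgroup.mem_centralizer_singleton_iff.1 c.2).symm

/-- Uniqueness in the first main theorem, for a subgroup equal to the normalizer. -/
theorem unique_of_eq_normalizer [Finite G] (p : ℕ) [Fact p.Prime] {M : Ideal AlgInt}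
    (hM : IsPModular p M) (D : Subgroup G) (B : Set (IrrCharacter G)) (Hs : Subgroup G)
    (hH : Hs = Subgroup.normalizer (D : Set G)) (b₁ b₂ : Set (IrrCharacter Hs))
    (hD1 : IsDefectGroup p M b₁ (D.subgroupOf Hs)) (h1 : IsInducedBlock M Hs b₁ B)
    (h2 : IsInducedBlock M Hs b₂ B) : b₁ = b₂ := by
  subst hH
  exact Cfsg.Agent.Lib.Helper16.FirstMain.block_normalizer_unique p hM D B b₁ b₂ hD1 h1 h2

/-- The centralizer of an involution is the normalizer of the group it generates. -/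
theorem centralizer_eq_normalizer {x : G} (hx : orderOf x = 2) :
    Subgroup.centralizer ({x} : Set G) =
      Subgroup.normalizer ((Subgroup.zpowers x : Subgroup G) : Set G) := by
  ext g
  rw [Subgroup.mem_centralizer_singleton_iff, Subgroup.mem_normalizer_iff]
  constructor
  · intro hg h
    have hcomm : ∀ w ∈ Subgroup.zpowers x, g * w * g⁻¹ = w := by
      intro w hw
      obtain ⟨k, rfl⟩ := Subgroup.mem_zpowers_iff.1 hw
      have h1 : Commute g (x ^ k) := (show Commute g x from hg).zpow_right k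
      rw [h1.eq, mul_inv_cancel_right]
    constructor
    · intro hh
      rw [hcomm h hh]
      exact hh
    · intro hh
      have h2 : g⁻¹ * (g * h * g⁻¹) * g = g * h * g⁻¹ := by
        obtain ⟨k, hk⟩ := Subgroup.mem_zpowers_iff.1 hh
        have h1 : Commute g (x ^ k) := (show Commute g x from hg).zpow_right k
        rw [← hk, mul_assoc, ← h1.eq, inv_mul_cancel_left]
      have h3 : g⁻¹ * (g * h * g⁻¹) * g = h := by group
      rw [← h3, h2]
      exact hh
  · intro hg
    have h1 : g * x * g⁻¹ ∈ Subgroup.zpowers x := (hg x).1 (Subgroup.mem_zpowers x)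
    rcases DefOne.eq_one_or_eq_of_mem_zpowers hx h1 with h2 | h2
    · exfalso
      have h3 : x = g⁻¹ * (g * x * g⁻¹) * g := by group
      rw [h2] at h3
      exact DefOne.ne_one_of_orderOf_two hx (by rw [h3]; group)
    · calc g * x = g * x * g⁻¹ * g := by group
        _ = x * g := by rw [h2]

/-- The block of `C_G(x)` inducing a block with defect group `⟨x⟩` has defect group `⟨x⟩`. -/
theorem defectGroup_centralizer [Finite G] (M : Ideal AlgInt) (hM : IsPModular 2 M) (x : G)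
    (hx : orderOf x = 2) (B : Set (IrrCharacter G)) (hB : IsPBlock M B)
    (hBD : IsDefectGroup 2 M B (Subgroup.zpowers x))
    (b : Set (IrrCharacter (Subgroup.centralizer ({x} : Set G))))
    (hb : IsInducedBlock M (Subgroup.centralizer ({x} : Set G)) b B) :
    IsDefectGroup 2 M b (Subgroup.zpowers (xc x)) := by
  haveI : Fact (Nat.Prime 2) := ⟨Nat.prime_two⟩
  obtain ⟨D', hD'⟩ := Cfsg.Agent.Lib.Helper16.MinMax.exists_defectGroup hM b hb.1
  obtain ⟨E, hE, hle⟩ := Cfsg.Agent.Lib.Helper16.IndBlock.defectGroup_le_of_induced hM _ b B hb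
    D' hD'
  have hEcard : Nat.card E = 2 := by
    rw [Cfsg.Agent.Lib.Helper16.Defect.card_defectGroup 2 hM B hB E hE,
      ← Cfsg.Agent.Lib.Helper16.Defect.card_defectGroup 2 hM B hB _ hBD, Nat.card_zpowers, hx]
  have hord : orderOf (xc x) = 2 := by rw [orderOf_xc, hx]
  have hxD : xc x ∈ D' := Cfsg.Agent.S0924.central_mem_defectGroup 2 M b D' hD' (xc x)
    (xc_mul x) 1 (by rw [hord, pow_one])
  have hcard : Nat.card D' ≤ 2 := by
    have h1 : Nat.card (D'.map (Subgroup.centralizer ({x} : Set G)).subtype) = Nat.card D' :=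
      Subgroup.card_map_of_injective (Subgroup.subtype_injective _)
    rw [← h1, ← hEcard]
    exact Subgroup.card_le_of_le hle
  have hle2 : Subgroup.zpowers (xc x) ≤ D' := Subgroup.zpowers_le.2 hxD
  have heq : Subgroup.zpowers (xc x) = D' :=
    Subgroup.eq_of_le_of_card_ge hle2 (by rw [Nat.card_zpowers, hord]; exact hcard)
  rw [heq]
  exact hD'

/-- The characters of `C_G(x)` whose block induces `B` are those of `b`. -/
theorem secT_eq [Finite G] (M : Ideal AlgInt) (hM : IsPModular 2 M) (x : G)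
    (hx : orderOf x = 2) (B : Set (IrrCharacter G)) (hB : IsPBlock M B)
    (hBD : IsDefectGroup 2 M B (Subgroup.zpowers x))
    (b : Set (IrrCharacter (Subgroup.centralizer ({x} : Set G))))
    (hb : IsInducedBlock M (Subgroup.centralizer ({x} : Set G)) b B) :
    secT M x B = b := by
  haveI : Fact (Nat.Prime 2) := ⟨Nat.prime_two⟩
  have hMp := isPrime_of_isPModular hM
  have hbD := defectGroup_centralizer M hM x hx B hB hBD b hb
  have hsub : (Subgroup.zpowers x).subgroupOf (Subgroup.centralizer ({x} : Set G)) =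
      Subgroup.zpowers (xc x) := by
    ext c
    rw [Subgroup.mem_subgroupOf, Subgroup.mem_zpowers_iff, Subgroup.mem_zpowers_iff]
    constructor
    · rintro ⟨k, hk⟩
      exact ⟨k, Subtype.ext (by rw [Subgroup.coe_zpow]; exact hk)⟩
    · rintro ⟨k, hk⟩
      exact ⟨k, by rw [← hk, Subgroup.coe_zpow]; rfl⟩
  ext ψ
  constructor
  · intro hψ
    have h1 := unique_of_eq_normalizer 2 hM (Subgroup.zpowers x) B _
      (centralizer_eq_normalizer hx) b
      (blockOf M (ψ : Subgroup.centralizer ({x} : Set G) → ℂ)) (by rw [hsub]; exact hbD) hb hψ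
    rw [h1]
    exact self_mem_blockOf hMp ψ
  · intro hψ
    show IsInducedBlock M _ (blockOf M (ψ : Subgroup.centralizer ({x} : Set G) → ℂ)) B
    rw [← eq_blockOf_of_mem hMp hb.1 hψ]
    exact hb

/-- Values of the characters of `B` on the section of `x`. -/
theorem apply_mul_eq [Finite G] (M : Ideal AlgInt) (hM : IsPModular 2 M) (x : G)
    (hx : orderOf x = 2) (B : Set (IrrCharacter G)) (hB : IsPBlock M B)
    (hBD : IsDefectGroup 2 M B (Subgroup.zpowers x))
    (b : Set (IrrCharacter (Subgroup.centralizer ({x} : Set G))))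
    (hb : IsInducedBlock M (Subgroup.centralizer ({x} : Set G)) b B)
    (θ θ' : IrrCharacter (Subgroup.centralizer ({x} : Set G))) (hθ : θ ∈ b) (hθ' : θ' ∈ b)
    (hne : θ' ≠ θ) (hall : ∀ ψ ∈ b, ψ = θ ∨ ψ = θ')
    (hreg : ∀ y : Subgroup.centralizer ({x} : Set G), ¬ 2 ∣ orderOf y →
      (θ' : Subgroup.centralizer ({x} : Set G) → ℂ) y =
        (θ : Subgroup.centralizer ({x} : Set G) → ℂ) y)
    [Fintype (Subgroup.centralizer ({x} : Set G))]
    (χ : IrrCharacter G) (hχ : χ ∈ B) (y : Subgroup.centralizer ({x} : Set G))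
    (hy : ¬ 2 ∣ orderOf y) :
    (χ : G → ℂ) (x * (y : G)) = 2 * classInner (secRes 2 x (χ : G → ℂ))
      (θ : Subgroup.centralizer ({x} : Set G) → ℂ) *
        (θ : Subgroup.centralizer ({x} : Set G) → ℂ) y := by
  classical
  haveI : Fact (Nat.Prime 2) := ⟨Nat.prime_two⟩
  haveI := finite_irrCharacter (Subgroup.centralizer ({x} : Set G))
  haveI := Fintype.ofFinite (IrrCharacter (Subgroup.centralizer ({x} : Set G)))
  have hx2 : ∃ k : ℕ, orderOf x = 2 ^ k := ⟨1, by rw [hx, pow_one]⟩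
  have hsec := secT_eq M hM x hx B hB hBD b hb
  have h1 := secRes_eq_sum 2 M hM x hx2 B hB χ hχ y
  rw [secRes_of_regular 2 x _ hy] at h1
  rw [h1]
  have h2 := DefOne.sum_ite_pair (secT M x B) θ θ' (Ne.symm hne) (by rw [hsec]; exact hθ)
    (by rw [hsec]; exact hθ') (fun c hc => hall c (by rw [← hsec]; exact hc))
    (fun ψ => classInner (secRes 2 x (χ : G → ℂ))
      (ψ : Subgroup.centralizer ({x} : Set G) → ℂ) *
        (ψ : Subgroup.centralizer ({x} : Set G) → ℂ) y)
  rw [h2, hreg y hy]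
  have h3 : classInner (secRes 2 x (χ : G → ℂ))
      (θ' : Subgroup.centralizer ({x} : Set G) → ℂ) =
      classInner (secRes 2 x (χ : G → ℂ)) (θ : Subgroup.centralizer ({x} : Set G) → ℂ) := by
    unfold classInner
    congr 1
    refine Finset.sum_congr rfl fun c _ => ?_
    by_cases hc : 2 ∣ orderOf c
    · rw [secRes_of_singular 2 x _ hc, zero_mul, zero_mul]
    · rw [hreg c hc]
  rw [h3]
  ring

/-- The section coefficient as a difference of two multiplicities. -/
theorem two_mul_classInner_eq [Finite G] (M : Ideal AlgInt) (hM : IsPModular 2 M) (x : G)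
    (hx : orderOf x = 2) (b : Set (IrrCharacter (Subgroup.centralizer ({x} : Set G))))
    (hbb : IsPBlock M b) (hbD : IsDefectGroup 2 M b (Subgroup.zpowers (xc x)))
    (θ θ' : IrrCharacter (Subgroup.centralizer ({x} : Set G))) (hθ : θ ∈ b) (hθ' : θ' ∈ b)
    (hreg : ∀ y : Subgroup.centralizer ({x} : Set G), ¬ 2 ∣ orderOf y →
      (θ' : Subgroup.centralizer ({x} : Set G) → ℂ) y =
        (θ : Subgroup.centralizer ({x} : Set G) → ℂ) y)
    (hs : ∀ c : Subgroup.centralizer ({x} : Set G),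
      (θ : Subgroup.centralizer ({x} : Set G) → ℂ) (xc x * c) =
        (θ : Subgroup.centralizer ({x} : Set G) → ℂ) c)
    (hs' : ∀ c : Subgroup.centralizer ({x} : Set G),
      (θ' : Subgroup.centralizer ({x} : Set G) → ℂ) (xc x * c) =
        -(θ' : Subgroup.centralizer ({x} : Set G) → ℂ) c)
    [Fintype (Subgroup.centralizer ({x} : Set G))] (χ : G → ℂ) :
    2 * classInner (secRes 2 x χ) (θ : Subgroup.centralizer ({x} : Set G) → ℂ) =
      classInner (fun c : Subgroup.centralizer ({x} : Set G) => χ c)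
        (θ : Subgroup.centralizer ({x} : Set G) → ℂ) -
      classInner (fun c : Subgroup.centralizer ({x} : Set G) => χ c)
        (θ' : Subgroup.centralizer ({x} : Set G) → ℂ) := by
  have hord : orderOf (xc x) = 2 := by rw [orderOf_xc, hx]
  have hsub : ∀ c : Subgroup.centralizer ({x} : Set G),
      (θ : Subgroup.centralizer ({x} : Set G) → ℂ) c -
        (θ' : Subgroup.centralizer ({x} : Set G) → ℂ) c =
      2 * pRegularPart 2 (θ : Subgroup.centralizer ({x} : Set G) → ℂ) (xc x * c) := fun c =>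
    DefOne.sub_eq M hM (xc x) hord (xc_mul x) b hbb hbD θ θ' hθ hθ' hreg hs hs' c
  have hR : classInner (fun c : Subgroup.centralizer ({x} : Set G) => χ c)
        (θ : Subgroup.centralizer ({x} : Set G) → ℂ) -
      classInner (fun c : Subgroup.centralizer ({x} : Set G) => χ c)
        (θ' : Subgroup.centralizer ({x} : Set G) → ℂ) =
      (Nat.card (Subgroup.centralizer ({x} : Set G)) : ℂ)⁻¹ *
        ∑ c : Subgroup.centralizer ({x} : Set G), χ (c : G) *
          conj (2 * pRegularPart 2 (θ : Subgroup.centralizer ({x} : Set G) → ℂ) (xc x * c)) := by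
    unfold classInner
    rw [← mul_sub, ← Finset.sum_sub_distrib]
    congr 1
    refine Finset.sum_congr rfl fun c _ => ?_
    rw [← hsub c, map_sub]
    ring
  rw [hR]
  have hre : ∑ c : Subgroup.centralizer ({x} : Set G), χ (c : G) *
        conj (2 * pRegularPart 2 (θ : Subgroup.centralizer ({x} : Set G) → ℂ) (xc x * c)) =
      ∑ c : Subgroup.centralizer ({x} : Set G), χ ((xc x * c : Subgroup.centralizer ({x} : Set G)) : G) *
        conj (2 * pRegularPart 2 (θ : Subgroup.centralizer ({x} : Set G) → ℂ)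
          (xc x * (xc x * c))) :=
    (Equiv.sum_comp (Equiv.mulLeft (xc x)) (fun c : Subgroup.centralizer ({x} : Set G) =>
      χ (c : G) * conj (2 * pRegularPart 2 (θ : Subgroup.centralizer ({x} : Set G) → ℂ)
        (xc x * c)))).symm
  rw [hre]
  unfold classInner
  rw [← mul_assoc, mul_comm 2, mul_assoc, Finset.mul_sum]
  congr 1
  refine Finset.sum_congr rfl fun c _ => ?_
  have h1 : xc x * (xc x * c) = c := by
    rw [← mul_assoc, DefOne.mul_self_of_orderOf_two hord, one_mul]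
  rw [h1]
  have h2 : ((xc x * c : Subgroup.centralizer ({x} : Set G)) : G) = x * (c : G) := rfl
  rw [h2]
  by_cases hc : 2 ∣ orderOf c
  · rw [secRes_of_singular 2 x _ hc, pRegularPart_of_singular 2 _ hc]
    simp
  · rw [secRes_of_regular 2 x _ hc, pRegularPart_of_regular 2 _ hc, map_mul, Complex.conj_ofNat]
    ring

/-- A character of `B` cannot vanish on the whole section of `x`. -/
theorem false_of_vanish [Finite G] (M : Ideal AlgInt) (hM : IsPModular 2 M) (x : G)
    (hx : orderOf x = 2) (B : Set (IrrCharacter G)) (hB : IsPBlock M B)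
    (hBD : IsDefectGroup 2 M B (Subgroup.zpowers x)) (χ : IrrCharacter G) (hχ : χ ∈ B)
    (hvan : ∀ y : Subgroup.centralizer ({x} : Set G), ¬ 2 ∣ orderOf y →
      (χ : G → ℂ) (x * (y : G)) = 0) : False := by
  haveI : Fact (Nat.Prime 2) := ⟨Nat.prime_two⟩
  have hMp := isPrime_of_isPModular hM
  have hBχ : B = blockOf M (χ : G → ℂ) := eq_blockOf_of_mem hMp hB hχ
  have hsing : ∀ g : G, 2 ∣ orderOf g → (χ : G → ℂ) g = 0 := by
    intro g hg
    by_contra hne
    obtain ⟨u, hu⟩ := exists_isPPart 2 Nat.prime_two g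
    have h1 : ∃ D : Subgroup G, IsDefectGroup 2 M (blockOf M (χ : G → ℂ)) D ∧ u ∈ D := by
      by_contra hcon
      exact hne (Cfsg.Agent.S0924.result 2 M hM χ g u hu
        (fun D hD hmem => hcon ⟨D, hD, hmem⟩))
    obtain ⟨D, hD, hmem⟩ := h1
    rw [← hBχ] at hD
    obtain ⟨t, ht⟩ := Cfsg.Agent.Lib.Helper16.MinMax.defectGroup_conj hM B hB hBD hD
    rw [ht] at hmem
    obtain ⟨w, hw, hwu⟩ := Subgroup.mem_map.1 hmem
    have hwu' : t * w * t⁻¹ = u := hwu
    obtain ⟨v, huv, hcomm, -, hv⟩ := hu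
    rcases DefOne.eq_one_or_eq_of_mem_zpowers hx hw with h2 | h2
    · rw [h2, mul_one, mul_inv_cancel] at hwu'
      rw [← hwu', one_mul] at huv
      rw [huv] at hv
      exact hv hg
    · rw [h2] at hwu'
      have hy₀C : t⁻¹ * v * t ∈ Subgroup.centralizer ({x} : Set G) := by
        rw [Subgroup.mem_centralizer_singleton_iff]
        have h3 : x = t⁻¹ * u * t := by rw [← hwu']; group
        rw [h3]
        have h4 : u * v = v * u := hcomm.eq
        calc t⁻¹ * v * t * (t⁻¹ * u * t) = t⁻¹ * (v * u) * t := by group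
          _ = t⁻¹ * (u * v) * t := by rw [h4]
          _ = t⁻¹ * u * t * (t⁻¹ * v * t) := by group
      have hy₀ord : ¬ 2 ∣ orderOf (⟨t⁻¹ * v * t, hy₀C⟩ : Subgroup.centralizer ({x} : Set G)) := by
        rw [← Subgroup.orderOf_coe]
        have h3 : orderOf (t⁻¹ * v * t) = orderOf v := by
          have h4 : SemiconjBy t⁻¹ v (t⁻¹ * v * t) := by
            show t⁻¹ * v = t⁻¹ * v * t * t⁻¹
            group
          exact h4.orderOf_eq.symm
        show ¬ 2 ∣ orderOf (t⁻¹ * v * t)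
        rw [h3]
        exact hv
      have h5 := hvan ⟨t⁻¹ * v * t, hy₀C⟩ hy₀ord
      have h6 : x * (t⁻¹ * v * t) = t⁻¹ * g * (t⁻¹)⁻¹ := by
        rw [← huv, ← hwu']
        group
      have h7 : (χ : G → ℂ) (t⁻¹ * g * (t⁻¹)⁻¹) = (χ : G → ℂ) g := irr_isClassFunction χ g t⁻¹
      apply hne
      rw [← h7, ← h6]
      exact h5
  have hdef := factorization_eq_of_vanish_singular χ hsing
  have hsingle := blockOf_eq_singleton_of_defect_zero hM χ hdef
  have hB0 : blockDefect 2 B = 0 := by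
    rw [blockDefect_eq_zero_iff 2 B ⟨χ, hχ⟩]
    intro χ' hχ'
    rw [hBχ, hsingle, Set.mem_singleton_iff] at hχ'
    rw [hχ']
    exact hdef
  have hcard := Cfsg.Agent.Lib.Helper16.Defect.card_defectGroup 2 hM B hB _ hBD
  rw [hB0, Nat.card_zpowers, hx] at hcard
  norm_num at hcard

/-- A finite family of nonzero integers whose squares sum to two has exactly two members,
both `±1`. -/
theorem two_of_sum_sq {α : Type*} [DecidableEq α] (S : Finset α) (n : α → ℤ)
    (hn : ∀ a ∈ S, n a ≠ 0) (hsum : ∑ a ∈ S, n a * n a = 2) :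
    ∃ a₁ a₂, a₁ ≠ a₂ ∧ S = {a₁, a₂} ∧ (n a₁ = 1 ∨ n a₁ = -1) ∧ (n a₂ = 1 ∨ n a₂ = -1) := by
  have hge : ∀ a ∈ S, 1 ≤ n a * n a := by
    intro a ha
    have h1 := hn a ha
    have h2 : 0 < n a * n a := mul_self_pos.2 h1
    omega
  have hcard : (S.card : ℤ) ≤ 2 := by
    have h1 := Finset.card_nsmul_le_sum S (fun a => n a * n a) 1 hge
    rw [hsum] at h1
    simpa using h1
  have hcard' : S.card ≤ 2 := by exact_mod_cast hcard
  have hone : ∀ m : ℤ, m * m = 1 → m = 1 ∨ m = -1 := fun m hm => mul_self_eq_one_iff.1 hm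
  interval_cases h : S.card
  · rw [Finset.card_eq_zero] at h
    rw [h, Finset.sum_empty] at hsum
    omega
  · obtain ⟨a, rfl⟩ := Finset.card_eq_one.1 h
    rw [Finset.sum_singleton] at hsum
    exfalso
    have h1 : n a ≤ 1 := by nlinarith
    have h2 : -1 ≤ n a := by nlinarith
    interval_cases n a <;> omega
  · obtain ⟨a₁, a₂, h12, rfl⟩ := Finset.card_eq_two.1 h
    rw [Finset.sum_pair h12] at hsum
    have h1 := hge a₁ (Finset.mem_insert_self _ _)
    have h2 := hge a₂ (Finset.mem_insert_of_mem (Finset.mem_singleton_self _))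
    exact ⟨a₁, a₂, h12, rfl, hone _ (by omega), hone _ (by omega)⟩

/-- **Blocks of defect one for `p = 2`.** -/
theorem main [Finite G] (M : Ideal AlgInt) (hM : IsPModular 2 M) (x : G) (hx : orderOf x = 2)
    (B : Set (IrrCharacter G)) (hB : IsPBlock M B)
    (hBD : IsDefectGroup 2 M B (Subgroup.zpowers x))
    (b : Set (IrrCharacter (Subgroup.centralizer ({x} : Set G))))
    (hb : IsInducedBlock M (Subgroup.centralizer ({x} : Set G)) b B)
    (θ : IrrCharacter (Subgroup.centralizer ({x} : Set G))) (hθ : θ ∈ b)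
    (hθx : (θ : Subgroup.centralizer ({x} : Set G) → ℂ) (xc x) =
      (θ : Subgroup.centralizer ({x} : Set G) → ℂ) 1) :
    Nat.card B = 2 ∧
      (∀ χ ∈ B, ∀ ψ ∈ B, ∀ g : G, ¬ 2 ∣ orderOf g → (χ : G → ℂ) g = (ψ : G → ℂ) g) ∧
      ∃ χ₁ ∈ B, ∃ χ₂ ∈ B, χ₁ ≠ χ₂ ∧ ∃ ε₁ ε₂ : ℤ, (ε₁ = 1 ∨ ε₁ = -1) ∧ (ε₂ = 1 ∨ ε₂ = -1) ∧
        ε₁ * ε₂ = -1 ∧
        ∀ y : Subgroup.centralizer ({x} : Set G), ¬ 2 ∣ orderOf y →
          (χ₁ : G → ℂ) (x * y) = (ε₁ : ℂ) * (θ : Subgroup.centralizer ({x} : Set G) → ℂ) y ∧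
          (χ₂ : G → ℂ) (x * y) = (ε₂ : ℂ) * (θ : Subgroup.centralizer ({x} : Set G) → ℂ) y := by
  classical
  haveI : Fact (Nat.Prime 2) := ⟨Nat.prime_two⟩
  have hMp := isPrime_of_isPModular hM
  haveI := Fintype.ofFinite G
  haveI := Fintype.ofFinite (Subgroup.centralizer ({x} : Set G))
  haveI := finite_irrCharacter G
  haveI := Fintype.ofFinite (IrrCharacter G)
  haveI := finite_irrCharacter (Subgroup.centralizer ({x} : Set G))
  haveI := Fintype.ofFinite (IrrCharacter (Subgroup.centralizer ({x} : Set G)))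
  have hx2 : ∃ k : ℕ, orderOf x = 2 ^ k := ⟨1, by rw [hx, pow_one]⟩
  have hord : orderOf (xc x) = 2 := by rw [orderOf_xc, hx]
  have hbD := defectGroup_centralizer M hM x hx B hB hBD b hb
  obtain ⟨θ', hθ', hne, hall, hreg, hs, hs', -⟩ :=
    DefOne.main M hM (xc x) hord (xc_mul x) b hb.1 hbD θ hθ hθx
  have hsec := secT_eq M hM x hx B hB hBD b hb
  have hval : ∀ χ ∈ B, ∀ y : Subgroup.centralizer ({x} : Set G), ¬ 2 ∣ orderOf y →
      (χ : G → ℂ) (x * (y : G)) = 2 * classInner (secRes 2 x (χ : G → ℂ))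
        (θ : Subgroup.centralizer ({x} : Set G) → ℂ) *
          (θ : Subgroup.centralizer ({x} : Set G) → ℂ) y :=
    fun χ hχ y hy => apply_mul_eq M hM x hx B hB hBD b hb θ θ' hθ hθ' hne hall hreg χ hχ y hy
  have hint : ∀ χ : IrrCharacter G, ∃ n : ℤ, 2 * classInner (secRes 2 x (χ : G → ℂ))
      (θ : Subgroup.centralizer ({x} : Set G) → ℂ) = n := by
    intro χ
    obtain ⟨n₁, h1⟩ := Cfsg.Agent.Lib.CT.Clifford.classInner_char_nat
      (Cfsg.Agent.Lib.CT.Ops.isCharacter_restrict (Subgroup.centralizer ({x} : Set G))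
        (isCharacter_of_irr χ.2)) (isCharacter_of_irr θ.2)
    obtain ⟨n₂, h2⟩ := Cfsg.Agent.Lib.CT.Clifford.classInner_char_nat
      (Cfsg.Agent.Lib.CT.Ops.isCharacter_restrict (Subgroup.centralizer ({x} : Set G))
        (isCharacter_of_irr χ.2)) (isCharacter_of_irr θ'.2)
    refine ⟨(n₁ : ℤ) - n₂, ?_⟩
    rw [two_mul_classInner_eq M hM x hx b hb.1 hbD θ θ' hθ hθ' hreg hs hs' (χ : G → ℂ), h1, h2]
    push_cast
    ring
  choose n hn using hint
  have hval' : ∀ χ ∈ B, ∀ y : Subgroup.centralizer ({x} : Set G), ¬ 2 ∣ orderOf y →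
      (χ : G → ℂ) (x * (y : G)) = (n χ : ℂ) * (θ : Subgroup.centralizer ({x} : Set G) → ℂ) y :=
    fun χ hχ y hy => by rw [hval χ hχ y hy, hn χ]
  have hnz : ∀ χ ∈ B, n χ ≠ 0 := by
    intro χ hχ h0
    apply false_of_vanish M hM x hx B hB hBD χ hχ
    intro y hy
    rw [hval' χ hχ y hy, h0, Int.cast_zero, zero_mul]
  have hθ1 : (θ : Subgroup.centralizer ({x} : Set G) → ℂ) 1 ≠ 0 :=
    Cfsg.Agent.Lib.Helper77.CentralChar.irr_one_ne_zero θ.2
  have hreg1 : ¬ 2 ∣ orderOf (1 : Subgroup.centralizer ({x} : Set G)) := by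
    rw [orderOf_one]; norm_num
  have hx1 : ∀ χ ∈ B, (χ : G → ℂ) x =
      (n χ : ℂ) * (θ : Subgroup.centralizer ({x} : Set G) → ℂ) 1 := by
    intro χ hχ
    have h1 := hval' χ hχ 1 hreg1
    rw [OneMemClass.coe_one, mul_one] at h1
    exact h1
  have hsum : ∑ χ ∈ Finset.univ.filter (· ∈ B), n χ * n χ = 2 := by
    have h1 := kernel_identity 2 M hM x hx2 B hB 1 1 hreg1 hreg1
    rw [DefOne.sum_ite_pair (secT M x B) θ θ' (Ne.symm hne) (by rw [hsec]; exact hθ)
      (by rw [hsec]; exact hθ') (fun c hc => hall c (by rw [← hsec]; exact hc))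
      (fun ψ => (ψ : Subgroup.centralizer ({x} : Set G) → ℂ) 1 *
        conj ((ψ : Subgroup.centralizer ({x} : Set G) → ℂ) 1)), hreg 1 hreg1] at h1
    have h2 : ∀ χ : IrrCharacter G,
        (if χ ∈ B then (χ : G → ℂ) (x * ((1 : Subgroup.centralizer ({x} : Set G)) : G)) *
          conj ((χ : G → ℂ) (x * ((1 : Subgroup.centralizer ({x} : Set G)) : G))) else 0) =
        (if χ ∈ B then ((n χ * n χ : ℤ) : ℂ) else 0) *
          ((θ : Subgroup.centralizer ({x} : Set G) → ℂ) 1 *
            conj ((θ : Subgroup.centralizer ({x} : Set G) → ℂ) 1)) := by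
      intro χ
      by_cases hχ : χ ∈ B
      · rw [if_pos hχ, if_pos hχ, OneMemClass.coe_one, mul_one, hx1 χ hχ, map_mul,
          map_intCast]
        push_cast
        ring
      · rw [if_neg hχ, if_neg hχ, zero_mul]
    rw [Finset.sum_congr rfl (fun χ _ => h2 χ), ← Finset.sum_mul] at h1
    have h3 : (θ : Subgroup.centralizer ({x} : Set G) → ℂ) 1 *
        conj ((θ : Subgroup.centralizer ({x} : Set G) → ℂ) 1) ≠ 0 :=
      mul_ne_zero hθ1 ((map_ne_zero _).2 hθ1)
    have h4 : (∑ χ : IrrCharacter G, if χ ∈ B then ((n χ * n χ : ℤ) : ℂ) else 0) = 2 := by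
      apply mul_right_cancel₀ h3
      rw [h1]
      ring
    rw [Finset.sum_filter]
    have h5 : ((∑ χ : IrrCharacter G, (if χ ∈ B then n χ * n χ else 0) : ℤ) : ℂ) =
        ((2 : ℤ) : ℂ) := by
      rw [Int.cast_sum, Int.cast_ofNat, ← h4]
      refine Finset.sum_congr rfl fun χ _ => ?_
      split_ifs
      · rfl
      · exact Int.cast_zero
    exact_mod_cast h5
  obtain ⟨χ₁, χ₂, h12, hS, hn₁, hn₂⟩ := two_of_sum_sq (Finset.univ.filter (· ∈ B)) n
    (fun χ hχ => hnz χ (Finset.mem_filter.1 hχ).2) hsum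
  have hχ₁ : χ₁ ∈ B := by
    have h1 : χ₁ ∈ Finset.univ.filter (· ∈ B) := by
      rw [hS]; exact Finset.mem_insert_self _ _
    exact (Finset.mem_filter.1 h1).2
  have hχ₂ : χ₂ ∈ B := by
    have h1 : χ₂ ∈ Finset.univ.filter (· ∈ B) := by
      rw [hS]; exact Finset.mem_insert_of_mem (Finset.mem_singleton_self _)
    exact (Finset.mem_filter.1 h1).2
  have hBall : ∀ χ ∈ B, χ = χ₁ ∨ χ = χ₂ := by
    intro χ hχ
    have h1 : χ ∈ Finset.univ.filter (· ∈ B) := Finset.mem_filter.2 ⟨Finset.mem_univ _, hχ⟩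
    rw [hS, Finset.mem_insert, Finset.mem_singleton] at h1
    exact h1
  have horth : ∀ g : G, ¬ 2 ∣ orderOf g →
      (n χ₁ : ℂ) * conj ((χ₁ : G → ℂ) g) + (n χ₂ : ℂ) * conj ((χ₂ : G → ℂ) g) = 0 := by
    intro g hg
    have h1 := section_orthogonality 2 M hM B hB x g x 1
      ⟨1, mul_one x, Commute.one_right x, hx2, by rw [orderOf_one]; norm_num⟩
      ⟨g, one_mul g, Commute.one_left g, ⟨0, by rw [orderOf_one, pow_zero]⟩, hg⟩
      (fun h => DefOne.ne_one_of_orderOf_two hx (isConj_one_left.1 h))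
    rw [DefOne.finsum_mem_eq_sum, DefOne.sum_ite_pair B χ₁ χ₂ h12 hχ₁ hχ₂ hBall,
      hx1 χ₁ hχ₁, hx1 χ₂ hχ₂] at h1
    have h2 : (θ : Subgroup.centralizer ({x} : Set G) → ℂ) 1 *
        ((n χ₁ : ℂ) * conj ((χ₁ : G → ℂ) g) + (n χ₂ : ℂ) * conj ((χ₂ : G → ℂ) g)) = 0 := by
      rw [← h1]
      ring
    rcases mul_eq_zero.1 h2 with h | h
    · exact absurd h hθ1
    · exact h
  have hprod : n χ₁ * n χ₂ = -1 := by
    have h1 := horth 1 (by rw [orderOf_one]; norm_num)
    obtain ⟨m₁, hm₁pos, hm₁⟩ := irr_exists_apply_one_pos χ₁.2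
    obtain ⟨m₂, hm₂pos, hm₂⟩ := irr_exists_apply_one_pos χ₂.2
    rw [hm₁, hm₂, Complex.conj_natCast, Complex.conj_natCast] at h1
    have h2 : n χ₁ * (m₁ : ℤ) + n χ₂ * (m₂ : ℤ) = 0 := by exact_mod_cast h1
    rcases hn₁ with h | h <;> rcases hn₂ with h' | h' <;> rw [h, h'] at h2 ⊢
    · omega
    · norm_num
    · norm_num
    · omega
  have hn₂' : n χ₂ = -n χ₁ := by
    rcases hn₁ with h | h <;> rcases hn₂ with h' | h' <;> rw [h, h'] at hprod ⊢ <;>
      first | rfl | (exfalso; omega)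
  have hagree : ∀ g : G, ¬ 2 ∣ orderOf g → (χ₁ : G → ℂ) g = (χ₂ : G → ℂ) g := by
    intro g hg
    have h1 := horth g hg
    rw [hn₂', Int.cast_neg] at h1
    have hn₁ne : (n χ₁ : ℂ) ≠ 0 := by exact_mod_cast hnz χ₁ hχ₁
    have h2 : (n χ₁ : ℂ) * (conj ((χ₁ : G → ℂ) g) - conj ((χ₂ : G → ℂ) g)) = 0 := by
      rw [← h1]
      ring
    have h3 : conj ((χ₁ : G → ℂ) g) = conj ((χ₂ : G → ℂ) g) :=
      sub_eq_zero.1 ((mul_eq_zero.1 h2).resolve_left hn₁ne)
    exact (starRingEnd ℂ).injective h3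
  refine ⟨?_, ?_, χ₁, hχ₁, χ₂, hχ₂, h12, n χ₁, n χ₂, hn₁, hn₂, hprod, ?_⟩
  · have h1 : Nat.card B = (Finset.univ.filter (· ∈ B)).card :=
      Nat.card_eq_fintype_card.trans (Fintype.card_subtype _)
    rw [h1, hS, Finset.card_pair h12]
  · intro χ hχ ψ hψ g hg
    rcases hBall χ hχ with h | h <;> rcases hBall ψ hψ with h' | h' <;> rw [h, h']
    · exact hagree g hg
    · exact (hagree g hg).symm
  · intro y hy
    exact ⟨hval' χ₁ hχ₁ y hy, hval' χ₂ hχ₂ y hy⟩

end Cfsg.Agent.Lib.Helper75.DefOne2
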