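import Mathlib
import Cfsg.Agent.Lib.Helper80.FTStmt

set_option autoImplicit false

/-!
# S3999 piece ORDEQUIV (helper75, second seat)

Equal fibre cardinalities of `orderOf` give a bijection preserving `orderOf`
(glue the fibre bijections with `Equiv.sigmaFiberEquiv`).
-/

namespace Cfsg.Agent.Lib.Helper75.FTORDEQUIV

open Cfsg.Agent.Lib.Helper80.FTStmt

universe u v

theorem main : OrdEquiv.{u, v} := by
  intro F G _ _ _ _ hcard
  have hne : ∀ m : ℕ, Nonempty ({g : F // orderOf g = m} ≃ {h : G // orderOf h = m}) :=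
    fun m => Finite.card_eq.mp (hcard m)
  have em : ∀ m : ℕ, {g : F // orderOf g = m} ≃ {h : G // orderOf h = m} :=
    fun m => Classical.choice (hne m)
  refine ⟨(Equiv.sigmaFiberEquiv (orderOf : F → ℕ)).symm.trans
      ((Equiv.sigmaCongrRight em).trans (Equiv.sigmaFiberEquiv (orderOf : G → ℕ))), fun g => ?_⟩
  exact (em (orderOf g) ⟨g, rfl⟩).2

end Cfsg.Agent.Lib.Helper75.FTORDEQUIV
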