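import Mathlib
import Cfsg.Agent.Lib.Helper80.FTStmt

set_option autoImplicit false

/-!
# S3999 piece SHRINK (helper75, further seat)

Transport the group structure to `Fin (Nat.card X)` and map the complement along the
resulting `MulEquiv`.
-/

namespace Cfsg.Agent.Lib.Helper75.FTSHRINK

open Cfsg.Agent.Lib.Helper80.FTStmt

open scoped Pointwise

universe u

theorem mem_conj_smul' {G : Type*} [Group G] (H : Subgroup G) (g x : G) :
    x ∈ MulAut.conj g • H ↔ g⁻¹ * x * g ∈ H := by
  rw [Subgroup.mem_pointwise_smul_iff_inv_smul_mem]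
  simp [MulAut.smul_def]

theorem transfer {X : Type*} {L : Type*} [Group X] [Group L] (φ : X ≃* L) (C : Subgroup X)
    (hC : Cfsg.IsFrobeniusComplement C) :
    Cfsg.IsFrobeniusComplement (C.map φ.toMonoidHom) := by
  obtain ⟨h1, h2, h3⟩ := hC
  have hmem : ∀ y : L, y ∈ C.map φ.toMonoidHom ↔ φ.symm y ∈ C := fun y =>
    Subgroup.mem_map_equiv
  refine ⟨?_, ?_, ?_⟩
  · intro hbot
    apply h1
    rw [eq_bot_iff]
    intro c hc
    have h4 : φ c ∈ C.map φ.toMonoidHom := by
      rw [hmem, MulEquiv.symm_apply_apply]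
      exact hc
    rw [hbot, Subgroup.mem_bot] at h4
    rw [Subgroup.mem_bot]
    exact (map_eq_one_iff φ φ.injective).mp h4
  · intro htop
    apply h2
    rw [eq_top_iff]
    intro x _
    have h4 : φ x ∈ C.map φ.toMonoidHom := by
      rw [htop]
      exact Subgroup.mem_top _
    rw [hmem, MulEquiv.symm_apply_apply] at h4
    exact h4
  · intro g hg
    have hg' : φ.symm g ∉ C := fun h => hg ((hmem g).mpr h)
    have h5 := h3 (φ.symm g) hg'
    rw [eq_bot_iff]
    intro y hy
    rw [Subgroup.mem_bot]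
    obtain ⟨hy1, hy2⟩ := Subgroup.mem_inf.mp hy
    rw [mem_conj_smul', hmem] at hy2
    rw [hmem] at hy1
    have h6 : φ.symm y ∈ C ⊓ MulAut.conj (φ.symm g) • C := by
      refine Subgroup.mem_inf.mpr ⟨hy1, ?_⟩
      rw [mem_conj_smul']
      have h7 : (φ.symm g)⁻¹ * φ.symm y * φ.symm g = φ.symm (g⁻¹ * y * g) := by
        rw [map_mul, map_mul, map_inv]
      rw [h7]
      exact hy2
    rw [h5, Subgroup.mem_bot] at h6
    exact (map_eq_one_iff φ.symm φ.symm.injective).mp h6

/-- a copy of `Fin n` carrying no algebraic instances -/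
def Cp (n : ℕ) : Type := Fin n

theorem main : Shrink.{u} := by
  intro X _ _ C hC
  let e : Cp (Nat.card X) ≃ X := (Finite.equivFin X).symm
  let inst : Group (Cp (Nat.card X)) := e.group
  have hfin : Finite (Cp (Nat.card X)) := Finite.of_equiv X e.symm
  let ψ : Cp (Nat.card X) ≃* X :=
    { e with
      map_mul' := fun a b => by
        show e (e.symm (e a * e b)) = e a * e b
        exact e.apply_symm_apply _ }
  have φ : X ≃* Cp (Nat.card X) := ψ.symm
  exact ⟨Cp (Nat.card X), inst, hfin, C.map φ.toMonoidHom,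
    transfer φ C hC, ⟨(show ↥C ≃* ↥(C.map φ.toMonoidHom) from φ.subgroupMap C)⟩⟩

end Cfsg.Agent.Lib.Helper75.FTSHRINK
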