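import Mathlib
import Cfsg.Agent.Lib.Helper80.FTStmt

set_option autoImplicit false

/-!
# S3999 piece SYLTR (helper75, further seat)

A normal Sylow `p`-subgroup `P` of `F` is the set of elements of `p`-power order; an
order-preserving bijection maps that set onto the corresponding set of `G`, which therefore has
the cardinality of a Sylow `p`-subgroup `Q` of `G` and contains it: `Q` is that set, and it is
invariant under conjugation.
-/

namespace Cfsg.Agent.Lib.Helper75.FTSYLTR

open Cfsg.Agent.Lib.Helper80.FTStmt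

universe u v

theorem sylow_sub {X : Type*} [Group X] (p : ℕ) [Fact p.Prime] (Q : Sylow p X) :
    ((Q : Subgroup X) : Set X) ⊆ {x : X | ∃ n : ℕ, orderOf x = p ^ n} := by
  intro x hx
  obtain ⟨k, hk⟩ := Q.2 ⟨x, hx⟩
  have h1 : x ^ p ^ k = 1 := by
    have h0 := congrArg Subtype.val hk
    simpa using h0
  have h2 : orderOf x ∣ p ^ k := orderOf_dvd_of_pow_eq_one h1
  obtain ⟨m, -, hm⟩ := (Nat.dvd_prime_pow Fact.out).mp h2
  exact ⟨m, hm⟩

theorem sub_sylow {X : Type*} [Group X] [Finite X] (p : ℕ) [Fact p.Prime] (P : Sylow p X)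
    (hP : (P : Subgroup X).Normal) :
    {x : X | ∃ n : ℕ, orderOf x = p ^ n} ⊆ ((P : Subgroup X) : Set X) := by
  intro x hx
  obtain ⟨n, hn⟩ := hx
  have hpg : IsPGroup p (Subgroup.zpowers x) :=
    IsPGroup.of_card (n := n) (by rw [Nat.card_zpowers, hn])
  obtain ⟨Q, hQ⟩ := hpg.exists_le_sylow
  have huniq : Unique (Sylow p X) := Sylow.unique_of_normal P hP
  have hQP : Q = P := Subsingleton.elim Q P
  rw [hQP] at hQ
  exact hQ (Subgroup.mem_zpowers x)

theorem main : SylTr.{u, v} := by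
  intro F G _ _ _ _ e he p _ hP
  obtain ⟨P, hPn⟩ := hP
  have hSF : {x : F | ∃ n : ℕ, orderOf x = p ^ n} = ((P : Subgroup F) : Set F) :=
    Set.Subset.antisymm (sub_sylow p P hPn) (sylow_sub p P)
  obtain ⟨Q⟩ : Nonempty (Sylow p G) := inferInstance
  have hcardQ : Nat.card Q = p ^ (Nat.card G).factorization p := Sylow.card_eq_multiplicity Q
  have hcardP : Nat.card P = p ^ (Nat.card F).factorization p := Sylow.card_eq_multiplicity P
  have hFG : Nat.card F = Nat.card G := Nat.card_congr e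
  have hSS : Nat.card {y : G | ∃ n : ℕ, orderOf y = p ^ n}
      = Nat.card {x : F | ∃ n : ℕ, orderOf x = p ^ n} :=
    (Nat.card_congr (Equiv.subtypeEquiv e (fun x => by
      show x ∈ {x : F | ∃ n : ℕ, orderOf x = p ^ n} ↔
        e x ∈ {y : G | ∃ n : ℕ, orderOf y = p ^ n}
      simp only [Set.mem_setOf_eq, he]))).symm
  have hQS : ((Q : Subgroup G) : Set G) = {y : G | ∃ n : ℕ, orderOf y = p ^ n} := by
    apply Set.eq_of_subset_of_ncard_le (sylow_sub p Q)
    rw [← Nat.card_coe_set_eq, ← Nat.card_coe_set_eq, hSS, hSF]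
    have h1 : Nat.card ((P : Subgroup F) : Set F) = Nat.card P := rfl
    have h2 : Nat.card ((Q : Subgroup G) : Set G) = Nat.card Q := rfl
    rw [h1, h2, hcardP, hcardQ, hFG]
  refine ⟨Q, ⟨fun n hn g => ?_⟩⟩
  have hn' : n ∈ {y : G | ∃ n : ℕ, orderOf y = p ^ n} := by
    rw [← hQS]
    exact hn
  obtain ⟨m, hm⟩ := hn'
  have hc : orderOf (g * n * g⁻¹) = orderOf n := by
    have h0 := (MulAut.conj g).orderOf_eq n
    rwa [MulAut.conj_apply] at h0
  have hmem : g * n * g⁻¹ ∈ {y : G | ∃ n : ℕ, orderOf y = p ^ n} := ⟨m, by rw [hc, hm]⟩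
  rw [← hQS] at hmem
  exact hmem

end Cfsg.Agent.Lib.Helper75.FTSYLTR
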