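import Mathlib
import Cfsg.Agent.Lib.Helper40.GFStmt
import Cfsg.Agent.Lib.Helper8.GFZ1BStmt

set_option autoImplicit false

/-!
# S5886 / Z1B sub-piece CONJ2 (helper75)

`U = h * δ_λ * h⁻¹ * δ_μ⁻¹` (`μ = A λ`) is `E(X ∘ m_((λ-1)/κ) ∘ A' ∘ m_(μ⁻¹))`.  Writing
`x = δ_μ (h y)`, `y = a • v + b • v₂`: `U x = h (δ_λ y)`, and both sides are computed from `act`.
-/

namespace Cfsg.Agent.Lib.Helper75.GFZ1BCONJ2

open Cfsg.Agent.Lib.Helper40.GFStmt Cfsg.Agent.Lib.Helper8.GFZ1BStmt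

universe u

theorem main : Conj2.{u} := by
  intro F L _ _ _ _ c hF h v v₂ ψ χ A D X hd A' κ lam hA' hAm hκ hD hlam
  have hF01 : ∀ s : F, s ≠ 0 → s = 1 := by
    intro s hs
    obtain ⟨y, hy, huniq⟩ := (Nat.card_eq_two_iff' (0 : F)).mp hF
    rw [huniq s hs, huniq 1 one_ne_zero]
  have hnorm : ∀ a : L, a ≠ 0 → Algebra.norm F a = 1 := fun a ha =>
    hF01 _ (Algebra.norm_ne_zero_iff.mpr ha)
  have hμ : A lam ≠ 0 := by
    intro h0
    exact hlam (hd.Ainj (by rw [h0, map_zero]))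
  have key : ∀ t : L, t ≠ 0 →
      ∃ δ ∈ c.M, ∀ x : V 2 L, δ x = x + ((t - 1) * ψ x) • v₂ := by
    intro t ht
    have h1 : 1 + ((t - 1) • ψ) v₂ = t := by
      rw [LinearMap.smul_apply, hd.psi_v2, smul_eq_mul, mul_one]
      ring
    have hu : IsUnit (1 + ((t - 1) • ψ) v₂) := by
      rw [h1]
      exact ht.isUnit
    refine ⟨(LinearEquiv.dilatransvection hu).restrictScalars F,
      mem_dil c _ _ hu (by rw [h1]; exact hnorm t ht), fun x => ?_⟩
    show (LinearEquiv.dilatransvection hu) x = _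
    rw [LinearEquiv.dilatransvection.apply, LinearMap.smul_apply, smul_eq_mul]
  obtain ⟨δ1, hδ1, hδ1x⟩ := key lam hlam
  obtain ⟨δ2, hδ2, hδ2x⟩ := key (A lam) hμ
  refine ⟨h * δ1 * h⁻¹ * δ2⁻¹,
    c.M.mul_mem (c.M.mul_mem (c.M.mul_mem hd.hM hδ1) (c.M.inv_mem hd.hM)) (c.M.inv_mem hδ2),
    fun x => ?_⟩
  obtain ⟨y, hy⟩ : ∃ y : V 2 L, y = h⁻¹ (δ2⁻¹ x) := ⟨_, rfl⟩
  have hx : δ2 (h y) = x := by
    have h1 : h (h⁻¹ (δ2⁻¹ x)) = δ2⁻¹ x := by
      rw [← LinearEquiv.mul_apply, mul_inv_cancel]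
      rfl
    have h2 : δ2 (δ2⁻¹ x) = x := by
      rw [← LinearEquiv.mul_apply, mul_inv_cancel]
      rfl
    rw [hy, h1, h2]
  have hU : (h * δ1 * h⁻¹ * δ2⁻¹) x = h (δ1 y) := by
    rw [LinearEquiv.mul_apply, LinearEquiv.mul_apply, LinearEquiv.mul_apply, hy]
  rw [hU]
  obtain ⟨a, b, hab⟩ : ∃ a b : L, y = a • v + b • v₂ := ⟨_, _, hd.dec y⟩
  have hψy : ψ y = b := by
    rw [hab, map_add, map_smul, map_smul, hd.psi_v, hd.psi_v2, smul_zero, zero_add, smul_eq_mul,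
      mul_one]
  have e1 : δ1 y = a • v + (lam * b) • v₂ := by
    rw [hδ1x, hψy, hab]
    module
  have e2 : h (δ1 y) = (A a + X (lam * b)) • v + D (lam * b) • v₂ := by
    rw [e1, hd.act]
  have e3 : h y = (A a + X b) • v + D b • v₂ := by
    rw [hab, hd.act]
  have e4 : ψ (h y) = D b := by
    rw [e3, map_add, map_smul, map_smul, hd.psi_v, hd.psi_v2, smul_zero, zero_add, smul_eq_mul,
      mul_one]
  have e5 : x = (A a + X b) • v + (A lam * D b) • v₂ := by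
    rw [← hx, hδ2x, e4, e3]
    module
  have e6 : ψ x = A lam * D b := by
    rw [e5, map_add, map_smul, map_smul, hd.psi_v, hd.psi_v2, smul_zero, zero_add, smul_eq_mul,
      mul_one]
  have e7 : (X ∘ₗ LinearMap.mulLeft F ((lam - 1) / κ) ∘ₗ A' ∘ₗ
      LinearMap.mulLeft F (A lam)⁻¹) (ψ x) = X ((lam - 1) * b) := by
    rw [e6]
    simp only [LinearMap.comp_apply, LinearMap.mulLeft_apply]
    have h1 : (A lam)⁻¹ * (A lam * D b) = D b := by
      field_simp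
    rw [h1, hD b, hA']
    congr 1
    field_simp
  have e8 : D (lam * b) = A lam * D b := by
    rw [hD, hD, ← hAm]
    congr 1
    ring
  have e9 : X (lam * b) = X ((lam - 1) * b) + X b := by
    rw [← map_add]
    congr 1
    ring
  rw [e7, e2, e8, e9, e5]
  module

end Cfsg.Agent.Lib.Helper75.GFZ1BCONJ2
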