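import Mathlib

/-!
# Group algebras of finite groups: symmetric form, regular matrices, centre

Generic facts about `MonoidAlgebra k G` used for block algebras over the residue field.

* `lam1`: the coefficient at `1`, a symmetric nondegenerate trace form.
* `lmat x`: the matrix of left multiplication by `x`; `lmat_mul`, `lmat_map`, `trace_lmat`,
  `finrank_range_mulLeft`.
* `central_of_comm_single`, `coeff_conj_of_central`, `exists_decomp_of_central`.
-/

set_option autoImplicit false
set_option linter.style.haveILetI false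

namespace Cfsg.Agent.Lib.Helper75.GrpAlg

open Module

variable {k : Type*} [CommRing k] {G : Type*} [Group G]

/-- The coefficient at the identity, as a linear form. -/
noncomputable def lam1 (k : Type*) [CommRing k] (G : Type*) [Group G] :
    MonoidAlgebra k G →ₗ[k] k where
  toFun x := x.coeff 1
  map_add' x y := by rw [MonoidAlgebra.coeff_add]; rfl
  map_smul' c x := by rw [MonoidAlgebra.coeff_smul]; rfl

theorem lam1_apply (x : MonoidAlgebra k G) : lam1 k G x = x.coeff 1 := rfl

theorem lam1_symm (x y : MonoidAlgebra k G) : lam1 k G (x * y) = lam1 k G (y * x) := by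
  rw [lam1_apply, lam1_apply, MonoidAlgebra.coeff_mul_apply_left,
    MonoidAlgebra.coeff_mul_apply_right]
  unfold Finsupp.sum
  refine Finset.sum_congr rfl fun h _ => ?_
  show x.coeff h * y.coeff (h⁻¹ * 1) = y.coeff (1 * h⁻¹) * x.coeff h
  rw [mul_one, one_mul, mul_comm]

theorem lam1_nondeg (x : MonoidAlgebra k G) (hx : x ≠ 0) :
    ∃ y, lam1 k G (x * y) ≠ 0 := by
  have h1 : ∃ g, x.coeff g ≠ 0 := by
    by_contra h
    push Not at h
    apply hx
    apply MonoidAlgebra.ext
    ext g
    rw [h g]
    rfl
  obtain ⟨g, hg⟩ := h1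
  refine ⟨MonoidAlgebra.single g⁻¹ 1, ?_⟩
  rw [lam1_apply, MonoidAlgebra.coeff_mul_single_apply, inv_inv, one_mul, mul_one]
  exact hg

/-- The matrix of left multiplication by `x` in the basis of group elements. -/
def lmat (x : MonoidAlgebra k G) : Matrix G G k := fun g h => x.coeff (g * h⁻¹)

theorem lmat_apply (x : MonoidAlgebra k G) (g h : G) : lmat x g h = x.coeff (g * h⁻¹) := rfl

theorem coeff_mul_eq_sum [Fintype G] (x y : MonoidAlgebra k G) (g : G) :
    (x * y).coeff g = ∑ h, x.coeff (g * h⁻¹) * y.coeff h := by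
  rw [MonoidAlgebra.coeff_mul_apply_right, Finsupp.sum_fintype]
  intro i
  rw [mul_zero]

theorem lmat_mul [Fintype G] (x y : MonoidAlgebra k G) : lmat (x * y) = lmat x * lmat y := by
  ext g h
  rw [lmat_apply, coeff_mul_eq_sum, Matrix.mul_apply]
  refine Fintype.sum_equiv (Equiv.mulRight h) _ _ (fun j => ?_)
  simp only [lmat_apply, Equiv.coe_mulRight, mul_inv_rev, mul_assoc, mul_inv_cancel, mul_one]

theorem lmat_map {k' : Type*} [CommRing k'] (f : k →+* k') (x : MonoidAlgebra k G) :
    (lmat x).map f = lmat (MonoidAlgebra.mapRingHom G f x) := by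
  ext g h
  rw [Matrix.map_apply, lmat_apply, lmat_apply, MonoidAlgebra.coeff_mapRingHom]

theorem trace_lmat [Fintype G] (x : MonoidAlgebra k G) :
    (lmat x).trace = (Fintype.card G : k) * x.coeff 1 := by
  unfold Matrix.trace
  simp only [Matrix.diag_apply, lmat_apply, mul_inv_cancel, Finset.sum_const, Finset.card_univ,
    nsmul_eq_mul]

theorem finrank_range_mulLeft {F : Type*} [Field F] [Fintype G] [DecidableEq G]
    (x : MonoidAlgebra F G) :
    finrank F (LinearMap.range (LinearMap.mulLeft F x))
      = finrank F (LinearMap.range (Matrix.toLin' (lmat x))) := by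
  obtain ⟨e, he⟩ : ∃ e : MonoidAlgebra F G ≃ₗ[F] (G → F), ∀ y g, e y g = y.coeff g :=
    ⟨(MonoidAlgebra.coeffLinearEquiv F).trans (Finsupp.linearEquivFunOnFinite F F G),
      fun y g => rfl⟩
  have h1 : (Matrix.toLin' (lmat x)).comp e.toLinearMap
      = e.toLinearMap.comp (LinearMap.mulLeft F x) := by
    apply LinearMap.ext
    intro y
    funext g
    show (Matrix.toLin' (lmat x)) (e y) g = e (x * y) g
    rw [he, coeff_mul_eq_sum, Matrix.toLin'_apply, Matrix.mulVec, dotProduct]
    refine Finset.sum_congr rfl fun h _ => ?_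
    rw [he, lmat_apply]
  have h2 : LinearMap.range ((Matrix.toLin' (lmat x)).comp e.toLinearMap)
      = LinearMap.range (Matrix.toLin' (lmat x)) :=
    LinearMap.range_comp_of_range_eq_top _ (LinearEquiv.range e)
  rw [← h2, h1, LinearMap.range_comp]
  exact (LinearEquiv.finrank_map_eq e _).symm

/-- An element commuting with all group elements is central. -/
theorem central_of_comm_single (e : MonoidAlgebra k G)
    (h : ∀ g : G, e * MonoidAlgebra.single g 1 = MonoidAlgebra.single g 1 * e) :
    ∀ x, e * x = x * e := by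
  intro x
  induction x using MonoidAlgebra.induction_on with
  | of g => exact h g
  | add x y hx hy => rw [mul_add, add_mul, hx, hy]
  | smul r x hx => rw [mul_smul_comm, smul_mul_assoc, hx]

/-- The coefficients of a central element form a class function. -/
theorem coeff_conj_of_central (w : MonoidAlgebra k G) (hw : ∀ x, w * x = x * w) (x g : G) :
    w.coeff (x * g * x⁻¹) = w.coeff g := by
  have h1 := congrArg (fun y : MonoidAlgebra k G => y.coeff (x * g))
    (hw (MonoidAlgebra.single x 1))
  simp only [MonoidAlgebra.coeff_mul_single_apply, MonoidAlgebra.coeff_single_mul_apply, mul_one,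
    one_mul, inv_mul_cancel_left] at h1
  exact h1

/-- If `ē * κ g` lies in `k ē + k z` for all class sums `κ g`, then so does `ē * w` for every
central `w`. -/
theorem exists_decomp_of_central [Fintype G] (ē z : MonoidAlgebra k G)
    (κ : G → MonoidAlgebra k G)
    (hκ : ∀ g h : G, (κ g).coeff h = 1 ∨ (κ g).coeff h = 0)
    (hκ1 : ∀ g h : G, (κ g).coeff h = 1 ↔ IsConj g h)
    (hdec : ∀ g : G, ∃ a b : k, ē * κ g = a • ē + b • z)
    (w : MonoidAlgebra k G) (hw : ∀ x, w * x = x * w) :
    ∃ a b : k, ē * w = a • ē + b • z := by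
  classical
  by_cases hk : (1 : k) = 0
  · haveI : Subsingleton k := subsingleton_of_zero_eq_one hk.symm
    haveI : Subsingleton (MonoidAlgebra k G) := by
      refine ⟨fun x y => MonoidAlgebra.ext ?_⟩
      ext g
      exact Subsingleton.elim _ _
    exact ⟨0, 0, Subsingleton.elim _ _⟩
  have hκ' : ∀ g h : G, (κ g).coeff h = if IsConj g h then 1 else 0 := by
    intro g h
    split_ifs with hc
    · exact (hκ1 g h).2 hc
    · rcases hκ g h with h1 | h1
      · exact absurd ((hκ1 g h).1 h1) hc
      · exact h1
  have hsum : w = ∑ c : ConjClasses G, w.coeff c.out • κ c.out := by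
    apply MonoidAlgebra.ext
    ext h
    rw [MonoidAlgebra.coeff_sum, Finsupp.finsetSum_apply]
    rw [Finset.sum_eq_single (ConjClasses.mk h)]
    · rw [MonoidAlgebra.coeff_smul, Finsupp.smul_apply, hκ']
      have hc : IsConj (ConjClasses.mk h).out h := by
        rw [← ConjClasses.mk_eq_mk_iff_isConj]
        exact Quotient.out_eq _
      rw [if_pos hc, smul_eq_mul, mul_one]
      obtain ⟨x, hx⟩ := isConj_iff.1 hc
      rw [← coeff_conj_of_central w hw x (Quotient.out (ConjClasses.mk h)), hx]
    · intro c _ hne
      rw [MonoidAlgebra.coeff_smul, Finsupp.smul_apply, hκ']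
      have hc : ¬ IsConj c.out h := by
        intro hc
        apply hne
        rw [← ConjClasses.mk_eq_mk_iff_isConj] at hc
        rw [← hc]
        exact (Quotient.out_eq c).symm
      rw [if_neg hc, smul_zero]
    · intro h0
      exact absurd (Finset.mem_univ _) h0
  choose a b hab using hdec
  refine ⟨∑ c : ConjClasses G, w.coeff c.out * a c.out,
    ∑ c : ConjClasses G, w.coeff c.out * b c.out, ?_⟩
  conv_lhs => rw [hsum]
  rw [Finset.mul_sum, Finset.sum_smul, Finset.sum_smul, ← Finset.sum_add_distrib]
  refine Finset.sum_congr rfl fun c _ => ?_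
  rw [mul_smul_comm, hab, smul_add, smul_smul, smul_smul]

end Cfsg.Agent.Lib.Helper75.GrpAlg
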