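import Cfsg.Agent.Lib.Helper82.Contrib
import Cfsg.Agent.Lib.Helper82.SecLocal
import Cfsg.Agent.Lib.CT.NormOne
import Cfsg.Agent.Lib.CT.LinChar
import Cfsg.Agent.Lib.CT.Ops
import Cfsg.Agent.Lib.Helper16.Reynolds
import Cfsg.Agent.S4431
import Cfsg.Agent.S4714

/-!
# Height-zero characters over a central character

* `exists_constituent`: if `p^a ⟨φ⁰, ψ₀⟩ / ψ₀(1)` is not in the local ideal for a character `φ`
  and `ψ₀` in a block `b`, then `φ` has an irreducible constituent in `b` whose degree has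
  `p`-part at most that of `ψ₀`.
* `main`: a height-zero character of a block with defect group `D` lying over the linear
  character `lam` of a central `p`-subgroup `Z ≤ D` forces `lam` to extend to `D`.
-/

set_option autoImplicit false
set_option linter.style.haveILetI false
open Cfsg

namespace Cfsg.Agent.Lib.Helper75.HtZeroExt

open Cfsg.Agent.Lib.Helper77.LocalRing Cfsg.Agent.Lib.Helper82.Contrib
open scoped ComplexConjugate

universe u
variable {H : Type u} [Group H]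

theorem tw_sum [Fintype (IrrCharacter H)] (p : ℕ) (c : ℂ) (m : IrrCharacter H → ℕ) :
    tw p c (∑ ψ : IrrCharacter H, (m ψ : ℂ) • (ψ : H → ℂ))
      = ∑ ψ : IrrCharacter H, (m ψ : ℂ) • tw p c (ψ : H → ℂ) := by
  funext x
  rw [tw_apply, Finset.sum_apply, Finset.sum_apply]
  by_cases h : p ∣ orderOf x
  · simp [h, tw_apply]
  · simp only [h, if_false, Pi.smul_apply, smul_eq_mul, tw_apply, Finset.mul_sum]
    refine Finset.sum_congr rfl fun ψ _ => by ring

/-- If `p^a ⟨φ⁰, ψ₀⟩ / ψ₀(1)` is a unit of the local ring, `φ` has a constituent in the block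
of `ψ₀` whose degree has `p`-part at most that of `ψ₀`. -/
theorem exists_constituent [Fintype H] (p : ℕ) [Fact p.Prime] {M : Ideal AlgInt}
    (hM : IsPModular p M) (b : Set (IrrCharacter H)) (hb : IsPBlock M b)
    (ψ₀ : IrrCharacter H) (hψ₀ : ψ₀ ∈ b) (φ : H → ℂ) (hφ : IsCharacter H φ)
    (hne : ¬ MemLocalIdeal M (classInner
      (tw p ((p ^ (Nat.card H).factorization p : ℕ) : ℂ) φ) (ψ₀ : H → ℂ) / (ψ₀ : H → ℂ) 1)) :
    ∃ ψ' ∈ b, classInner φ (ψ' : H → ℂ) ≠ 0 ∧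
      (charDegree (ψ' : H → ℂ)).factorization p
        ≤ (charDegree (ψ₀ : H → ℂ)).factorization p := by
  classical
  have hpp : p.Prime := Fact.out
  have hMp := isPrime_of_isPModular hM
  haveI : Finite (IrrCharacter H) := Cfsg.Agent.Lib.CT.Wedderburn.finite_irrCharacter H
  letI : Fintype (IrrCharacter H) := Fintype.ofFinite (IrrCharacter H)
  by_contra hcon
  push Not at hcon
  obtain ⟨m, hm, hsum⟩ := Cfsg.Agent.Lib.CT.NormOne.exists_mult_sum hφ
  apply hne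
  have h1 : classInner (tw p ((p ^ (Nat.card H).factorization p : ℕ) : ℂ) φ) (ψ₀ : H → ℂ)
      = ((∑ ψ : IrrCharacter H, (m ψ : ℤ) * ctr p ψ ψ₀ : ℤ) : ℂ) := by
    rw [hsum, tw_sum, Cfsg.Agent.Lib.CT.Orth.classInner_sum_left, Int.cast_sum]
    refine Finset.sum_congr rfl fun ψ _ => ?_
    rw [Cfsg.Agent.Lib.CT.Orth.classInner_smul_left, ctr_spec, Int.cast_mul, Int.cast_natCast]
  have h2 : (p : ℤ) ^ ((charDegree (ψ₀ : H → ℂ)).factorization p + 1)
      ∣ ∑ ψ : IrrCharacter H, (m ψ : ℤ) * ctr p ψ ψ₀ := by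
    apply Finset.dvd_sum
    intro ψ _
    by_cases hmz : m ψ = 0
    · rw [hmz]
      simp
    by_cases hψ : ψ ∈ b
    · have hlt := hcon ψ hψ (by
        rw [hm ψ]
        exact_mod_cast hmz)
      exact Dvd.dvd.mul_left (dvd_ctr_of_not_min p hM b hb ψ ψ₀ ψ₀ hψ hψ₀ hψ₀ hlt) _
    · rw [ctr_symm, ctr_eq_zero_of_not_mem p hM b hb ψ₀ ψ hψ₀ hψ, mul_zero]
      exact dvd_zero _
  obtain ⟨q, hq⟩ := h2
  have h3 : (ψ₀ : H → ℂ) 1 = ((p ^ (charDegree (ψ₀ : H → ℂ)).factorization p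
      * (charDegree (ψ₀ : H → ℂ) / p ^ (charDegree (ψ₀ : H → ℂ)).factorization p) : ℕ) : ℂ) := by
    rw [Nat.ordProj_mul_ordCompl_eq_self]
    exact (Cfsg.Agent.Lib.CT.Wedderburn.char_natCast_charDegree
      (Cfsg.Agent.Lib.CT.Wedderburn.isCharacter_of_irr ψ₀.2)).symm
  have h5 : ((charDegree (ψ₀ : H → ℂ) / p ^ (charDegree (ψ₀ : H → ℂ)).factorization p : ℕ) : ℂ)
      ≠ 0 := Nat.cast_ne_zero.2 fun h => not_dvd_degCompl p ψ₀ (h ▸ dvd_zero p)
  have hp0 : (p : ℂ) ≠ 0 := Nat.cast_ne_zero.2 hpp.ne_zero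
  have h4 : classInner (tw p ((p ^ (Nat.card H).factorization p : ℕ) : ℂ) φ) (ψ₀ : H → ℂ)
      / (ψ₀ : H → ℂ) 1 = (((p : ℤ) * q : ℤ) : ℂ)
        * ((charDegree (ψ₀ : H → ℂ) / p ^ (charDegree (ψ₀ : H → ℂ)).factorization p : ℕ) : ℂ)⁻¹ := by
    rw [h1, hq, h3]
    push_cast
    field_simp
    ring
  rw [h4]
  exact memLocalIdeal_mul_right hMp (memLocalIdeal_intCast_of_dvd hM _ (Dvd.intro _ rfl))
    (Cfsg.Agent.Lib.CT.DefectZeroBlock.memLocalRing_inv_natCast hM (not_dvd_degCompl p ψ₀))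

/-- A height-zero character of a block with defect group `D` lying over the linear character
`lam` of a central subgroup `Z ≤ D` forces `lam` to extend to `D`. -/
theorem main {G : Type u} [Group G] [Finite G] (p : ℕ) [Fact p.Prime] (M : Ideal AlgInt)
    (hM : IsPModular p M) (B : Set (IrrCharacter G)) (hB : IsPBlock M B) (D : Subgroup G)
    (hD : IsDefectGroup p M B D) (Z : Subgroup G) (hZc : Z ≤ Subgroup.center G)
    (hZD : Z ≤ D) (lam : ↥Z →* ℂˣ) (χ : IrrCharacter G) (hχ : χ ∈ B)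
    (hover : ∀ z : ↥Z, (χ : G → ℂ) z = (χ : G → ℂ) 1 * (lam z : ℂ))
    (h0 : blockHeight p B (χ : G → ℂ) = 0) :
    ∃ μ : ↥D →* ℂˣ, ∀ z : ↥Z, μ ⟨(z : G), hZD z.2⟩ = lam z := by
  classical
  have hpp : p.Prime := Fact.out
  have hMp := isPrime_of_isPModular hM
  letI : Fintype G := Fintype.ofFinite G
  have hPp : IsPGroup p D := by
    obtain ⟨g, -, hg⟩ := Cfsg.Agent.Lib.Helper16.MinMax.isDefectGroup_iff.mp hD
    exact hg.2.1
  obtain ⟨L, hLdef⟩ : ∃ L : Subgroup G, L = D ⊔ Subgroup.centralizer (D : Set G) := ⟨_, rfl⟩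
  have hPL : D ≤ L := hLdef ▸ le_sup_left
  have hCL : Subgroup.centralizer (D : Set G) ≤ L := hLdef ▸ le_sup_right
  have hLN : L ≤ Subgroup.normalizer (D : Set G) :=
    hLdef ▸ Cfsg.Agent.Lib.Helper16.ExtFirst.sup_centralizer_le_normalizer D
  have hn : (L.subgroupOf (Subgroup.normalizer (D : Set G))).Normal := by
    rw [hLdef]
    infer_instance
  letI : Fintype L := Fintype.ofFinite L
  obtain ⟨b, hbD, hind⟩ :=
    Cfsg.Agent.Lib.Helper16.ExtFirst.exists_block_centralizer p hM D L hPL hCL hLN B hB hD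
  have hb : IsPBlock M b := hind.1
  have hDp : IsPGroup p (D.subgroupOf L) :=
    Cfsg.Agent.Lib.Helper16.ExtFirst.isPGroup_subgroupOf D L hPp
  have hDn : (D.subgroupOf L).Normal := Subgroup.normal_subgroupOf_of_le_normalizer hLN
  have hsup : (D.subgroupOf L) ⊔ Subgroup.centralizer ((D.subgroupOf L : Subgroup L) : Set L)
      = ⊤ := Cfsg.Agent.Lib.Helper16.Reynolds.sup_centralizer_subgroupOf D L hPL hCL
        (le_of_eq hLdef)
  obtain ⟨χc, hχc, hχcD⟩ :=
    Cfsg.Agent.Lib.Helper16.QuotP.exists_trivial_on_normal_pGroup p hM b hb (D.subgroupOf L)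
      hDn hDp
  obtain ⟨hA, -⟩ := Cfsg.Agent.S4714.result p M hM (D.subgroupOf L) hDp hsup b hb hbD χc hχc
    hχcD
  have h431 := (Cfsg.Agent.S4431.result p M hM L b B hind χ χc hχc).2 hχ h0
  obtain ⟨ψ', hψ'b, hψ'ne, hψ'le⟩ := exists_constituent p hM b hb χc hχc
    (fun h : L => (χ : G → ℂ) h)
    (Cfsg.Agent.Lib.CT.Ops.isCharacter_restrict L
      (Cfsg.Agent.Lib.CT.Wedderburn.isCharacter_of_irr χ.2)) h431
  obtain ⟨ζ, hζ, -⟩ := (hA ψ').mp hψ'b
  have hnd1 : ¬ p ∣ orderOf (1 : L) := by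
    rw [orderOf_one]
    exact fun hd => hpp.one_lt.ne' (Nat.dvd_one.mp hd)
  have hχc0 : charDegree (χc : L → ℂ) ≠ 0 :=
    (Cfsg.Agent.Lib.Helper80.Integrality.charDegree_pos χc).ne'
  have hζ0 : charDegree (ζ : D.subgroupOf L → ℂ) ≠ 0 :=
    (Cfsg.Agent.Lib.Helper80.Integrality.charDegree_pos ζ).ne'
  have hone : charDegree (ψ' : L → ℂ)
      = charDegree (ζ : D.subgroupOf L → ℂ) * charDegree (χc : L → ℂ) := by
    have h1 := hζ 1 1 hnd1 (Commute.one_right _)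
    rw [OneMemClass.coe_one, mul_one, Cfsg.Agent.S4714.apply_one_eq ψ',
      Cfsg.Agent.S4714.apply_one_eq ζ, Cfsg.Agent.S4714.apply_one_eq χc] at h1
    exact_mod_cast h1
  have hζ1 : charDegree (ζ : D.subgroupOf L → ℂ) = 1 := by
    have h1 : charDegree (ζ : D.subgroupOf L → ℂ) ∣ Nat.card (D.subgroupOf L) :=
      Cfsg.Agent.Lib.Helper80.Integrality.charDegree_dvd_card ζ
    obtain ⟨k, hk⟩ := IsPGroup.iff_card.mp hDp
    rw [hk] at h1
    obtain ⟨j, -, hj⟩ := (Nat.dvd_prime_pow hpp).mp h1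
    have h2 : (charDegree (ψ' : L → ℂ)).factorization p
        = j + (charDegree (χc : L → ℂ)).factorization p := by
      rw [hone, Nat.factorization_mul hζ0 hχc0, Finsupp.add_apply, hj,
        Nat.factorization_pow, Finsupp.smul_apply, hpp.factorization_self, smul_eq_mul, mul_one]
    have h3 : j = 0 := by omega
    rw [hj, h3, pow_zero]
  have hζone : (ζ : D.subgroupOf L → ℂ) 1 = 1 := by
    rw [Cfsg.Agent.S4714.apply_one_eq ζ, hζ1, Nat.cast_one]
  obtain ⟨f, hf⟩ := Cfsg.Agent.Lib.CT.LinChar.exists_hom_of_isCharacter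
    (ζ : D.subgroupOf L → ℂ) (Cfsg.Agent.Lib.CT.Wedderburn.isCharacter_of_irr ζ.2) hζone
  refine ⟨f.comp (Cfsg.Agent.Lib.Helper16.Transfer.sIso D L hPL).symm.toMonoidHom, fun z => ?_⟩
  obtain ⟨y, hy⟩ : ∃ y : D.subgroupOf L,
      y = (Cfsg.Agent.Lib.Helper16.Transfer.sIso D L hPL).symm ⟨(z : G), hZD z.2⟩ := ⟨_, rfl⟩
  have hyz : ((y : L) : G) = (z : G) := by
    rw [hy]
    exact Cfsg.Agent.Lib.Helper16.Transfer.coe_sIso_symm D L hPL _
  have hgoal : f y = lam z := by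
    apply Units.ext
    rw [← hf y]
    -- the central argument
    have hχ1 : (χ : G → ℂ) 1 ≠ 0 := by
      rw [Cfsg.Agent.S4714.apply_one_eq χ]
      exact Nat.cast_ne_zero.2 (Cfsg.Agent.Lib.Helper80.Integrality.charDegree_pos χ).ne'
    have hψ1 : (ψ' : L → ℂ) 1 ≠ 0 := by
      rw [Cfsg.Agent.S4714.apply_one_eq ψ']
      exact Nat.cast_ne_zero.2 (Cfsg.Agent.Lib.Helper80.Integrality.charDegree_pos ψ').ne'
    have hzc : ∀ g : G, (z : G) * g = g * (z : G) := fun g =>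
      (Subgroup.mem_center_iff.mp (hZc z.2) g).symm
    have hzc' : ∀ h : L, (y : L) * h = h * (y : L) := fun h => by
      apply Subtype.ext
      rw [Subgroup.coe_mul, Subgroup.coe_mul, hyz]
      exact hzc _
    have ha : ∀ g : G, (χ : G → ℂ) ((z : G) * g) = (lam z : ℂ) * (χ : G → ℂ) g := by
      intro g
      rw [Cfsg.Agent.Lib.Helper82.SecLocal.irr_mul_central (χ : G → ℂ) χ.2 (z : G) hzc g,
        hover z, mul_div_cancel_left₀ _ hχ1]
    have hbb : ∀ h : L, (ψ' : L → ℂ) ((y : L) * h)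
        = (ψ' : L → ℂ) (y : L) / (ψ' : L → ℂ) 1 * (ψ' : L → ℂ) h :=
      fun h => Cfsg.Agent.Lib.Helper82.SecLocal.irr_mul_central (ψ' : L → ℂ) ψ'.2 (y : L) hzc' h
    have hS : ∑ h : L, (χ : G → ℂ) h * conj ((ψ' : L → ℂ) h) ≠ 0 := by
      intro h
      apply hψ'ne
      unfold classInner
      rw [h, mul_zero]
    have hre : ∑ h : L, (χ : G → ℂ) h * conj ((ψ' : L → ℂ) h)
        = (lam z : ℂ) * conj ((ψ' : L → ℂ) (y : L) / (ψ' : L → ℂ) 1)
          * ∑ h : L, (χ : G → ℂ) h * conj ((ψ' : L → ℂ) h) := by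
      rw [Finset.mul_sum]
      refine (Fintype.sum_equiv (Equiv.mulLeft (y : L)) _ _ fun h => ?_).symm
      rw [Equiv.coe_mulLeft, hbb h, Subgroup.coe_mul, hyz, ha, map_mul]
      ring
    have hc : (lam z : ℂ) * conj ((ψ' : L → ℂ) (y : L) / (ψ' : L → ℂ) 1) = 1 := by
      have h1 : ((lam z : ℂ) * conj ((ψ' : L → ℂ) (y : L) / (ψ' : L → ℂ) 1) - 1)
          * ∑ h : L, (χ : G → ℂ) h * conj ((ψ' : L → ℂ) h) = 0 := by
        rw [sub_mul, one_mul, ← hre, sub_self]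
      rcases mul_eq_zero.mp h1 with h2 | h2
      · exact sub_eq_zero.mp h2
      · exact absurd h2 hS
    have hnorm : ‖(lam z : ℂ)‖ = 1 := by
      apply Complex.norm_eq_one_of_pow_eq_one (n := orderOf z)
      · rw [← Units.val_pow_eq_pow_val, ← map_pow, pow_orderOf_eq_one, map_one, Units.val_one]
      · exact (orderOf_pos z).ne'
    have hlam0 : (lam z : ℂ) ≠ 0 := Units.ne_zero _
    have hc2 : conj ((ψ' : L → ℂ) (y : L) / (ψ' : L → ℂ) 1) = conj (lam z : ℂ) := by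
      rw [← Complex.inv_eq_conj hnorm]
      exact eq_inv_of_mul_eq_one_right hc
    have hc3 : (ψ' : L → ℂ) (y : L) / (ψ' : L → ℂ) 1 = (lam z : ℂ) :=
      (starRingEnd ℂ).injective hc2
    have he := hζ y 1 hnd1 (Commute.one_right _)
    rw [mul_one] at he
    have he1 := hζ 1 1 hnd1 (Commute.one_right _)
    rw [OneMemClass.coe_one, mul_one, hζone, one_mul] at he1
    rw [he, he1] at hc3
    have hχc1 : (χc : L → ℂ) 1 ≠ 0 := by
      rw [Cfsg.Agent.S4714.apply_one_eq χc]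
      exact Nat.cast_ne_zero.2 hχc0
    rw [mul_div_cancel_right₀ _ hχc1] at hc3
    exact hc3
  rw [← hgoal, hy]
  rfl

end Cfsg.Agent.Lib.Helper75.HtZeroExt
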