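import Mathlib

/-!
# The rank of an idempotent matrix is invariant under reduction

* `charpoly_of_idem`: the characteristic polynomial of an idempotent matrix of rank `r` over a
  field is `X ^ (N - r) * (X - 1) ^ r`.
* `finrank_range_of_idem`: for an idempotent matrix `E` over a commutative ring `R` embedded in a
  field of characteristic zero, the rank of the image of `E` over any field `F` (under a ring
  homomorphism `R → F`) is the trace of `E`.
-/

set_option autoImplicit false

namespace Cfsg.Agent.Lib.Helper75.IdemRank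

open Module Polynomial

theorem rootMult_one {k : Type*} [Field k] (a b : ℕ) :
    rootMultiplicity (1 : k) ((X - C (0 : k)) ^ a * (X - C (1 : k)) ^ b) = b := by
  have h0 : (X - C (0 : k)) ^ a ≠ 0 := pow_ne_zero _ (X_sub_C_ne_zero 0)
  have h1 : (X - C (1 : k)) ^ b ≠ 0 := pow_ne_zero _ (X_sub_C_ne_zero 1)
  rw [rootMultiplicity_mul (mul_ne_zero h0 h1), rootMultiplicity_X_sub_C_pow]
  have h2 : ¬ IsRoot ((X - C (0 : k)) ^ a) 1 := by
    simp [IsRoot]
  rw [rootMultiplicity_eq_zero h2, zero_add]

theorem charpoly_of_idem {k : Type*} [Field k] {m : Type*} [Fintype m] [DecidableEq m]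
    (P : Matrix m m k) (hP : P * P = P) :
    P.charpoly = (X - C 0) ^ (Fintype.card m - finrank k (LinearMap.range (Matrix.toLin' P)))
      * (X - C 1) ^ finrank k (LinearMap.range (Matrix.toLin' P)) := by
  obtain ⟨f, hf⟩ : ∃ f : (m → k) →ₗ[k] (m → k), f = Matrix.toLin' P := ⟨_, rfl⟩
  have hff : ∀ x, f (f x) = f x := by
    intro x
    rw [hf, ← Matrix.toLin'_mul_apply, hP]
  rw [← hf, ← Matrix.charpoly_toLin' P, ← hf]
  have hN : finrank k (m → k) = Fintype.card m := Module.finrank_fintype_fun_eq_card k
  have h1 := LinearMap.finrank_range_add_finrank_ker f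
  rw [hN] at h1
  have hr1 : finrank k (LinearMap.range f) ≤ rootMultiplicity 1 f.charpoly := by
    refine le_trans (Submodule.finrank_mono ?_) (LinearMap.finrank_eigenspace_le f 1)
    rintro _ ⟨y, rfl⟩
    rw [Module.End.mem_eigenspace_iff, hff, one_smul]
  have hr0 : finrank k (LinearMap.ker f) ≤ rootMultiplicity 0 f.charpoly := by
    have h2 := LinearMap.finrank_eigenspace_le f 0
    rwa [Module.End.eigenspace_zero] at h2
  have hne : f.charpoly ≠ 0 := f.charpoly_monic.ne_zero
  have hcop : IsCoprime ((X - C (0 : k)) ^ rootMultiplicity 0 f.charpoly)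
      ((X - C (1 : k)) ^ rootMultiplicity 1 f.charpoly) := by
    apply IsCoprime.pow
    apply isCoprime_X_sub_C_of_isUnit_sub
    simp
  have hdvd := hcop.mul_dvd (pow_rootMultiplicity_dvd f.charpoly 0)
    (pow_rootMultiplicity_dvd f.charpoly 1)
  have hdeg : ∀ a b : ℕ, ((X - C (0 : k)) ^ a * (X - C (1 : k)) ^ b).natDegree = a + b := by
    intro a b
    rw [natDegree_mul (pow_ne_zero _ (X_sub_C_ne_zero 0)) (pow_ne_zero _ (X_sub_C_ne_zero 1)),
      natDegree_pow, natDegree_pow, natDegree_X_sub_C, natDegree_X_sub_C, mul_one, mul_one]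
  have h3 := natDegree_le_of_dvd hdvd hne
  rw [hdeg, LinearMap.charpoly_natDegree, hN] at h3
  have ha : rootMultiplicity 0 f.charpoly
      = Fintype.card m - finrank k (LinearMap.range f) := by omega
  have hb : rootMultiplicity 1 f.charpoly = finrank k (LinearMap.range f) := by omega
  rw [ha, hb] at hdvd
  have hmon : ((X - C (0 : k)) ^ (Fintype.card m - finrank k (LinearMap.range f))
      * (X - C (1 : k)) ^ finrank k (LinearMap.range f)).Monic :=
    ((monic_X_sub_C 0).pow _).mul ((monic_X_sub_C 1).pow _)
  apply eq_of_monic_of_dvd_of_natDegree_le hmon f.charpoly_monic hdvd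
  rw [hdeg, LinearMap.charpoly_natDegree, hN]
  omega

theorem finrank_range_of_idem {R K F : Type*} [CommRing R] [Field K] [CharZero K] [Field F]
    (ι : R →+* K) (hι : Function.Injective ι) (q : R →+* F) {m : Type*} [Fintype m]
    [DecidableEq m] (E : Matrix m m R) (hE : E * E = E) (r : ℕ)
    (htr : (E.map ι).trace = (r : K)) :
    finrank F (LinearMap.range (Matrix.toLin' (E.map q))) = r := by
  have hK : E.map ι * E.map ι = E.map ι := by rw [← Matrix.map_mul, hE]
  have hF : E.map q * E.map q = E.map q := by rw [← Matrix.map_mul, hE]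
  have hrK : finrank K (LinearMap.range (Matrix.toLin' (E.map ι))) = r := by
    have hproj : LinearMap.IsProj (LinearMap.range (Matrix.toLin' (E.map ι)))
        (Matrix.toLin' (E.map ι)) := by
      refine ⟨fun x => LinearMap.mem_range_self _ x, ?_⟩
      rintro _ ⟨y, rfl⟩
      rw [← Matrix.toLin'_mul_apply, hK]
    have h1 := hproj.trace
    have h2 : LinearMap.trace K (m → K) (Matrix.toLin' (E.map ι)) = (E.map ι).trace := by
      rw [LinearMap.trace_eq_matrix_trace K (Pi.basisFun K m), LinearMap.toMatrix_eq_toMatrix',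
        LinearMap.toMatrix'_toLin']
    rw [h2, htr] at h1
    exact (Nat.cast_injective h1).symm
  have h1 := charpoly_of_idem (E.map ι) hK
  rw [hrK, Matrix.charpoly_map] at h1
  have h2 : E.charpoly = (X - C 0) ^ (Fintype.card m - r) * (X - C 1) ^ r := by
    apply Polynomial.map_injective ι hι
    rw [h1]
    simp
  have h3 := charpoly_of_idem (E.map q) hF
  rw [Matrix.charpoly_map, h2] at h3
  have h4 : ((X - C (0 : R)) ^ (Fintype.card m - r) * (X - C (1 : R)) ^ r).map q
      = (X - C (0 : F)) ^ (Fintype.card m - r) * (X - C (1 : F)) ^ r := by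
    simp
  rw [h4] at h3
  have h5 := congrArg (rootMultiplicity (1 : F)) h3
  rw [rootMult_one, rootMult_one] at h5
  exact h5.symm

end Cfsg.Agent.Lib.Helper75.IdemRank
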