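import Mathlib
import Cfsg.Agent.Lib.Helper75.NDStmt
import Cfsg.Agent.Lib.Helper16.Reynolds
import Cfsg.Agent.Lib.Helper16.MinMax
import Cfsg.Agent.Lib.Helper80.Integrality
import Cfsg.Agent.S4889

/-!
# Assembly of S4890 from the pieces of `NDStmt`
-/

set_option autoImplicit false

namespace Cfsg.Agent.Lib.Helper75.NDFinal

open Cfsg Cfsg.Agent.Lib.Helper75.NDStmt

universe u

/-- Transfer of a Brauer pair at the normal defect group to the quotient by `⁅D, D⁆`. -/
theorem quot_pair (hMAXP : MAXP.{u}) (hCAN : CAN.{u}) (hSTL : STL.{u}) (hQP2 : QP2.{u})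
    (hQP3 : QP3.{u}) (hSTB : STB.{u})
    {G : Type u} [Group G] [Finite G] (p : ℕ) [Fact p.Prime] (M : Ideal AlgInt)
    (hM : IsPModular p M) (B : Set (IrrCharacter G)) (hB : IsPBlock M B) (D : Subgroup G)
    [D.Normal] (hD : IsDefectGroup p M B D) (hDp : IsPGroup p D)
    (e : Set (IrrCharacter (Subgroup.centralizer (D : Set G)))) (hpair : IsBrauerPairOf p M B D e)
    (x : G) (hx : StabilizesBlock (Subgroup.centralizer (D : Set G)) e x) :
    ∃ e' : Set (IrrCharacter ↥(Cbar D)), IsBrauerPairOf p M (quotBlock D B) (Dbar D) e' ∧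
      StabilizesBlock (Cbar D) e' (QuotientGroup.mk' ⁅D, D⁆ x) := by
  classical
  let _ : Fintype ↥(Subgroup.centralizer (D : Set G)) := Fintype.ofFinite _
  have hmax := hMAXP G p M hM B D hD e hpair
  obtain ⟨θ, hθ, hker, hfix⟩ := hCAN G p M hM B D e hmax
  have hst := hSTL G p M hM B D e hmax
  obtain ⟨ψ', hover, hinv⟩ := hQP2 G p M hM D hDp e hpair.1.2 hst θ hθ hker
  refine ⟨blockOf M (ψ' : ↥(Cbar D) → ℂ), hQP3 G p M hM B hB D hDp e hpair θ hθ ψ' hover, ?_⟩
  refine hSTB (G ⧸ ⁅D, D⁆) p M hM (Cbar D) _ ?_ ψ' (hinv x (hfix x hx))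
  have hn : (Dbar D).Normal :=
    Subgroup.Normal.map inferInstance _ (QuotientGroup.mk'_surjective _)
  have hn2 : (Cbar D).Normal := inferInstance
  rw [Subgroup.normalizer_eq_top]
  exact Subgroup.mem_top _

/-- S4890 from the pieces. -/
theorem main (hEQD1 : EQD1.{u}) (hEQD2 : EQD2.{u}) (hQB : QB.{u}) (hDG : DG.{u}) (hHT : HT.{u})
    (hMAXP : MAXP.{u}) (hCP : CP.{u}) (hSTL : STL.{u}) (hCAN : CAN.{u}) (hQP2 : QP2.{u})
    (hQP3 : QP3.{u}) (hSTB : STB.{u}) (hQLE : QLE.{u}) (hNILA : NILA.{u}) (hNILB : NILB.{u})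
    {G : Type u} [Group G] [Finite G] (p : ℕ) [Fact p.Prime] (M : Ideal AlgInt)
    (hM : IsPModular p M) (B : Set (IrrCharacter G)) (hB : IsPBlock M B) (D : Subgroup G)
    (hD : IsDefectGroup p M B D) (hDn : D.Normal) :
    (∃ d : ℕ, ∀ χ : IrrCharacter G, χ ∈ B → blockHeight p B (χ : G → ℂ) = 0 →
      charDegree (χ : G → ℂ) = d) ↔ IsNilpotentBlock p M B := by
  classical
  have := hDn
  have hpp : p.Prime := Fact.out
  have hDp : IsPGroup p D := by
    obtain ⟨g, -, hg⟩ := Cfsg.Agent.Lib.Helper16.MinMax.isDefectGroup_iff.mp hD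
    exact hg.2.1
  constructor
  · rintro ⟨d, hd⟩
    have hB' := hQB G p M hM D hDp B hB
    have hD' := hDG G p M hM B hB D hD
    have hn : (Dbar D).Normal :=
      Subgroup.Normal.map inferInstance _ (QuotientGroup.mk'_surjective _)
    have hab : ∀ a ∈ Dbar D, ∀ c ∈ Dbar D, a * c = c * a := by
      rintro _ ⟨a, ha, rfl⟩ _ ⟨c, hc, rfl⟩
      simp only [QuotientGroup.mk'_apply]
      rw [← QuotientGroup.mk_mul, ← QuotientGroup.mk_mul, QuotientGroup.eq]
      have h2 := Subgroup.commutator_mem_commutator (D.inv_mem hc) (D.inv_mem ha)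
      rw [commutatorElement_def] at h2
      have h1 : (a * c)⁻¹ * (c * a) = c⁻¹ * a⁻¹ * c⁻¹⁻¹ * a⁻¹⁻¹ := by group
      rw [h1]
      exact h2
    have h0 := (Cfsg.Agent.Lib.Helper16.Reynolds.reynolds p hM (quotBlock D B) hB' (Dbar D)
      hD').mp hab
    have hDab : IsMulCommutative ↥(Dbar D) :=
      ⟨⟨fun a c => Subtype.ext (hab a a.2 c c.2)⟩⟩
    have heq : ∃ d' : ℕ, ∀ ψ : IrrCharacter (G ⧸ ⁅D, D⁆), ψ ∈ quotBlock D B →
        charDegree (ψ : G ⧸ ⁅D, D⁆ → ℂ) = d' := by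
      refine ⟨d, fun ψ hψ => ?_⟩
      obtain ⟨χ, hχ, hχe⟩ := hψ
      have h1 := hHT G p M hM B hB D hD ψ ⟨χ, hχ, hχe⟩
      rw [← hχe] at h1
      have h2 := hd χ hχ h1
      rw [← h2]
      unfold charDegree
      rw [hχe]
      simp
    have hnil' := (Cfsg.Agent.S4889.result p M hM (quotBlock D B) hB' (Dbar D) hD' hDab h0).mp heq
    refine ⟨hB, fun Q f hQf x hxN hxs hxr => ?_⟩
    obtain ⟨e', he', c, hc, hs⟩ := hNILA G p M hM B D hD Q f hQf x hxN hxs
    have hQD := hQLE G p M hM B D hD Q f hQf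
    refine hNILB G p D Q hQD e' (fun z hz hzr => ?_) x c hxN hc hxr hs
    obtain ⟨e'', he'', hzs⟩ :=
      quot_pair hMAXP hCAN hSTL hQP2 hQP3 hSTB p M hM B hB D hD hDp e' he' z hz
    have hz' : (QuotientGroup.mk' ⁅D, D⁆ z) ∈ Cbar D := by
      refine hnil'.2 (Dbar D) e'' he'' _ ?_ hzs ?_
      · rw [Subgroup.normalizer_eq_top]
        exact Subgroup.mem_top _
      · intro hdvd
        exact hzr (hdvd.trans (orderOf_map_dvd _ z))
    exact hCP G p D hDp z hz' hzr
  · intro hnil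
    let _ : Fintype ↥(D ⊔ Subgroup.centralizer (D : Set G)) := Fintype.ofFinite _
    obtain ⟨d₀, hd₀⟩ := hEQD2 G p M hM B hB D hD (hEQD1 G p M hM B hB D hD hnil)
    refine ⟨d₀ * p ^ (sInf ((fun ψ : IrrCharacter G =>
      (charDegree (ψ : G → ℂ)).factorization p) '' B) - d₀.factorization p), fun χ hχ h0 => ?_⟩
    obtain ⟨m, hm⟩ := hd₀ χ hχ
    have hpos := Cfsg.Agent.Lib.Helper80.Integrality.charDegree_pos χ
    have hd₀ne : d₀ ≠ 0 := by
      rintro rfl
      rw [zero_mul] at hm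
      omega
    have hν : (charDegree (χ : G → ℂ)).factorization p = d₀.factorization p + m := by
      rw [hm, Nat.factorization_mul hd₀ne (pow_ne_zero _ hpp.ne_zero),
        Nat.Prime.factorization_pow hpp]
      simp
    have hle : sInf ((fun ψ : IrrCharacter G =>
        (charDegree (ψ : G → ℂ)).factorization p) '' B)
        ≤ (charDegree (χ : G → ℂ)).factorization p := Nat.sInf_le ⟨χ, hχ, rfl⟩
    unfold blockHeight at h0
    have hm' : m = sInf ((fun ψ : IrrCharacter G =>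
        (charDegree (ψ : G → ℂ)).factorization p) '' B) - d₀.factorization p := by
      omega
    rw [hm, hm']

end Cfsg.Agent.Lib.Helper75.NDFinal
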