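import Mathlib
import Cfsg.Agent.Lib.Helper75.NDStmt
import Cfsg.Agent.Lib.Helper16.Reynolds
import Cfsg.Agent.Lib.Helper16.FR3

/-!
# Piece EQD2 of S4890: trivial inertial quotient gives degrees `d₀ * p ^ m`
-/

set_option autoImplicit false

namespace Cfsg.Agent.Lib.Helper75.NdEQD2

open Cfsg Cfsg.Agent.Lib.Helper75.NDStmt Cfsg.Agent.Lib.Helper77.LocalRing
  Cfsg.Agent.Lib.Helper77.CentralChar
  Cfsg.Agent.Lib.Helper77.BlockIdem Cfsg.Agent.Lib.Helper16.ZR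
  Cfsg.Agent.Lib.Helper16.Transfer Cfsg.Agent.Lib.Helper16.MinMax
  Cfsg.Agent.Lib.Helper16.Normal Cfsg.Agent.Lib.Helper16.Cover3
  Cfsg.Agent.Lib.Helper16.ExtFirst Cfsg.Agent.Lib.Helper16.ExtFirst2
  Cfsg.Agent.Lib.Helper16.UniqueCover Cfsg.Agent.Lib.Helper16.Defect
  Cfsg.Agent.Lib.Helper16.SylowBlocks Cfsg.Agent.Lib.Helper16.Reynolds

universe u
variable {G : Type u} [Group G] {M : Ideal AlgInt}

theorem aux [Finite G] (p : ℕ) [Fact p.Prime] (hM : IsPModular p M)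
    (B : Set (IrrCharacter G)) (hB : IsPBlock M B) (P : Subgroup G) [hPn : P.Normal]
    (hP : IsDefectGroup p M B P) (L : Subgroup G) [Fintype L]
    (hLdef : L = P ⊔ Subgroup.centralizer (P : Set G))
    (hIT : ∀ b : Set (IrrCharacter L), IsPBlock M b → IsDefectGroup p M b (P.subgroupOf L) →
      (∃ χ ∈ B, ∃ θ ∈ b, classInner (fun n : L => (χ : G → ℂ) n) (θ : L → ℂ) ≠ 0) →
      ∀ t : G, StabilizesBlock L b t → t ∈ L) :
    ∃ d₀ : ℕ, ∀ χ ∈ B, ∃ m : ℕ, charDegree (χ : G → ℂ) = d₀ * p ^ m := by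
  classical
  have hpp : p.Prime := Fact.out
  have hMp := isPrime_of_isPModular hM
  let _ : Fintype G := Fintype.ofFinite G
  have hPp : IsPGroup p P := by
    obtain ⟨g, -, hg⟩ := isDefectGroup_iff.mp hP
    exact hg.2.1
  have hPL : P ≤ L := hLdef ▸ le_sup_left
  have hCL : Subgroup.centralizer (P : Set G) ≤ L := hLdef ▸ le_sup_right
  have hLN : L ≤ Subgroup.normalizer (P : Set G) := hLdef ▸ sup_centralizer_le_normalizer P
  have hL : L.Normal := by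
    rw [hLdef]
    infer_instance
  have hn : (L.subgroupOf (Subgroup.normalizer (P : Set G))).Normal := by
    rw [hLdef]
    infer_instance
  obtain ⟨b, hbD, hind⟩ := exists_block_centralizer p hM P L hPL hCL hLN B hB hP
  have hb : IsPBlock M b := hind.1
  obtain ⟨T, hT⟩ := exists_stab L hL b
  have hLT : L ≤ T := fun g hg => (hT g).mpr (fun θ hθ => by
    rw [cI_of_mem L hL g hg θ]
    exact hθ)
  obtain ⟨ξ₀, hξ₀⟩ := isPBlock_nonempty hMp hb
  have hcov : ∃ χ ∈ B, ∃ θ ∈ b,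
      classInner (fun n : L => (χ : G → ℂ) n) (θ : L → ℂ) ≠ 0 := by
    obtain ⟨χ, hχ, hne⟩ :=
      Cfsg.Agent.Lib.Helper16.IndBlock2.exists_constituent_of_induced hMp L b B hind ξ₀ hξ₀
    exact ⟨χ, hχ, ξ₀, hξ₀, hne⟩
  -- the stabilizer is `L`
  have hTL : T ≤ L := by
    intro t ht
    apply hIT b hb hbD hcov t
    refine ⟨?_, fun χ hχ => ?_⟩
    · rw [Subgroup.normalizer_eq_top]
      exact Subgroup.mem_top _
    · have ht' : t⁻¹ ∈ T := T.inv_mem ht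
      refine ⟨cI L hL t⁻¹ χ, (hT t⁻¹).mp ht' χ hχ, ?_⟩
      intro k k' hk
      rw [cI_apply]
      have h5 : (⟨t⁻¹ * (k' : G) * t⁻¹⁻¹, hL.conj_mem k' k'.2 t⁻¹⟩ : L) = k := by
        apply Subtype.ext
        show t⁻¹ * (k' : G) * t⁻¹⁻¹ = k
        rw [hk]
        group
      rw [h5]
  have hT' : ∀ g : G, g ∈ L ↔ ∀ θ ∈ b, cI L hL g θ ∈ b := by
    intro g
    rw [← hT g]
    exact ⟨fun h => hLT h, fun h => hTL h⟩
  -- the structure of `b`
  have hDp : IsPGroup p (P.subgroupOf L) := isPGroup_subgroupOf P L hPp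
  have hDn : (P.subgroupOf L).Normal := inferInstance
  have hsup : (P.subgroupOf L) ⊔ Subgroup.centralizer ((P.subgroupOf L : Subgroup L) : Set L)
      = ⊤ := sup_centralizer_subgroupOf P L hPL hCL (le_of_eq hLdef)
  obtain ⟨χc, hχc, hχcD⟩ :=
    Cfsg.Agent.Lib.Helper16.QuotP.exists_trivial_on_normal_pGroup p hM b hb (P.subgroupOf L)
      hDn hDp
  obtain ⟨hA, -⟩ := Cfsg.Agent.S4714.result p M hM (P.subgroupOf L) hDp hsup b hb hbD χc hχc
    hχcD
  have hone : ∀ (θ : IrrCharacter L) (ζ : IrrCharacter (P.subgroupOf L)),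
      (∀ (y : P.subgroupOf L) (x : L), ¬ p ∣ orderOf x → Commute (y : L) x →
        (θ : L → ℂ) ((y : L) * x) = (ζ : P.subgroupOf L → ℂ) y * (χc : L → ℂ) x) →
      charDegree (θ : L → ℂ)
        = charDegree (ζ : P.subgroupOf L → ℂ) * charDegree (χc : L → ℂ) := by
    intro θ ζ h
    have h1 := h 1 1 (by
      rw [orderOf_one]
      exact fun hd => hpp.one_lt.ne' (Nat.dvd_one.mp hd)) (Commute.one_right _)
    rw [OneMemClass.coe_one, mul_one, Cfsg.Agent.S4714.apply_one_eq θ,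
      Cfsg.Agent.S4714.apply_one_eq ζ, Cfsg.Agent.S4714.apply_one_eq χc] at h1
    exact_mod_cast h1
  refine ⟨L.index * charDegree (χc : L → ℂ), fun χ hχ => ?_⟩
  have hχcov := forall_cover hMp L hL b hb B hB hcov χ hχ
  obtain ⟨ψ, ⟨θ, hθ, hne⟩, hχe⟩ :=
    Cfsg.Agent.Lib.Helper16.FR3.exists_induced_eq L hL L le_rfl b hMp hb hT' χ hχcov
  have hψθ : ψ = θ := by
    by_contra hcon
    apply hne
    have h1 := Cfsg.Agent.Lib.CT.Wedderburn.irr_orthonormal ψ θ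
    rw [if_neg hcon] at h1
    exact h1
  have hψb : ψ ∈ b := hψθ ▸ hθ
  obtain ⟨ζ, hζ, -⟩ := (hA ψ).mp hψb
  have hdeg1 := hone ψ ζ hζ
  -- the degree of `ζ` is a power of `p`
  obtain ⟨m, hm⟩ : ∃ m : ℕ, charDegree (ζ : P.subgroupOf L → ℂ) = p ^ m := by
    have h1 := Cfsg.Agent.Lib.Helper80.Integrality.charDegree_dvd_card ζ
    obtain ⟨k, hk⟩ := IsPGroup.iff_card.mp hDp
    rw [hk] at h1
    obtain ⟨m, -, hm⟩ := (Nat.dvd_prime_pow hpp).mp h1
    exact ⟨m, hm⟩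
  refine ⟨m, ?_⟩
  have h2 : ((charDegree (χ : G → ℂ) : ℕ) : ℂ)
      = ((L.index * charDegree (ψ : L → ℂ) : ℕ) : ℂ) := by
    rw [← Cfsg.Agent.S4714.apply_one_eq χ, hχe, Cfsg.Agent.Lib.CT.FrobRec.indFun_one,
      Cfsg.Agent.S4714.apply_one_eq ψ, Nat.cast_mul]
  have h3 : charDegree (χ : G → ℂ) = L.index * charDegree (ψ : L → ℂ) := by
    exact_mod_cast h2
  rw [h3, hdeg1, hm]
  ring

theorem main : EQD2.{u} := by
  intro G _ _ p _ M hM B hB D _ _ hD hIT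
  exact aux p hM B hB D hD (D ⊔ Subgroup.centralizer (D : Set G)) rfl hIT

end Cfsg.Agent.Lib.Helper75.NdEQD2
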