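import Mathlib
import Cfsg.Agent.Lib.Helper75.NDStmt
import Cfsg.Agent.Lib.Helper16.Reynolds
import Cfsg.Agent.Lib.Helper16.MinMax
import Cfsg.Agent.Lib.Helper16.Defect
import Cfsg.Agent.Lib.Helper80.Integrality

/-!
# Piece HT of S4890: inflations from the quotient block have height zero
-/

set_option autoImplicit false

namespace Cfsg.Agent.Lib.Helper75.NdHT

open Cfsg Cfsg.Agent.Lib.Helper75.NDStmt

universe u

theorem main (hQB : QB.{u}) (hDG : DG.{u}) : HT.{u} := by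
  intro G _ _ p _ M hM B hB D hDn hD ψ hψ
  classical
  have hpp : p.Prime := Fact.out
  have hDp : IsPGroup p D := by
    obtain ⟨g, -, hg⟩ := Cfsg.Agent.Lib.Helper16.MinMax.isDefectGroup_iff.mp hD
    exact hg.2.1
  have hB' := hQB G p M hM D hDp B hB
  have hD' := hDG G p M hM B hB D hD
  have hn : (Dbar D).Normal :=
    Subgroup.Normal.map inferInstance _ (QuotientGroup.mk'_surjective _)
  have hab : ∀ a ∈ Dbar D, ∀ c ∈ Dbar D, a * c = c * a := by
    rintro _ ⟨a, ha, rfl⟩ _ ⟨c, hc, rfl⟩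
    simp only [QuotientGroup.mk'_apply]
    rw [← QuotientGroup.mk_mul, ← QuotientGroup.mk_mul, QuotientGroup.eq]
    have h2 := Subgroup.commutator_mem_commutator (D.inv_mem hc) (D.inv_mem ha)
    rw [commutatorElement_def] at h2
    have h1 : (a * c)⁻¹ * (c * a) = c⁻¹ * a⁻¹ * c⁻¹⁻¹ * a⁻¹⁻¹ := by group
    rw [h1]
    exact h2
  have h0 := (Cfsg.Agent.Lib.Helper16.Reynolds.reynolds p hM (quotBlock D B) hB' (Dbar D)
    hD').mp hab ψ hψ
  have hc1 := Cfsg.Agent.Lib.Helper16.Defect.card_defectGroup p hM B hB D hD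
  have hc2 := Cfsg.Agent.Lib.Helper16.Defect.card_defectGroup p hM (quotBlock D B) hB' (Dbar D) hD'
  -- orders
  have hKD : ⁅D, D⁆ ≤ D := Subgroup.commutator_le_right D D
  obtain ⟨k, hk⟩ := IsPGroup.iff_card.mp (hDp.to_le hKD)
  have hcard1 : Nat.card (Dbar D) = (⁅D, D⁆ : Subgroup G).relIndex D := by
    have h1 := Subgroup.relIndex_map_map (QuotientGroup.mk' ⁅D, D⁆) (⊥ : Subgroup G) D
    rw [Subgroup.map_bot, Subgroup.relIndex_bot_left, QuotientGroup.ker_mk', bot_sup_eq,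
      sup_eq_left.mpr hKD] at h1
    exact h1
  have hcard2 : Nat.card (⁅D, D⁆ : Subgroup G) * (⁅D, D⁆ : Subgroup G).relIndex D = Nat.card D := by
    have h1 := Subgroup.relIndex_mul_relIndex (⊥ : Subgroup G) ⁅D, D⁆ D bot_le hKD
    rwa [Subgroup.relIndex_bot_left, Subgroup.relIndex_bot_left] at h1
  have hcard3 : Nat.card G = Nat.card (G ⧸ ⁅D, D⁆) * Nat.card (⁅D, D⁆ : Subgroup G) :=
    Subgroup.card_eq_card_quotient_mul_card_subgroup _
  have hdef : blockDefect p B = k + blockDefect p (quotBlock D B) := by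
    have h1 : p ^ blockDefect p B = p ^ (k + blockDefect p (quotBlock D B)) := by
      rw [pow_add, ← hc1, ← hc2, ← hk, hcard1, hcard2]
    exact Nat.pow_right_injective hpp.two_le h1
  have hfac : (Nat.card G).factorization p = (Nat.card (G ⧸ ⁅D, D⁆)).factorization p + k := by
    rw [hcard3, hk, Nat.factorization_mul Nat.card_pos.ne' (pow_ne_zero _ hpp.ne_zero),
      Nat.Prime.factorization_pow hpp]
    simp
  -- the character
  obtain ⟨χ, hχ, hχe⟩ := hψ
  have hdeg : charDegree ((ψ : G ⧸ ⁅D, D⁆ → ℂ) ∘ (QuotientGroup.mk : G → G ⧸ ⁅D, D⁆))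
      = charDegree (ψ : G ⧸ ⁅D, D⁆ → ℂ) := by
    unfold charDegree
    simp
  have hdegχ : charDegree (χ : G → ℂ) = charDegree (ψ : G ⧸ ⁅D, D⁆ → ℂ) := by
    rw [hχe, hdeg]
  have hle1 : sInf ((fun ψ : IrrCharacter (G ⧸ ⁅D, D⁆) =>
      (charDegree (ψ : G ⧸ ⁅D, D⁆ → ℂ)).factorization p) '' quotBlock D B)
      ≤ (charDegree (ψ : G ⧸ ⁅D, D⁆ → ℂ)).factorization p :=
    Nat.sInf_le ⟨ψ, ⟨χ, hχ, hχe⟩, rfl⟩
  have hle2 : sInf ((fun ψ : IrrCharacter G =>
      (charDegree (ψ : G → ℂ)).factorization p) '' B)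
      ≤ (charDegree (ψ : G ⧸ ⁅D, D⁆ → ℂ)).factorization p := by
    rw [← hdegχ]
    exact Nat.sInf_le ⟨χ, hχ, rfl⟩
  have hle3 : (charDegree (ψ : G ⧸ ⁅D, D⁆ → ℂ)).factorization p
      ≤ (Nat.card (G ⧸ ⁅D, D⁆)).factorization p := by
    have h1 := Cfsg.Agent.Lib.Helper80.Integrality.charDegree_dvd_card ψ
    exact (Nat.factorization_le_iff_dvd
      (Cfsg.Agent.Lib.Helper80.Integrality.charDegree_pos ψ).ne' Nat.card_pos.ne').mpr h1 p
  unfold blockHeight at h0 ⊢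
  unfold blockDefect at hdef
  rw [hdeg]
  omega

end Cfsg.Agent.Lib.Helper75.NdHT
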