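import Mathlib
import Cfsg.Agent.Lib.Lead.OrdTypeStmt

set_option autoImplicit false

/-!
# S3998 piece CNTCONGR (helper75, second seat)

Equal fibre cardinalities of `orderOf` give a bijection `e : G ≃ H` preserving `orderOf`
(glue the fibre bijections with `Equiv.sigmaFiberEquiv`), and `e` restricts to a bijection of the
`t`-rough elements.
-/

namespace Cfsg.Agent.Lib.Helper75.OTCNTCONGR

open Cfsg.Agent.Lib.Lead.OrdTypeStmt

universe u v

theorem main : CntCongr.{u, v} := by
  intro G _ _ H _ _ hcard t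
  have hne : ∀ m : ℕ, Nonempty ({g : G // orderOf g = m} ≃ {h : H // orderOf h = m}) :=
    fun m => Finite.card_eq.mp (hcard m)
  have em : ∀ m : ℕ, {g : G // orderOf g = m} ≃ {h : H // orderOf h = m} :=
    fun m => Classical.choice (hne m)
  let e : G ≃ H :=
    (Equiv.sigmaFiberEquiv (orderOf : G → ℕ)).symm.trans
      ((Equiv.sigmaCongrRight em).trans (Equiv.sigmaFiberEquiv (orderOf : H → ℕ)))
  have he : ∀ g : G, e g = (em (orderOf g) ⟨g, rfl⟩).1 := fun g => rfl
  have horder : ∀ g : G, orderOf (e g) = orderOf g := by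
    intro g
    rw [he]
    exact (em (orderOf g) ⟨g, rfl⟩).2
  unfold cnt
  refine Nat.card_congr (Equiv.subtypeEquiv e (fun g => ?_))
  show g ∈ rough G t ↔ e g ∈ rough H t
  simp only [rough, Set.mem_setOf_eq, horder]

end Cfsg.Agent.Lib.Helper75.OTCNTCONGR
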