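import Mathlib
import Cfsg.Agent.Lib.Lead.OrdTypeStmt

set_option autoImplicit false

/-!
# S3998 piece NORMCNT (helper75, further seat)

`P ⊆ rough X p` (orders in `P` are powers of `p`), equal finite cardinalities give equality, and
`rough X p` is closed under conjugation.
-/

namespace Cfsg.Agent.Lib.Helper75.OTNORMCNT

open Cfsg.Agent.Lib.Lead.OrdTypeStmt

universe u

theorem main : NormCnt.{u} := by
  intro X _ _ p _ P hcnt
  have hp : p.Prime := Fact.out
  have hsub : ((P : Subgroup X) : Set X) ⊆ rough X p := by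
    intro x hx q hq hqx
    obtain ⟨k, hk⟩ := P.2 ⟨x, hx⟩
    have h1 : x ^ p ^ k = 1 := by
      have h0 := congrArg Subtype.val hk
      simpa using h0
    have h2 : orderOf x ∣ p ^ k := orderOf_dvd_of_pow_eq_one h1
    have h3 : q ∣ p := hq.dvd_of_dvd_pow (hqx.trans h2)
    have h4 : q = p := (Nat.prime_dvd_prime_iff_eq hq hp).mp h3
    exact h4.ge
  have heq : ((P : Subgroup X) : Set X) = rough X p := by
    apply Set.eq_of_subset_of_ncard_le hsub
    rw [← Nat.card_coe_set_eq, ← Nat.card_coe_set_eq]
    exact hcnt.le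
  constructor
  intro n hn g
  have hn' : n ∈ rough X p := hsub hn
  have hc : orderOf (g * n * g⁻¹) = orderOf n := by
    have h0 := (MulAut.conj g).orderOf_eq n
    rwa [MulAut.conj_apply] at h0
  have hmem : g * n * g⁻¹ ∈ rough X p := by
    intro q hq hqx
    rw [hc] at hqx
    exact hn' q hq hqx
  rw [← heq] at hmem
  exact hmem

end Cfsg.Agent.Lib.Helper75.OTNORMCNT
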