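import Mathlib
import Cfsg.Agent.Lib.Helper18.ReeOutStmt
import Cfsg.Agent.Lib.Helper87.ReeOutIFFMEM
import Cfsg.Agent.Lib.Helper87.ReeOutFMEM

/-!
# S2127 piece ASMMEM (second seat, helper75)

The automorphisms `conj (e s) * F ^ i` stabilize `P` and `Q`.
-/

set_option autoImplicit false

namespace Cfsg.Agent.Lib.Helper75.ReeOutASMMEM

open Cfsg.Agent.Lib.Helper18.ReeOutStmt

universe u v

theorem conj_mem_A0 {G : Type u} [Group G] (P Q : Subgroup G) (g : G)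
    (hg : g ∈ Subgroup.normalizer (P : Set G) ⊓ Subgroup.normalizer (Q : Set G)) :
    MulAut.conj g ∈ A0 P Q := by
  rw [Subgroup.mem_inf] at hg
  rw [mem_A0]
  refine ⟨fun h => ?_, fun h => ?_⟩
  · rw [MulAut.conj_apply]
    exact ((Subgroup.mem_normalizer_iff.1 hg.1) h).symm
  · rw [MulAut.conj_apply]
    exact ((Subgroup.mem_normalizer_iff.1 hg.2) h).symm

theorem main : ASMMEM.{u, v} := by
  intro G _ _ K _ _ m φ x e P Q H F hS s hs i
  have hes : e s ∈ H := (hS.memH (e s)).2 ⟨s, hs, rfl⟩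
  have h1 : MulAut.conj (e s) ∈ A0 (P : Subgroup G) (Q : Subgroup G) := by
    apply conj_mem_A0
    rw [hS.norm]
    exact hes
  have hFP : ∀ g, F g ∈ (P : Subgroup G) ↔ g ∈ (P : Subgroup G) := by
    apply Cfsg.Agent.Lib.Helper87.ReeOutIFFMEM.main G (P : Subgroup G) F
    intro g hg
    obtain ⟨t, u, v, rfl⟩ := (hS.memP g).1 hg
    rw [hS.Fx]
    exact (hS.memP _).2 ⟨_, _, _, rfl⟩
  have hFH : ∀ g, F g ∈ H ↔ g ∈ H := by
    apply Cfsg.Agent.Lib.Helper87.ReeOutIFFMEM.main G H F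
    intro g hg
    obtain ⟨r, hr, rfl⟩ := (hS.memH g).1 hg
    rw [hS.Fe r hr]
    exact (hS.memH _).2 ⟨r ^ 3, pow_ne_zero 3 hr, rfl⟩
  have hFQ : ∀ g, F g ∈ (Q : Subgroup G) ↔ g ∈ (Q : Subgroup G) :=
    Cfsg.Agent.Lib.Helper87.ReeOutFMEM.main G 3 P Q H F hS.QP hS.normQ hS.uniq hFP hFH
  have h2 : F ∈ A0 (P : Subgroup G) (Q : Subgroup G) := (mem_A0 _ _ _).2 ⟨hFP, hFQ⟩
  exact mul_mem h1 (pow_mem h2 i)

end Cfsg.Agent.Lib.Helper75.ReeOutASMMEM
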