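import Mathlib
import Cfsg.Agent.Lib.Helper18.ReeOutStmt

/-!
# S2127 piece OUTCNT (second seat, helper75)

`|Out G| * |N(P) ∩ N(Q)| = |A0 P Q|` when `Z(G) = 1` and `P` is transitive on the other Sylow
subgroups: `G` and `Aut G` have the same orbit on the pair `(P, Q)`.
-/

set_option autoImplicit false

namespace Cfsg.Agent.Lib.Helper75.ReeOutOUTCNT

open Cfsg.Agent.Lib.Helper18.ReeOutStmt

universe u

open scoped Pointwise

theorem smul_eq_iff {G : Type u} [Group G] {p : ℕ} (P : Sylow p G) (α : MulAut G) :
    α • P = P ↔ ∀ g, α g ∈ (P : Subgroup G) ↔ g ∈ (P : Subgroup G) := by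
  constructor
  · intro h g
    have h1 : (α • (P : Subgroup G)) = (P : Subgroup G) := by
      have := congrArg (fun S : Sylow p G => (S : Subgroup G)) h
      simpa [Sylow.pointwise_smul_def] using this
    constructor
    · intro hg
      have h2 : α • g ∈ α • (P : Subgroup G) := by
        rw [h1]; simpa [MulAut.smul_def] using hg
      exact (Subgroup.smul_mem_pointwise_smul_iff).1 h2
    · intro hg
      have h2 : α • g ∈ α • (P : Subgroup G) := Subgroup.smul_mem_pointwise_smul _ _ _ hg
      rw [h1] at h2
      simpa [MulAut.smul_def] using h2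
  · intro h
    apply Sylow.ext
    rw [Sylow.pointwise_smul_def]
    ext x
    rw [Subgroup.mem_pointwise_smul_iff_inv_smul_mem]
    have h3 := h (α⁻¹ • x)
    rw [MulAut.smul_def, MulAut.apply_inv_self] at h3
    rw [MulAut.smul_def]
    exact h3.symm

theorem conj_injective {G : Type u} [Group G] (hZ : Subgroup.center G = ⊥) :
    Function.Injective (MulAut.conj : G →* MulAut G) := by
  rw [injective_iff_map_eq_one]
  intro g hg
  have : g ∈ Subgroup.center G := by
    rw [Subgroup.mem_center_iff]
    intro h
    have h1 := congrArg (fun α : MulAut G => α h) hg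
    simp only [MulAut.conj_apply, MulAut.one_apply] at h1
    calc h * g = (g * h * g⁻¹) * g := by rw [h1]
      _ = g * h := by group
  rw [hZ] at this
  simpa using this

theorem main : OUTCNT.{u} := by
  intro G _ _ p _ P Q hZ hQP hReg
  classical
  have : Finite (MulAut G) := Finite.of_injective (fun α : MulAut G => (α : G → G))
    (fun α β h => MulEquiv.ext (congrFun h))
  -- the orbits of `(P, Q)` coincide
  have horb : MulAction.orbit G ((P, Q) : Sylow p G × Sylow p G) =
      MulAction.orbit (MulAut G) ((P, Q) : Sylow p G × Sylow p G) := by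
    ext ⟨P', Q'⟩
    constructor
    · rintro ⟨g, hg⟩
      exact ⟨MulAut.conj g, hg⟩
    · rintro ⟨α, hα⟩
      have hP' : α • P = P' := congrArg Prod.fst hα
      have hQ' : α • Q = Q' := congrArg Prod.snd hα
      have hne : Q' ≠ P' := by
        intro h
        apply hQP
        rw [← hP', ← hQ'] at h
        exact smul_left_cancel α h
      obtain ⟨g1, hg1⟩ := MulAction.exists_smul_eq G P' P
      have hne2 : g1 • Q' ≠ P := by
        intro h
        apply hne
        rw [← hg1] at h
        exact smul_left_cancel g1 h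
      obtain ⟨w, hw, hw2⟩ := hReg (g1 • Q') Q hne2 hQP
      have hwP : w • P = P := by
        rw [Sylow.smul_eq_iff_mem_normalizer]
        exact Subgroup.le_normalizer hw
      refine ⟨(w * g1)⁻¹, ?_⟩
      rw [inv_smul_eq_iff]
      ext1
      · show P = (w * g1) • P'
        rw [mul_smul, hg1, hwP]
      · show Q = (w * g1) • Q'
        rw [mul_smul, hw2]
  -- the stabilizers
  have hstG : MulAction.stabilizer G ((P, Q) : Sylow p G × Sylow p G) =
      Subgroup.normalizer ((P : Subgroup G) : Set G) ⊓
        Subgroup.normalizer ((Q : Subgroup G) : Set G) := by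
    ext g
    rw [MulAction.mem_stabilizer_iff, Subgroup.mem_inf]
    constructor
    · intro h
      exact ⟨Sylow.smul_eq_iff_mem_normalizer.1 (congrArg Prod.fst h),
        Sylow.smul_eq_iff_mem_normalizer.1 (congrArg Prod.snd h)⟩
    · rintro ⟨h1, h2⟩
      ext1
      · exact Sylow.smul_eq_iff_mem_normalizer.2 h1
      · exact Sylow.smul_eq_iff_mem_normalizer.2 h2
  have hstA : MulAction.stabilizer (MulAut G) ((P, Q) : Sylow p G × Sylow p G) =
      A0 (P : Subgroup G) (Q : Subgroup G) := by
    ext α
    rw [MulAction.mem_stabilizer_iff, mem_A0, ← smul_eq_iff, ← smul_eq_iff]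
    constructor
    · intro h
      exact ⟨congrArg Prod.fst h, congrArg Prod.snd h⟩
    · rintro ⟨h1, h2⟩
      ext1
      · exact h1
      · exact h2
  have e1 := MulAction.index_stabilizer G ((P, Q) : Sylow p G × Sylow p G)
  have e2 := MulAction.index_stabilizer (MulAut G) ((P, Q) : Sylow p G × Sylow p G)
  have c1 := Subgroup.index_mul_card (MulAction.stabilizer G ((P, Q) : Sylow p G × Sylow p G))
  have c2 := Subgroup.index_mul_card
    (MulAction.stabilizer (MulAut G) ((P, Q) : Sylow p G × Sylow p G))
  rw [e1, hstG] at c1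
  rw [e2, hstA, ← horb] at c2
  -- `|Aut G| = |Out G| * |G|`
  have c3 := Subgroup.card_eq_card_quotient_mul_card_subgroup
    ((MulAut.conj : G →* MulAut G).range)
  have c4 : Nat.card ↥((MulAut.conj : G →* MulAut G).range) = Nat.card G :=
    (Nat.card_congr (MonoidHom.ofInjective (conj_injective hZ)).toEquiv).symm
  rw [c4] at c3
  set n := (MulAction.orbit G ((P, Q) : Sylow p G × Sylow p G)).ncard with hn
  have hn0 : 0 < n := by
    rcases Nat.eq_zero_or_pos n with h | h
    · rw [h, zero_mul] at c1
      exact absurd c1.symm (Nat.card_pos (α := G)).ne'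
    · exact h
  have key : n * (Nat.card (MulAut G ⧸ (MulAut.conj : G →* MulAut G).range) *
        Nat.card ↥(Subgroup.normalizer ((P : Subgroup G) : Set G) ⊓
          Subgroup.normalizer ((Q : Subgroup G) : Set G))) =
      n * Nat.card ↥(A0 (P : Subgroup G) (Q : Subgroup G)) := by
    rw [c2, c3, ← c1]
    ring
  exact Nat.eq_of_mul_eq_mul_left hn0 key

end Cfsg.Agent.Lib.Helper75.ReeOutOUTCNT
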