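import Mathlib
import Cfsg.Agent.Lib.Helper18.ReeOutStmt

/-!
# S2127 piece TRIVA (second seat, helper75)

An automorphism trivial on `U/A`, on `H` and on `Z` is trivial on `A = {x 0 u v}`.
-/

set_option autoImplicit false

namespace Cfsg.Agent.Lib.Helper75.ReeOutTRIVA

open Cfsg.Agent.Lib.Helper18.ReeOutStmt

universe u v

theorem main : TRIVA.{u, v} := by
  intro G _ K _ _ m φ x e hp α hA hE hZ
  have hφ0 : φ 0 = 0 := map_zero φ
  have two_ne : (2 : K) ≠ 0 := by
    intro h
    have h3 := hp.char3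
    have : (1 : K) = 0 := by linear_combination h3 - h
    exact one_ne_zero this
  -- step 1: `α (x 0 u 0) = x 0 u 0`
  have key : ∀ u, α (x 0 u 0) = x 0 u 0 := by
    intro u
    obtain ⟨a, b, hab⟩ := hA 0 u 0
    -- a = u from the commutator relation with `x 1 0 0`
    obtain ⟨p, r, hpr⟩ := hA 1 0 0
    have rel : x 1 0 0 * x 0 u 0 = x 0 u 0 * x 1 0 0 * x 0 0 u := by
      rw [hp.x_mul, hp.x_mul, hp.x_mul]
      congr 1 <;> simp [hφ0]
    have rel2 := congrArg α rel
    rw [map_mul, map_mul, map_mul, hpr, hab, hZ, hp.x_mul, hp.x_mul, hp.x_mul] at rel2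
    obtain ⟨-, -, h3⟩ := hp.x_inj _ _ _ _ _ _ rel2
    simp [hφ0] at h3
    have hau : a = u := by linear_combination h3
    subst hau
    -- b = 0 from `e (-1)`
    have hm1 : (-1 : K) ≠ 0 := neg_ne_zero.mpr one_ne_zero
    have hφm1 : φ (-1) = -1 := by rw [map_neg, map_one]
    have c1 : ∀ w, e (-1) * x 0 a w = x 0 a (-w) * e (-1) := by
      intro w
      have e1 : (-1 : K) ^ 2 / φ (-1) ^ 3 * 0 = 0 := by simp
      have e2 : φ (-1) ^ 3 / (-1) * a = a := by
        rw [hφm1]
        have : ((-1 : K) ^ 3 / (-1)) = 1 := by norm_num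
        rw [this, one_mul]
      have e3 : (-1 : K) * w = -w := by ring
      rw [hp.e_x (-1) hm1, e1, e2, e3]
    have c2 := congrArg α (c1 0)
    rw [map_mul, map_mul, hE (-1) hm1, neg_zero, hab, c1 b] at c2
    have c3 : x 0 a (-b) = x 0 a b := mul_right_cancel c2
    obtain ⟨-, -, h4⟩ := hp.x_inj _ _ _ _ _ _ c3
    have hb : b = 0 := by
      have : (2 : K) * b = 0 := by linear_combination -h4
      rcases mul_eq_zero.1 this with h | h
      · exact absurd h two_ne
      · exact h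
    rw [hab, hb]
  intro u v
  have h1 : x 0 u v = x 0 u 0 * x 0 0 v := by
    rw [hp.x_mul]
    congr 1 <;> simp [hφ0]
  rw [h1, map_mul, key, hZ]

end Cfsg.Agent.Lib.Helper75.ReeOutTRIVA
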