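import Mathlib

/-!
# Symmetric algebras whose centre is two-dimensional and local

Let `A` be a finite-dimensional algebra over an algebraically closed field `F` with a
nondegenerate symmetric associative form `lam (x * y)`.  If the centre of `A` is `F ⊕ F z` with
`z ≠ 0`, `z * z = 0`, then `dim A = 2 n ^ 2` for some `n` (in fact `A ≅ Mat_n(F[x]/(x^2))`).

* `exists_central_of_traceForm`: trace forms of a symmetric algebra are `lam (w * ·)`, `w` central.
* `corner_core`: the radical squares to zero (corner ring argument).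
* `finrank_eq_two_mul_sq`: the dimension formula.
-/

set_option autoImplicit false
set_option linter.style.haveILetI false

namespace Cfsg.Agent.Lib.Helper75.SymAlg

open Module

variable {F A : Type*} [Field F] [Ring A] [Algebra F A] [FiniteDimensional F A]

/-- Trace forms of a symmetric algebra come from central elements. -/
theorem exists_central_of_traceForm (lam : A →ₗ[F] F) (hsym : ∀ x y, lam (x * y) = lam (y * x))
    (hnd : ∀ x, x ≠ 0 → ∃ y, lam (x * y) ≠ 0)
    (τ : A →ₗ[F] F) (hτ : ∀ x y, τ (x * y) = τ (y * x)) :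
    ∃ w : A, (∀ x, w * x = x * w) ∧ ∀ x, τ x = lam (w * x) := by
  obtain ⟨Φ, hΦ⟩ : ∃ Φ : A →ₗ[F] Module.Dual F A, ∀ w x, Φ w x = lam (w * x) :=
    ⟨(LinearMap.mul F A).compr₂ lam, fun w x => rfl⟩
  have hinj : Function.Injective Φ := by
    rw [← LinearMap.ker_eq_bot, LinearMap.ker_eq_bot']
    intro w hw
    by_contra h
    obtain ⟨y, hy⟩ := hnd w h
    apply hy
    rw [← hΦ, hw]
    rfl
  have hsurj : Function.Surjective Φ :=
    (LinearMap.injective_iff_surjective_of_finrank_eq_finrank
      (Subspace.dual_finrank_eq (K := F) (V := A)).symm).1 hinj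
  obtain ⟨w, hw⟩ := hsurj τ
  have hwx : ∀ x, τ x = lam (w * x) := fun x => by rw [← hΦ, hw]
  refine ⟨w, fun x => ?_, hwx⟩
  have h0 : Φ (w * x - x * w) = 0 := by
    apply LinearMap.ext
    intro y
    rw [hΦ, LinearMap.zero_apply, sub_mul, map_sub, mul_assoc, ← hwx, mul_assoc, hsym x (w * y),
      mul_assoc, ← hwx, hτ, sub_self]
  have h1 := hinj (h0.trans (map_zero Φ).symm)
  exact sub_eq_zero.1 h1

/-- The trace form of a matrix algebra is nondegenerate. -/
theorem matrix_eq_zero_of_trace {n : ℕ} (X : Matrix (Fin n) (Fin n) F)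
    (h : ∀ Y : Matrix (Fin n) (Fin n) F, (X * Y).trace = 0) : X = 0 := by
  ext i j
  have h1 := h (Matrix.single j i 1)
  rw [Matrix.trace_mul_comm, Matrix.trace_single_mul, one_smul] at h1
  exact h1

/-- The corner-ring argument: if the trace forms of `A` are spanned by `lam` and `lam (z * ·)`
where `z` annihilates the nilpotent kernel of a surjection `ψ` onto a matrix algebra, then the
kernel squares to zero. -/
theorem corner_core {n : ℕ} [NeZero n] (ψ : A →ₐ[F] Matrix (Fin n) (Fin n) F)
    (hψ : Function.Surjective ψ)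
    (hnil : ∃ k : ℕ, (RingHom.ker (ψ : A →+* Matrix (Fin n) (Fin n) F)) ^ k = ⊥)
    (lam : A →ₗ[F] F) (hsym : ∀ x y, lam (x * y) = lam (y * x))
    (hnd : ∀ x, x ≠ 0 → ∃ y, lam (x * y) ≠ 0)
    (z : A) (hzJ : ∀ x, ψ x = 0 → z * x = 0)
    (htf : ∀ τ : A →ₗ[F] F, (∀ x y, τ (x * y) = τ (y * x)) →
      ∃ a b : F, ∀ x, τ x = a * lam x + b * lam (z * x)) :
    ∀ x y, ψ x = 0 → ψ y = 0 → x * y = 0 := by
  classical
  obtain ⟨k, hk⟩ := hnil
  have hnilp : ∀ x, ψ x = 0 → IsNilpotent x := by
    intro x hx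
    refine ⟨k, ?_⟩
    have h1 : x ^ k ∈ (RingHom.ker (ψ : A →+* Matrix (Fin n) (Fin n) F)) ^ k :=
      Ideal.pow_mem_pow (RingHom.mem_ker.2 hx) k
    rw [hk] at h1
    exact h1
  -- the idempotent
  obtain ⟨ε, hε, hψε⟩ := exists_isIdempotentElem_eq_of_ker_isNilpotent
    (ψ : A →+* Matrix (Fin n) (Fin n) F) (fun x hx => hnilp x (RingHom.mem_ker.1 hx))
    (Matrix.single 0 0 1) (by obtain ⟨a, ha⟩ := hψ (Matrix.single 0 0 1); exact ⟨a, ha⟩)
    (by
      show Matrix.single (0 : Fin n) 0 (1 : F) * Matrix.single 0 0 1 = Matrix.single 0 0 1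
      rw [Matrix.single_mul_single_same, one_mul])
  have hψε' : ψ ε = Matrix.single 0 0 1 := hψε
  have hεε : ε * ε = ε := hε
  choose ut hut using fun i : Fin n => hψ (Matrix.single i 0 1)
  choose v hv using fun i : Fin n => hψ (Matrix.single 0 i 1)
  obtain ⟨s, hsdef⟩ : ∃ s : A, s = ∑ i, ut i * ε * v i := ⟨_, rfl⟩
  have hs : ψ s = 1 := by
    rw [hsdef, map_sum]
    have h1 : ∀ i : Fin n, ψ (ut i * ε * v i) = Matrix.single i i 1 := by
      intro i
      rw [map_mul, map_mul, hut, hv, hψε', Matrix.single_mul_single_same,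
        Matrix.single_mul_single_same, one_mul, one_mul]
    simp only [h1]
    ext a b
    rw [Matrix.sum_apply, Matrix.one_apply]
    by_cases hab : a = b
    · subst hab
      rw [if_pos rfl, Finset.sum_eq_single a]
      · simp
      · intro i _ hi
        rw [Matrix.single_apply, if_neg (fun h => hi h.1)]
      · intro h
        exact absurd (Finset.mem_univ a) h
    · rw [if_neg hab]
      apply Finset.sum_eq_zero
      intro i _
      rw [Matrix.single_apply, if_neg (fun h => hab (h.1.symm.trans h.2))]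
  have hsu : IsUnit s := by
    have h1 : IsNilpotent (1 - s) := hnilp _ (by rw [map_sub, map_one, hs, sub_self])
    have h2 := h1.isUnit_one_sub
    rwa [sub_sub_cancel] at h2
  obtain ⟨si, hsi⟩ : ∃ si : A, si * s = 1 := ⟨↑(hsu.unit⁻¹), by simp⟩
  obtain ⟨u, hudef⟩ : ∃ u : Fin n → A, ∀ i, u i = si * ut i := ⟨_, fun _ => rfl⟩
  have hone : ∑ i, u i * ε * v i = 1 := by
    rw [← hsi, hsdef, Finset.mul_sum]
    refine Finset.sum_congr rfl fun i _ => ?_
    rw [hudef, mul_assoc, mul_assoc, mul_assoc]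
  -- the corner
  have hcor : ∀ a : A, ε * a * ε = a → ∃ α : F, ψ (a - α • ε) = 0 := by
    intro a ha
    refine ⟨ψ a 0 0, ?_⟩
    rw [map_sub, map_smul, hψε', ← ha, map_mul, map_mul, hψε']
    ext i j
    by_cases hi : i = 0
    · by_cases hj : j = 0
      · subst hi; subst hj
        simp
      · simp [Ne.symm hj]
    · simp [Ne.symm hi]
  have hεl : ∀ a, ε * a * ε = a → ε * a = a := by
    intro a ha
    calc ε * a = ε * (ε * a * ε) := by rw [ha]
      _ = (ε * ε) * a * ε := by simp only [mul_assoc]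
      _ = a := by rw [hεε, ha]
  have hεr : ∀ a, ε * a * ε = a → a * ε = a := by
    intro a ha
    calc a * ε = (ε * a * ε) * ε := by rw [ha]
      _ = ε * a * (ε * ε) := by simp only [mul_assoc]
      _ = a := by rw [hεε, ha]
  have hW_mul : ∀ a b : A, ε * a * ε = a → ε * b * ε = b → ε * (a * b) * ε = a * b := by
    intro a b ha hb
    rw [← mul_assoc, hεl a ha, mul_assoc, hεr b hb]
  have hc : ∀ p q r : A, ε * (ε * p * q * (r * ε)) * ε = ε * p * q * (r * ε) := by
    intro p q r
    calc ε * (ε * p * q * (r * ε)) * ε = (ε * ε) * p * q * (r * (ε * ε)) := by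
          simp only [mul_assoc]
      _ = ε * p * q * (r * ε) := by rw [hεε]
  have hc2 : ∀ p : A, ε * (ε * p * ε) * ε = ε * p * ε := by
    intro p
    calc ε * (ε * p * ε) * ε = (ε * ε) * p * (ε * ε) := by simp only [mul_assoc]
      _ = ε * p * ε := by rw [hεε]
  have hsplit : ∀ p q r : A, p * q * r = ∑ j, (p * (u j * ε)) * (ε * v j * q * r) := by
    intro p q r
    calc p * q * r = p * (∑ j, u j * ε * v j) * q * r := by rw [hone, mul_one]
      _ = ∑ j, (p * (u j * ε)) * (ε * v j * q * r) := by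
          rw [Finset.mul_sum, Finset.sum_mul, Finset.sum_mul]
          refine Finset.sum_congr rfl fun j _ => ?_
          calc p * (u j * ε * v j) * q * r = p * (u j * (ε * ε) * v j) * q * r := by rw [hεε]
            _ = (p * (u j * ε)) * (ε * v j * q * r) := by simp only [mul_assoc]
  -- linear forms killing products of the radical of the corner are multiples of `lam` there
  have hθ : ∀ θ : A →ₗ[F] F,
      (∀ a b : A, ε * a * ε = a → ψ a = 0 → ε * b * ε = b → ψ b = 0 → θ (a * b) = 0) →
      ∃ α : F, ∀ a : A, ε * a * ε = a → ψ a = 0 → θ a = α * lam a := by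
    intro θ hθ0
    have hcomm : ∀ a b : A, ε * a * ε = a → ε * b * ε = b → θ (a * b) = θ (b * a) := by
      intro a b ha hb
      obtain ⟨α, hα⟩ := hcor a ha
      obtain ⟨β, hβ⟩ := hcor b hb
      have ha' : ε * (a - α • ε) * ε = a - α • ε := by
        rw [mul_sub, sub_mul, ha, mul_smul_comm, smul_mul_assoc, hεε, hεε]
      have hb' : ε * (b - β • ε) * ε = b - β • ε := by
        rw [mul_sub, sub_mul, hb, mul_smul_comm, smul_mul_assoc, hεε, hεε]
      have h1 := hθ0 _ _ ha' hα hb' hβ
      have h2 := hθ0 _ _ hb' hβ ha' hα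
      have x1 : (a - α • ε) * (b - β • ε) = a * b - β • a - α • b + (α * β) • ε := by
        rw [sub_mul, mul_sub, mul_sub, mul_smul_comm, smul_mul_assoc, smul_mul_assoc,
          mul_smul_comm, hεr a ha, hεl b hb, hεε, smul_smul]
        abel
      have x2 : (b - β • ε) * (a - α • ε) = b * a - α • b - β • a + (α * β) • ε := by
        rw [sub_mul, mul_sub, mul_sub, mul_smul_comm, smul_mul_assoc, smul_mul_assoc,
          mul_smul_comm, hεr b hb, hεl a ha, hεε, smul_smul, mul_comm β α]
        abel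
      have e1 : a * b - b * a = (a - α • ε) * (b - β • ε) - (b - β • ε) * (a - α • ε) := by
        rw [x1, x2]
        abel
      have h3 : θ (a * b) - θ (b * a) = 0 := by
        rw [← map_sub, e1, map_sub, h1, h2, sub_zero]
      exact sub_eq_zero.1 h3
    obtain ⟨τ, hτdef⟩ : ∃ τ : A →ₗ[F] F, ∀ x, τ x = ∑ i, θ (ε * v i * x * (u i * ε)) :=
      ⟨∑ i, θ.comp ((LinearMap.mulLeft F (ε * v i)).comp (LinearMap.mulRight F (u i * ε))),
        fun x => by simp [LinearMap.sum_apply, mul_assoc]⟩
    have key : ∀ x y : A, τ (x * y)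
        = ∑ i, ∑ j, θ ((ε * v i * x * (u j * ε)) * (ε * v j * y * (u i * ε))) := by
      intro x y
      rw [hτdef]
      refine Finset.sum_congr rfl fun i _ => ?_
      rw [← map_sum]
      congr 1
      calc ε * v i * (x * y) * (u i * ε) = (ε * v i * x) * y * (u i * ε) := by
            simp only [mul_assoc]
        _ = ∑ j, (ε * v i * x * (u j * ε)) * (ε * v j * y * (u i * ε)) := hsplit _ _ _
    have hτ : ∀ x y, τ (x * y) = τ (y * x) := by
      intro x y
      rw [key x y, key y x, Finset.sum_comm]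
      refine Finset.sum_congr rfl fun j _ => Finset.sum_congr rfl fun i _ => ?_
      exact hcomm _ _ (hc _ _ _) (hc _ _ _)
    obtain ⟨α, β, hαβ⟩ := htf τ hτ
    refine ⟨α, fun a ha hψa => ?_⟩
    have h1 : τ a = θ a := by
      rw [hτdef]
      have h2 : ∀ i, θ (ε * v i * a * (u i * ε)) = θ (a * (ε * u i * ε * (ε * v i * ε))) := by
        intro i
        have e1 : ε * v i * a * (u i * ε) = (ε * v i * ε) * (a * (ε * u i * ε)) := by
          calc ε * v i * a * (u i * ε) = ε * v i * (ε * a * ε) * (u i * ε) := by rw [ha]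
            _ = (ε * v i * ε) * (a * (ε * u i * ε)) := by simp only [mul_assoc]
        rw [e1, hcomm _ _ (hc2 _) (hW_mul _ _ ha (hc2 _))]
        simp only [mul_assoc]
      simp only [h2]
      rw [← map_sum, ← Finset.mul_sum]
      have h3 : ∑ i, ε * u i * ε * (ε * v i * ε) = ε := by
        have h4 : ∀ i, ε * u i * ε * (ε * v i * ε) = ε * (u i * ε * v i) * ε := by
          intro i
          calc ε * u i * ε * (ε * v i * ε) = ε * u i * (ε * ε) * v i * ε := by
                simp only [mul_assoc]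
            _ = ε * (u i * ε * v i) * ε := by
                rw [hεε]
                simp only [mul_assoc]
        simp only [h4]
        rw [← Finset.sum_mul, ← Finset.mul_sum, hone, mul_one, hεε]
      rw [h3, hεr a ha]
    rw [← h1, hαβ, hzJ a hψa, map_zero, mul_zero, add_zero]
  -- `lam` kills products in the radical of the corner
  have hlam : ∀ a b : A, ε * a * ε = a → ψ a = 0 → ε * b * ε = b → ψ b = 0 →
      lam (a * b) = 0 := by
    intro a0 b0 ha0 hψa0 hb0 hψb0
    by_contra hne
    obtain ⟨P, hPdef⟩ : ∃ P : Submodule F A, P = Submodule.span F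
        {c | ∃ a b : A, (ε * a * ε = a ∧ ψ a = 0) ∧ (ε * b * ε = b ∧ ψ b = 0) ∧ c = a * b} :=
      ⟨_, rfl⟩
    by_cases hcase : ∀ a : A, ε * a * ε = a → ψ a = 0 → a ∈ P
    · have hpow : ∀ m : ℕ, ∀ a : A, ε * a * ε = a → ψ a = 0 →
          a ∈ (RingHom.ker (ψ : A →+* Matrix (Fin n) (Fin n) F)) ^ m := by
        intro m
        induction m with
        | zero =>
          intro a _ _
          rw [Submodule.pow_zero, Ideal.one_eq_top]
          exact Submodule.mem_top
        | succ m ih =>
          intro a ha hψa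
          have hle : P ≤ ((RingHom.ker (ψ : A →+* Matrix (Fin n) (Fin n) F)) ^ (m + 1)).restrictScalars
              F := by
            rw [hPdef]
            apply Submodule.span_le.2
            rintro c ⟨a', b', ⟨ha', hψa'⟩, ⟨hb', hψb'⟩, rfl⟩
            show a' * b' ∈ (RingHom.ker (ψ : A →+* Matrix (Fin n) (Fin n) F)) ^ (m + 1)
            rw [Submodule.pow_succ]
            exact Ideal.mul_mem_mul (ih a' ha' hψa') (RingHom.mem_ker.2 hψb')
          exact hle (hcase a ha hψa)
      have h0 := hpow k a0 ha0 hψa0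
      rw [hk] at h0
      have h00 : a0 = 0 := h0
      apply hne
      rw [h00, zero_mul, map_zero]
    · push Not at hcase
      obtain ⟨a1, ha1, hψa1, ha1P⟩ := hcase
      obtain ⟨θ, hθ1, hθP⟩ := Submodule.exists_dual_map_eq_bot_of_notMem ha1P inferInstance
      have hθ0 : ∀ c ∈ P, θ c = 0 := by
        intro c hc
        have h1 : θ c ∈ Submodule.map θ P := Submodule.mem_map_of_mem hc
        rw [hθP] at h1
        exact h1
      have hmemP : ∀ a b : A, ε * a * ε = a → ψ a = 0 → ε * b * ε = b → ψ b = 0 →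
          a * b ∈ P := by
        intro a b ha hψa hb hψb
        rw [hPdef]
        exact Submodule.subset_span ⟨a, b, ⟨ha, hψa⟩, ⟨hb, hψb⟩, rfl⟩
      obtain ⟨α, hα⟩ := hθ θ (fun a b ha hψa hb hψb => hθ0 _ (hmemP a b ha hψa hb hψb))
      have hα0 : α ≠ 0 := by
        intro h
        apply hθ1
        rw [hα a1 ha1 hψa1, h, zero_mul]
      have h1 := hα (a0 * b0) (hW_mul a0 b0 ha0 hb0) (by rw [map_mul, hψa0, zero_mul])
      rw [hθ0 _ (hmemP a0 b0 ha0 hψa0 hb0 hψb0)] at h1
      exact hne ((mul_eq_zero.1 h1.symm).resolve_left hα0)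
  have hlamJ : ∀ x y : A, ψ x = 0 → ψ y = 0 → lam (x * y) = 0 := by
    intro x y hx hy
    have e1 : x * y = ∑ i, u i * (ε * v i * x * y) := by
      calc x * y = (∑ i, u i * ε * v i) * (x * y) := by rw [hone, one_mul]
        _ = ∑ i, u i * (ε * v i * x * y) := by
            rw [Finset.sum_mul]
            exact Finset.sum_congr rfl fun i _ => by simp only [mul_assoc]
    rw [e1, map_sum]
    apply Finset.sum_eq_zero
    intro i _
    rw [hsym]
    have e2 : ε * v i * x * y * u i = ε * (ε * v i * x * y * u i) := by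
      simp only [← mul_assoc, hεε]
    rw [e2, hsym]
    have e3 : ε * v i * x * y * u i * ε
        = ∑ j, (ε * v i * x * (u j * ε)) * (ε * v j * y * (u i * ε)) := by
      calc ε * v i * x * y * u i * ε = (ε * v i * x) * y * (u i * ε) := by
            simp only [mul_assoc]
        _ = ∑ j, (ε * v i * x * (u j * ε)) * (ε * v j * y * (u i * ε)) := hsplit _ _ _
    rw [e3, map_sum]
    apply Finset.sum_eq_zero
    intro j _
    refine hlam _ _ (hc _ _ _) ?_ (hc _ _ _) ?_
    · simp only [map_mul, hx, mul_zero, zero_mul]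
    · simp only [map_mul, hy, mul_zero, zero_mul]
  intro x y hx hy
  by_contra hne
  obtain ⟨w, hw⟩ := hnd (x * y) hne
  apply hw
  rw [mul_assoc]
  exact hlamJ x (y * w) hx (by rw [map_mul, hy, zero_mul])

/-- **Symmetric algebras with two-dimensional local centre.**  A finite-dimensional symmetric
algebra over an algebraically closed field whose centre is `F ⊕ F z` with `z ≠ 0`, `z * z = 0`
has dimension `2 n ^ 2`. -/
theorem finrank_eq_two_mul_sq [IsAlgClosed F] (lam : A →ₗ[F] F)
    (hsym : ∀ x y, lam (x * y) = lam (y * x))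
    (hnd : ∀ x, x ≠ 0 → ∃ y, lam (x * y) ≠ 0)
    (z : A) (hzc : ∀ x, z * x = x * z) (hz2 : z * z = 0) (hz0 : z ≠ 0)
    (hcen : ∀ w : A, (∀ x, w * x = x * w) → ∃ a b : F, w = algebraMap F A a + b • z) :
    ∃ n : ℕ, Module.finrank F A = 2 * n ^ 2 := by
  classical
  have htf : ∀ τ : A →ₗ[F] F, (∀ x y, τ (x * y) = τ (y * x)) →
      ∃ a b : F, ∀ x, τ x = a * lam x + b * lam (z * x) := by
    intro τ hτ
    obtain ⟨w, hwc, hw⟩ := exists_central_of_traceForm lam hsym hnd τ hτ
    obtain ⟨a, b, hab⟩ := hcen w hwc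
    refine ⟨a, b, fun x => ?_⟩
    rw [hw, hab, add_mul, map_add, ← Algebra.smul_def, map_smul, smul_mul_assoc, map_smul,
      smul_eq_mul, smul_eq_mul]
  haveI : IsArtinianRing A := IsArtinianRing.of_finite F A
  have hJnil : IsNilpotent (Ring.jacobson A) := IsSemiprimaryRing.isNilpotent
  haveI : FiniteDimensional F (A ⧸ Ring.jacobson A) :=
    Module.Finite.of_surjective (Ideal.Quotient.mkₐ F (Ring.jacobson A)).toLinearMap
      (Ideal.Quotient.mkₐ_surjective F (Ring.jacobson A))
  obtain ⟨l, d, hd, ⟨e⟩⟩ :=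
    IsSemisimpleRing.exists_algEquiv_pi_matrix_of_isAlgClosed F (A ⧸ Ring.jacobson A)
  obtain ⟨φ, hφdef⟩ : ∃ φ : A →ₐ[F] (Π i : Fin l, Matrix (Fin (d i)) (Fin (d i)) F),
      ∀ x, φ x = e (Ideal.Quotient.mk (Ring.jacobson A) x) :=
    ⟨(e : (A ⧸ Ring.jacobson A) →ₐ[F] _).comp (Ideal.Quotient.mkₐ F (Ring.jacobson A)),
      fun x => rfl⟩
  have hφsurj : Function.Surjective φ := by
    intro y
    obtain ⟨q, hq⟩ := e.surjective y
    obtain ⟨x, hx⟩ := Ideal.Quotient.mk_surjective q
    exact ⟨x, by rw [hφdef, hx, hq]⟩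
  have hφker : ∀ x, φ x = 0 ↔ x ∈ Ring.jacobson A := by
    intro x
    rw [hφdef, ← Ideal.Quotient.eq_zero_iff_mem]
    constructor
    · intro h
      exact e.injective (h.trans (map_zero e).symm)
    · intro h
      rw [h, map_zero]
  obtain ⟨kk, hkk⟩ := hJnil
  have hJelt : ∀ x ∈ Ring.jacobson A, IsNilpotent x := by
    intro x hx
    refine ⟨kk, ?_⟩
    have h1 : x ^ kk ∈ (Ring.jacobson A) ^ kk := Submodule.pow_mem_pow _ hx kk
    rw [hkk] at h1
    exact h1
  -- the trace forms
  obtain ⟨t, htdef⟩ : ∃ t : Fin l → (A →ₗ[F] F), ∀ i x, t i x = (φ x i).trace :=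
    ⟨fun i => (Matrix.traceLinearMap (Fin (d i)) F F).comp
      ((LinearMap.proj i).comp φ.toLinearMap), fun i x => rfl⟩
  have httr : ∀ i x y, t i (x * y) = t i (y * x) := by
    intro i x y
    rw [htdef, htdef, map_mul, map_mul, Pi.mul_apply, Pi.mul_apply, Matrix.trace_mul_comm]
  choose a b hab using fun i => htf (t i) (httr i)
  -- `z` lies in the radical
  have hzJ : z ∈ Ring.jacobson A := by
    rw [← hφker]
    funext i
    have hcomm : ∀ Y : Matrix (Fin (d i)) (Fin (d i)) F, φ z i * Y = Y * φ z i := by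
      intro Y
      obtain ⟨y, hy⟩ := hφsurj (Pi.single i Y)
      have h1 : φ (z * y) i = φ (y * z) i := by rw [hzc]
      rw [map_mul, map_mul, Pi.mul_apply, Pi.mul_apply, hy, Pi.single_eq_same] at h1
      exact h1
    have hsc : φ z i ∈ Set.range (Matrix.scalar (Fin (d i))) :=
      Matrix.mem_range_scalar_of_commute_single (fun i' j' _ => (hcomm _).symm)
    obtain ⟨c, hc⟩ := hsc
    have hsq : φ z i * φ z i = 0 := by
      have h1 : φ (z * z) i = 0 := by rw [hz2, map_zero]; rfl
      rw [map_mul, Pi.mul_apply] at h1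
      exact h1
    rw [← hc] at hsq ⊢
    haveI := hd i
    have h2 := congrFun (congrFun hsq (0 : Fin (d i))) 0
    simp only [Matrix.scalar_apply, Matrix.diagonal_mul_diagonal, Matrix.diagonal_apply_eq,
      Matrix.zero_apply] at h2
    have hc0 : c = 0 := by simpa using h2
    rw [hc0, map_zero]
    rfl
  have hlamJ : ¬ ∀ j ∈ Ring.jacobson A, lam j = 0 := by
    intro h
    obtain ⟨y, hy⟩ := hnd z hz0
    apply hy
    rw [hzc]
    exact h _ (Ideal.mul_mem_left _ y hzJ)
  have ha0 : ∀ i, a i = 0 := by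
    intro i
    by_contra hai
    apply hlamJ
    intro j hj
    have h1 : ∀ j ∈ Ring.jacobson A, a i * lam j + b i * lam (z * j) = 0 := by
      intro j hj
      rw [← hab, htdef, (hφker j).2 hj]
      simp
    have h2 := h1 (z * j) (Ideal.mul_mem_left _ z hj)
    rw [← mul_assoc, hz2, zero_mul, map_zero, mul_zero, add_zero] at h2
    have h3 : lam (z * j) = 0 := (mul_eq_zero.1 h2).resolve_left hai
    have h4 := h1 j hj
    rw [h3, mul_zero, add_zero] at h4
    exact (mul_eq_zero.1 h4).resolve_left hai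
  have htb : ∀ i x, t i x = b i * lam (z * x) := by
    intro i x
    rw [hab, ha0, zero_mul, zero_add]
  -- lifts of the matrix units
  have hlift : ∀ i : Fin l, ∃ x : A, t i x = 1 ∧ ∀ i', i' ≠ i → t i' x = 0 := by
    intro i
    haveI := hd i
    obtain ⟨x, hx⟩ := hφsurj (Pi.single i (Matrix.single 0 0 1))
    refine ⟨x, ?_, fun i' hi' => ?_⟩
    · rw [htdef, hx, Pi.single_eq_same, Matrix.trace_single_eq_same]
    · rw [htdef, hx, Pi.single_eq_of_ne hi', Matrix.trace_zero]
  have huniq : ∀ i i' : Fin l, i = i' := by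
    intro i i'
    by_contra hne
    obtain ⟨x, hx1, hx0⟩ := hlift i
    obtain ⟨x', hx1', -⟩ := hlift i'
    have h1 := hx0 i' (fun h => hne h.symm)
    rw [htb] at h1
    have h2 : lam (z * x) ≠ 0 := by
      intro h
      rw [htb, h, mul_zero] at hx1
      exact zero_ne_one hx1
    have h3 : b i' = 0 := (mul_eq_zero.1 h1).resolve_right h2
    rw [htb, h3, zero_mul] at hx1'
    exact zero_ne_one hx1'
  have hl : 0 < l := by
    by_contra h
    have hl0 : l = 0 := by omega
    subst hl0
    have h1 : φ 1 = 0 := Subsingleton.elim _ _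
    have h2 := hJelt 1 ((hφker 1).1 h1)
    obtain ⟨m, hm⟩ := h2
    rw [one_pow] at hm
    apply hz0
    rw [← mul_one z, hm, mul_zero]
  obtain ⟨i0⟩ : Nonempty (Fin l) := ⟨⟨0, hl⟩⟩
  haveI := hd i0
  obtain ⟨ψ, hψdef⟩ : ∃ ψ : A →ₐ[F] Matrix (Fin (d i0)) (Fin (d i0)) F, ∀ x, ψ x = φ x i0 :=
    ⟨(Pi.evalAlgHom F (fun i : Fin l => Matrix (Fin (d i)) (Fin (d i)) F) i0).comp φ,
      fun x => rfl⟩
  have hψsurj : Function.Surjective ψ := by
    intro Y
    obtain ⟨y, hy⟩ := hφsurj (Pi.single i0 Y)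
    exact ⟨y, by rw [hψdef, hy, Pi.single_eq_same]⟩
  have hψker : ∀ x, ψ x = 0 ↔ x ∈ Ring.jacobson A := by
    intro x
    rw [← hφker, hψdef]
    constructor
    · intro h
      funext i
      rw [huniq i i0, h]
      rfl
    · intro h
      rw [h]
      rfl
  have hker : RingHom.ker (ψ : A →+* Matrix (Fin (d i0)) (Fin (d i0)) F) = Ring.jacobson A := by
    ext x
    rw [RingHom.mem_ker]
    exact hψker x
  have htψ : ∀ x, (ψ x).trace = b i0 * lam (z * x) := by
    intro x
    rw [hψdef, ← htdef, htb]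
  have hb0 : b i0 ≠ 0 := by
    intro h
    obtain ⟨x, hx1, -⟩ := hlift i0
    rw [htb, h, zero_mul] at hx1
    exact zero_ne_one hx1
  -- the radical is the annihilator of `z`
  have hK1 : ∀ x, ψ x = 0 ↔ z * x = 0 := by
    intro x
    constructor
    · intro hx
      by_contra hne
      obtain ⟨y, hy⟩ := hnd (z * x) hne
      apply hy
      have h1 := htψ (x * y)
      rw [map_mul, hx, zero_mul, Matrix.trace_zero, ← mul_assoc] at h1
      exact (mul_eq_zero.1 h1.symm).resolve_left hb0
    · intro hx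
      apply matrix_eq_zero_of_trace
      intro Y
      obtain ⟨y, hy⟩ := hψsurj Y
      rw [← hy, ← map_mul, htψ, ← mul_assoc, hx, zero_mul, map_zero, mul_zero]
  have hJ2 : ∀ x y, ψ x = 0 → ψ y = 0 → x * y = 0 :=
    corner_core ψ hψsurj ⟨kk, by rw [hker]; exact hkk⟩ lam hsym hnd z
      (fun x hx => (hK1 x).1 hx) htf
  -- dimension count
  refine ⟨d i0, ?_⟩
  have hrange : LinearMap.range ψ.toLinearMap = ⊤ := LinearMap.range_eq_top.2 hψsurj
  have h1 := LinearMap.finrank_range_add_finrank_ker ψ.toLinearMap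
  rw [hrange, finrank_top, Module.finrank_matrix, Module.finrank_self, mul_one,
    Fintype.card_fin] at h1
  have hkerz : LinearMap.ker (LinearMap.mulLeft F z) = LinearMap.ker ψ.toLinearMap := by
    ext x
    rw [LinearMap.mem_ker, LinearMap.mem_ker, LinearMap.mulLeft_apply]
    exact (hK1 x).symm
  have h2 := LinearMap.finrank_range_add_finrank_ker (LinearMap.mulLeft F z)
  rw [hkerz] at h2
  have hle : LinearMap.range (LinearMap.mulLeft F z) ≤ LinearMap.ker ψ.toLinearMap := by
    rintro _ ⟨x, rfl⟩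
    rw [LinearMap.mem_ker, LinearMap.mulLeft_apply]
    apply (hK1 (z * x)).2
    rw [← mul_assoc, hz2, zero_mul]
  have h3 := Submodule.finrank_mono hle
  -- the upper bound for the radical
  obtain ⟨σ, hσ⟩ := ψ.toLinearMap.exists_rightInverse_of_surjective hrange
  have hσ' : ∀ Y, ψ (σ Y) = Y := fun Y => LinearMap.congr_fun hσ Y
  obtain ⟨Υ, hΥ⟩ : ∃ Υ : LinearMap.ker ψ.toLinearMap →ₗ[F]
      Module.Dual F (Matrix (Fin (d i0)) (Fin (d i0)) F),
      ∀ j Y, Υ j Y = lam ((j : A) * σ Y) :=
    ⟨(LinearMap.lcomp F F σ).comp (((LinearMap.mul F A).compr₂ lam).comp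
      (LinearMap.ker ψ.toLinearMap).subtype), fun j Y => rfl⟩
  have hΥinj : Function.Injective Υ := by
    rw [← LinearMap.ker_eq_bot, LinearMap.ker_eq_bot']
    intro j hj
    by_contra hne
    have hne' : (j : A) ≠ 0 := fun h => hne (Subtype.ext h)
    obtain ⟨x, hx⟩ := hnd (j : A) hne'
    apply hx
    have hjψ : ψ (j : A) = 0 := LinearMap.mem_ker.1 j.2
    have h4 : (j : A) * (x - σ (ψ x)) = 0 := hJ2 _ _ hjψ (by rw [map_sub, hσ', sub_self])
    have h5 : (j : A) * x = (j : A) * σ (ψ x) := by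
      rw [mul_sub] at h4
      exact sub_eq_zero.1 h4
    rw [h5, ← hΥ, hj]
    rfl
  have h4 := LinearMap.finrank_le_finrank_of_injective hΥinj
  rw [Subspace.dual_finrank_eq, Module.finrank_matrix, Module.finrank_self, mul_one,
    Fintype.card_fin] at h4
  nlinarith [h1, h2, h3, h4]

end Cfsg.Agent.Lib.Helper75.SymAlg
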