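import Mathlib
import Cfsg.Agent.Lib.Helper75.SymAlg

/-!
# Blocks of a symmetric algebra with two-dimensional centre

`block_finrank`: let `Γ` be a finite-dimensional symmetric algebra over an algebraically closed
field, `ē` a central idempotent and `z` a nonzero central element with `ē z = z`, `z² = 0` such
that `ē w ∈ F ē + F z` for every central `w`.  Then `dim ē Γ = 2 n ^ 2`.
-/

set_option autoImplicit false
set_option linter.style.haveILetI false

namespace Cfsg.Agent.Lib.Helper75.SymAlg2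

open Module

variable {F Γ : Type*} [Field F] [Ring Γ] [Algebra F Γ] [FiniteDimensional F Γ]

/-- The annihilator of a central idempotent, as an ideal. -/
def annIdeal (ē : Γ) (hēc : ∀ x, ē * x = x * ē) : Ideal Γ where
  carrier := {x | ē * x = 0}
  add_mem' := by
    intro a b ha hb
    show ē * (a + b) = 0
    rw [mul_add, ha, hb, add_zero]
  zero_mem' := mul_zero ē
  smul_mem' := by
    intro c x hx
    show ē * (c * x) = 0
    rw [← mul_assoc, hēc c, mul_assoc, hx, mul_zero]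

theorem mem_annIdeal (ē : Γ) (hēc : ∀ x, ē * x = x * ē) (x : Γ) :
    x ∈ annIdeal ē hēc ↔ ē * x = 0 := Iff.rfl

instance annIdeal_isTwoSided (ē : Γ) (hēc : ∀ x, ē * x = x * ē) :
    (annIdeal ē hēc).IsTwoSided :=
  ⟨fun {a} b ha => by
    show ē * (a * b) = 0
    rw [← mul_assoc, (mem_annIdeal ē hēc a).1 ha, zero_mul]⟩

theorem block_finrank [IsAlgClosed F] (lam : Γ →ₗ[F] F)
    (hsym : ∀ x y, lam (x * y) = lam (y * x))
    (hnd : ∀ x, x ≠ 0 → ∃ y, lam (x * y) ≠ 0)
    (ē z : Γ) (hē : ē * ē = ē) (hēc : ∀ x, ē * x = x * ē) (hzc : ∀ x, z * x = x * z)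
    (hzē : ē * z = z) (hz2 : z * z = 0) (hz0 : z ≠ 0)
    (hcen : ∀ w : Γ, (∀ x, w * x = x * w) → ∃ a b : F, ē * w = a • ē + b • z) :
    ∃ n : ℕ, Module.finrank F (LinearMap.range (LinearMap.mulLeft F ē)) = 2 * n ^ 2 := by
  classical
  obtain ⟨π, hπdef⟩ : ∃ π : Γ →ₐ[F] Γ ⧸ annIdeal ē hēc,
      ∀ x, π x = Ideal.Quotient.mk (annIdeal ē hēc) x :=
    ⟨Ideal.Quotient.mkₐ F (annIdeal ē hēc), fun x => rfl⟩
  have hπsurj : Function.Surjective π := by
    intro y
    obtain ⟨x, hx⟩ := Ideal.Quotient.mk_surjective y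
    exact ⟨x, by rw [hπdef, hx]⟩
  have hπ0 : ∀ x, π x = 0 ↔ ē * x = 0 := by
    intro x
    rw [hπdef, Ideal.Quotient.eq_zero_iff_mem]
    rfl
  have hπeq : ∀ x y, π x = π y ↔ ē * x = ē * y := by
    intro x y
    rw [← sub_eq_zero, ← map_sub, hπ0, mul_sub, sub_eq_zero]
  have hπē : ∀ x, π (ē * x) = π x := by
    intro x
    rw [hπeq, ← mul_assoc, hē]
  haveI : FiniteDimensional F (Γ ⧸ annIdeal ē hēc) :=
    Module.Finite.of_surjective π.toLinearMap hπsurj
  have hrange : LinearMap.range π.toLinearMap = ⊤ := LinearMap.range_eq_top.2 hπsurj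
  obtain ⟨σ, hσ⟩ := π.toLinearMap.exists_rightInverse_of_surjective hrange
  have hσ' : ∀ y, π (σ y) = y := fun y => LinearMap.congr_fun hσ y
  obtain ⟨lam', hlam'def⟩ : ∃ lam' : (Γ ⧸ annIdeal ē hēc) →ₗ[F] F,
      ∀ y, lam' y = lam (ē * σ y) :=
    ⟨lam.comp ((LinearMap.mulLeft F ē).comp σ), fun y => rfl⟩
  have hlam' : ∀ x, lam' (π x) = lam (ē * x) := by
    intro x
    rw [hlam'def]
    congr 1
    exact (hπeq _ _).1 (hσ' (π x))
  have hsym' : ∀ a b, lam' (a * b) = lam' (b * a) := by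
    intro a b
    obtain ⟨x, rfl⟩ := hπsurj a
    obtain ⟨y, rfl⟩ := hπsurj b
    rw [← map_mul, ← map_mul, hlam', hlam']
    calc lam (ē * (x * y)) = lam ((ē * x) * y) := by rw [mul_assoc]
      _ = lam (y * (ē * x)) := hsym _ _
      _ = lam ((ē * y) * x) := by rw [← mul_assoc, hēc y]
      _ = lam (ē * (y * x)) := by rw [mul_assoc]
  have hnd' : ∀ a, a ≠ 0 → ∃ b, lam' (a * b) ≠ 0 := by
    intro a ha
    obtain ⟨x, rfl⟩ := hπsurj a
    have hx : ē * x ≠ 0 := fun h => ha ((hπ0 x).2 h)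
    obtain ⟨y, hy⟩ := hnd _ hx
    refine ⟨π y, ?_⟩
    rw [← map_mul, hlam', ← mul_assoc]
    exact hy
  have hz0' : π z ≠ 0 := by
    intro h
    rw [hπ0, hzē] at h
    exact hz0 h
  have hcen' : ∀ w : Γ ⧸ annIdeal ē hēc, (∀ x, w * x = x * w) →
      ∃ a b : F, w = algebraMap F _ a + b • π z := by
    intro w hw
    obtain ⟨w0, rfl⟩ := hπsurj w
    have hc : ∀ x, (ē * w0) * x = x * (ē * w0) := by
      intro x
      have h1 : π (w0 * x - x * w0) = 0 := by
        rw [map_sub, map_mul, map_mul, hw (π x), sub_self]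
      have h2 := (hπ0 _).1 h1
      rw [mul_sub, sub_eq_zero] at h2
      rw [mul_assoc, h2, ← mul_assoc, hēc x, mul_assoc]
    obtain ⟨a, b, hab⟩ := hcen _ hc
    rw [← mul_assoc, hē] at hab
    refine ⟨a, b, ?_⟩
    have hπ1 : π ē = 1 := by
      rw [← map_one π, hπeq, mul_one, hē]
    rw [← hπē w0, hab, map_add, map_smul, map_smul, hπ1, Algebra.algebraMap_eq_smul_one]
  obtain ⟨n, hn⟩ := Cfsg.Agent.Lib.Helper75.SymAlg.finrank_eq_two_mul_sq lam' hsym' hnd' (π z)
    (fun y => by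
      obtain ⟨x, rfl⟩ := hπsurj y
      rw [← map_mul, ← map_mul, hzc])
    (by rw [← map_mul, hz2, map_zero]) hz0' hcen'
  refine ⟨n, ?_⟩
  rw [← hn]
  have h1 := LinearMap.finrank_range_add_finrank_ker π.toLinearMap
  rw [hrange, finrank_top] at h1
  have h2 := LinearMap.finrank_range_add_finrank_ker (LinearMap.mulLeft F ē)
  have hker : LinearMap.ker (LinearMap.mulLeft F ē) = LinearMap.ker π.toLinearMap := by
    ext x
    rw [LinearMap.mem_ker, LinearMap.mem_ker, LinearMap.mulLeft_apply]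
    exact (hπ0 x).symm
  rw [hker] at h2
  omega

end Cfsg.Agent.Lib.Helper75.SymAlg2
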