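import Mathlib
import Cfsg.Prelude.Def_Blocks
import Cfsg.Agent.Lib.Helper77.BlockIdem
import Cfsg.Agent.Lib.Helper75.SymAlg2
import Cfsg.Agent.Lib.Helper75.IdemRank
import Cfsg.Agent.Lib.Helper75.GrpAlg
import Cfsg.Agent.Lib.Helper75.ResField
import Cfsg.Agent.Lib.Helper75.TwoCharNum
import Cfsg.Agent.Lib.Helper16.Defect
import Cfsg.Agent.Lib.Helper75.SepClasses
import Cfsg.Agent.Lib.Helper75.DefOne2
import Cfsg.Agent.Lib.Helper77.OsimaVanish
import Cfsg.Agent.Lib.CT.KnRel

/-!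
# Blocks with two irreducible characters have defect groups of order two (Brandt)

`dim_of_data`: reduction of the block algebra modulo the local ideal, giving `dim = 2 n ^ 2`.
`card_two_imp`: a block with exactly two irreducible characters has defect groups of order `2`.
-/

set_option autoImplicit false
set_option linter.style.haveILetI false

namespace Cfsg.Agent.Lib.Helper75.TwoChar

open Cfsg Cfsg.Agent.Lib.Helper77.LocalRing Cfsg.Agent.Lib.Helper77.CentralChar
  Cfsg.Agent.Lib.Helper77.ClassSum Cfsg.Agent.Lib.Helper77.BlockIdem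
  Cfsg.Agent.Lib.CT.Wedderburn Cfsg.Agent.Lib.Helper75.GrpAlg
open scoped ComplexConjugate

universe u
variable {G : Type u} [Group G] {M : Ideal AlgInt}

theorem mapRingHom_smul {k k' : Type*} [CommRing k] [CommRing k'] (f : k →+* k') (s : k)
    (x : MonoidAlgebra k G) :
    MonoidAlgebra.mapRingHom G f (s • x) = f s • MonoidAlgebra.mapRingHom G f x := by
  apply MonoidAlgebra.ext
  ext g
  rw [MonoidAlgebra.coeff_mapRingHom, MonoidAlgebra.coeff_smul, MonoidAlgebra.coeff_smul,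
    Finsupp.smul_apply, Finsupp.smul_apply, MonoidAlgebra.coeff_mapRingHom, smul_eq_mul,
    smul_eq_mul, map_mul]

theorem mapRingHom_single_one {k k' : Type*} [CommRing k] [CommRing k'] (f : k →+* k') (g : G) :
    MonoidAlgebra.mapRingHom G f (MonoidAlgebra.single g 1) = MonoidAlgebra.single g 1 := by
  classical
  apply MonoidAlgebra.ext
  ext h
  rw [MonoidAlgebra.coeff_mapRingHom, MonoidAlgebra.coeff_single, MonoidAlgebra.coeff_single,
    Finsupp.single_apply, Finsupp.single_apply]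
  split_ifs
  · exact map_one f
  · exact map_zero f

/-- The inclusion of the group algebra over the local ring into the complex group algebra. -/
noncomputable def incl (hMp : M.IsPrime) :
    MonoidAlgebra (localSubring M hMp) G →+* MonoidAlgebra ℂ G :=
  MonoidAlgebra.mapRingHom G (localSubring M hMp).subtype

theorem coeff_incl (hMp : M.IsPrime) (x : MonoidAlgebra (localSubring M hMp) G) (g : G) :
    (incl hMp x).coeff g = ((x.coeff g : localSubring M hMp) : ℂ) := by
  unfold incl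
  rw [MonoidAlgebra.coeff_mapRingHom]
  rfl

theorem incl_injective (hMp : M.IsPrime) :
    Function.Injective (incl (G := G) hMp) := by
  intro x y hxy
  apply MonoidAlgebra.ext
  ext g
  rw [← coeff_incl, ← coeff_incl, hxy]

theorem incl_smul (hMp : M.IsPrime) (s : localSubring M hMp)
    (x : MonoidAlgebra (localSubring M hMp) G) :
    incl hMp (s • x) = (s : ℂ) • incl hMp x := by
  unfold incl
  rw [mapRingHom_smul]
  rfl

theorem incl_single_one (hMp : M.IsPrime) (g : G) :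
    incl (M := M) hMp (MonoidAlgebra.single g 1) = MonoidAlgebra.single g 1 := by
  unfold incl
  exact mapRingHom_single_one _ g

/-- The lift of an integral element of the complex group algebra. -/
noncomputable def lift [Finite G] (hMp : M.IsPrime) (z : MonoidAlgebra ℂ G)
    (hz : z ∈ intSubring M hMp) : MonoidAlgebra (localSubring M hMp) G :=
  MonoidAlgebra.ofCoeff (Finsupp.equivFunOnFinite.symm fun g => ⟨z.coeff g, hz g⟩)

theorem coeff_lift [Finite G] (hMp : M.IsPrime) (z : MonoidAlgebra ℂ G)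
    (hz : z ∈ intSubring M hMp) (g : G) :
    (((lift hMp z hz).coeff g : localSubring M hMp) : ℂ) = z.coeff g := rfl

theorem incl_lift [Finite G] (hMp : M.IsPrime) (z : MonoidAlgebra ℂ G)
    (hz : z ∈ intSubring M hMp) : incl hMp (lift hMp z hz) = z := by
  apply MonoidAlgebra.ext
  ext g
  rw [coeff_incl, coeff_lift]

theorem coeff_classSum [Finite G] (g h : G) :
    (classSum g).coeff h = 1 ∧ IsConj g h ∨ (classSum g).coeff h = 0 ∧ ¬ IsConj g h := by
  classical
  unfold classSum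
  rw [coeff_ofFun]
  by_cases hc : IsConj g h
  · left
    exact ⟨if_pos hc, hc⟩
  · right
    exact ⟨if_neg hc, hc⟩

/-- Reduction modulo the local ideal: if the block idempotent `e` and a central element `ζ`
with `e ζ = ζ`, `ζ² ∈ π ζ` (`π` in the local ideal), `ζ` nonzero mod the local ideal, span the
image of the centre in the block, then `|G| e(1) = 2 n²`. -/
theorem dim_of_data [Finite G] (p : ℕ) [Fact p.Prime] (hM : IsPModular p M)
    (e ζ : MonoidAlgebra ℂ G)
    (he : e ∈ intSubring M (isPrime_of_isPModular hM))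
    (hζ : ζ ∈ intSubring M (isPrime_of_isPModular hM))
    (hec : e ∈ Zc G) (hζc : ζ ∈ Zc G)
    (hee : e * e = e) (heζ : e * ζ = ζ) (π : ℂ) (hπ : MemLocalIdeal M π)
    (hζζ : ζ * ζ = π • ζ) (g₀ : G) (hg₀ : ¬ MemLocalIdeal M (ζ.coeff g₀))
    (hdec : ∀ g : G, ∃ a b : ℂ, MemLocalRing M a ∧ MemLocalRing M b ∧
      e * classSum g = a • e + b • ζ)
    (r : ℕ) (hr : (Nat.card G : ℂ) * e.coeff 1 = r) :
    ∃ n : ℕ, r = 2 * n ^ 2 := by
  classical
  obtain ⟨hMp, hMpdef⟩ : ∃ h : M.IsPrime, h = isPrime_of_isPModular hM := ⟨_, rfl⟩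
  rw [← hMpdef] at he hζ
  letI : Fintype G := Fintype.ofFinite G
  obtain ⟨F, instF, instAC, q, hq⟩ := Cfsg.Agent.Lib.Helper75.ResField.exists_resField hMp hM.2.1
  letI := instF
  haveI := instAC
  haveI : Module.Finite F (MonoidAlgebra F G) :=
    Module.Finite.equiv (MonoidAlgebra.coeffLinearEquiv (R := F) (S := F) (M := G)).symm
  have hinj := incl_injective (G := G) hMp
  obtain ⟨ê, hê⟩ : ∃ ê : MonoidAlgebra (localSubring M hMp) G, incl hMp ê = e :=
    ⟨lift hMp e he, incl_lift hMp e he⟩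
  obtain ⟨ζ', hζ'⟩ : ∃ ζ' : MonoidAlgebra (localSubring M hMp) G, incl hMp ζ' = ζ :=
    ⟨lift hMp ζ hζ, incl_lift hMp ζ hζ⟩
  obtain ⟨kk, hkk⟩ : ∃ kk : G → MonoidAlgebra (localSubring M hMp) G,
      ∀ g, incl hMp (kk g) = classSum g :=
    ⟨fun g => lift hMp (classSum g) (classSum_mem_intSubring M hMp g),
      fun g => incl_lift hMp _ _⟩
  have h1 : ê * ê = ê := hinj (by rw [map_mul, hê, hee])
  have h2 : ê * ζ' = ζ' := hinj (by rw [map_mul, hê, hζ', heζ])
  have h3 : ζ' * ζ' = (⟨π, memLocalRing_of_memLocalIdeal hπ⟩ : localSubring M hMp) • ζ' :=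
    hinj (by rw [map_mul, hζ', incl_smul, hζ', hζζ])
  have h4 : ∀ g : G, ê * MonoidAlgebra.single g 1 = MonoidAlgebra.single g 1 * ê := by
    intro g
    apply hinj
    rw [map_mul, map_mul, hê, incl_single_one]
    exact ((Subalgebra.mem_center_iff.1 hec) _).symm
  have h5 : ∀ g : G, ζ' * MonoidAlgebra.single g 1 = MonoidAlgebra.single g 1 * ζ' := by
    intro g
    apply hinj
    rw [map_mul, map_mul, hζ', incl_single_one]
    exact ((Subalgebra.mem_center_iff.1 hζc) _).symm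
  -- reduce to the residue field
  obtain ⟨ρ, hρ⟩ : ∃ ρ : MonoidAlgebra (localSubring M hMp) G →+* MonoidAlgebra F G,
      ρ = MonoidAlgebra.mapRingHom G q := ⟨_, rfl⟩
  have hρs : ∀ g : G, ρ (MonoidAlgebra.single g 1) = MonoidAlgebra.single g 1 := by
    intro g
    rw [hρ]
    exact mapRingHom_single_one q g
  have hρsm : ∀ (s : localSubring M hMp) (x : MonoidAlgebra (localSubring M hMp) G),
      ρ (s • x) = q s • ρ x := by
    intro s x
    rw [hρ]
    exact mapRingHom_smul q s x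
  have hρc : ∀ (x : MonoidAlgebra (localSubring M hMp) G) (g : G),
      (ρ x).coeff g = q (x.coeff g) := by
    intro x g
    rw [hρ, MonoidAlgebra.coeff_mapRingHom]
  have hē : ρ ê * ρ ê = ρ ê := by rw [← map_mul, h1]
  have hēc : ∀ x, ρ ê * x = x * ρ ê :=
    central_of_comm_single (ρ ê) fun g => by rw [← hρs, ← map_mul, h4 g, map_mul]
  have hzc : ∀ x, ρ ζ' * x = x * ρ ζ' :=
    central_of_comm_single (ρ ζ') fun g => by rw [← hρs, ← map_mul, h5 g, map_mul]
  have hzē : ρ ê * ρ ζ' = ρ ζ' := by rw [← map_mul, h2]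
  have hz2 : ρ ζ' * ρ ζ' = 0 := by
    rw [← map_mul, h3, hρsm, (hq _).2 hπ, zero_smul]
  have hz0 : ρ ζ' ≠ 0 := by
    intro h
    have h6 := congrArg (fun y : MonoidAlgebra F G => y.coeff g₀) h
    simp only [hρc] at h6
    have h7 : q (ζ'.coeff g₀) = 0 := h6
    rw [hq, ← coeff_incl, hζ'] at h7
    exact hg₀ h7
  have hkc : ∀ g h : G, (kk g).coeff h = 1 ∧ IsConj g h ∨ (kk g).coeff h = 0 ∧ ¬ IsConj g h := by
    intro g h
    rcases coeff_classSum g h with ⟨h8, h9⟩ | ⟨h8, h9⟩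
    · left
      refine ⟨Subtype.ext ?_, h9⟩
      rw [← coeff_incl, hkk, h8]
      rfl
    · right
      refine ⟨Subtype.ext ?_, h9⟩
      rw [← coeff_incl, hkk, h8]
      rfl
  have hκ : ∀ g h : G, (ρ (kk g)).coeff h = 1 ∨ (ρ (kk g)).coeff h = 0 := by
    intro g h
    rw [hρc]
    rcases hkc g h with ⟨h8, -⟩ | ⟨h8, -⟩
    · left
      rw [h8, map_one]
    · right
      rw [h8, map_zero]
  have hκ1 : ∀ g h : G, (ρ (kk g)).coeff h = 1 ↔ IsConj g h := by
    intro g h
    rw [hρc]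
    rcases hkc g h with ⟨h8, h9⟩ | ⟨h8, h9⟩
    · rw [h8, map_one]
      exact ⟨fun _ => h9, fun _ => rfl⟩
    · rw [h8, map_zero]
      exact ⟨fun h10 => absurd h10 zero_ne_one, fun h10 => absurd h10 h9⟩
  have hdec' : ∀ g : G, ∃ a b : F, ρ ê * ρ (kk g) = a • ρ ê + b • ρ ζ' := by
    intro g
    obtain ⟨a, b, ha, hb, hab⟩ := hdec g
    have h8 : ê * kk g = (⟨a, ha⟩ : localSubring M hMp) • ê
        + (⟨b, hb⟩ : localSubring M hMp) • ζ' := by
      apply hinj
      rw [map_mul, map_add, incl_smul, incl_smul, hê, hζ', hkk, hab]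
    refine ⟨q ⟨a, ha⟩, q ⟨b, hb⟩, ?_⟩
    rw [← map_mul, h8, map_add, hρsm, hρsm]
  have hcen := exists_decomp_of_central (ρ ê) (ρ ζ') (fun g => ρ (kk g)) hκ hκ1 hdec'
  obtain ⟨n, hn⟩ := Cfsg.Agent.Lib.Helper75.SymAlg2.block_finrank (lam1 F G) lam1_symm
    lam1_nondeg (ρ ê) (ρ ζ') hē hēc hzc hzē hz2 hz0 hcen
  refine ⟨n, ?_⟩
  rw [← hn, finrank_range_mulLeft, hρ, ← lmat_map q ê]
  symm
  apply Cfsg.Agent.Lib.Helper75.IdemRank.finrank_range_of_idem (localSubring M hMp).subtype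
    Subtype.val_injective q (lmat ê) (by rw [← lmat_mul, h1]) r
  have h9 : (lmat ê).map (localSubring M hMp).subtype = lmat e := by
    rw [lmat_map, ← hê]
    rfl
  rw [h9, trace_lmat, ← Nat.card_eq_fintype_card]
  exact hr

/-- **Brandt**: a block with exactly two irreducible characters has defect groups of order 2. -/
theorem card_two_imp [Finite G] (p : ℕ) [Fact p.Prime] (hM : IsPModular p M)
    (B : Set (IrrCharacter G)) (hB : IsPBlock M B) (D : Subgroup G)
    (hD : IsDefectGroup p M B D) (hcard : Nat.card B = 2) : Nat.card D = 2 := by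
  classical
  have hMp := isPrime_of_isPModular hM
  have hpp : p.Prime := Fact.out
  letI : Fintype G := Fintype.ofFinite G
  haveI := finite_irrCharacter G
  have hnc : B.ncard = 2 := by
    rw [← hcard]
    exact (Nat.card_coe_set_eq B).symm
  obtain ⟨x, y, hxy, hBxy⟩ := Set.ncard_eq_two.1 hnc
  have hne : B.Nonempty := ⟨x, by rw [hBxy]; exact Set.mem_insert _ _⟩
  obtain ⟨e₀, ha, hdvd, ψ, hψB, hψ⟩ :=
    Cfsg.Agent.Lib.Helper75.NumMinMax.exists_defect_data p B hne
  obtain ⟨χ₁, χ₂, hne12, hBeq, hχ₂⟩ : ∃ χ₁ χ₂ : IrrCharacter G, χ₁ ≠ χ₂ ∧ B = {χ₁, χ₂} ∧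
      (charDegree (χ₂ : G → ℂ)).factorization p = e₀ := by
    rw [hBxy] at hψB
    rcases hψB with h | h
    · exact ⟨y, x, hxy.symm, by rw [hBxy, Set.pair_comm], h ▸ hψ⟩
    · exact ⟨x, y, hxy, hBxy, (Set.mem_singleton_iff.1 h) ▸ hψ⟩
  have hχ₁B : χ₁ ∈ B := by rw [hBeq]; exact Set.mem_insert _ _
  have hχ₂B : χ₂ ∈ B := by rw [hBeq]; exact Set.mem_insert_of_mem _ rfl
  obtain ⟨d, hd⟩ : ∃ d, d = blockDefect p B := ⟨_, rfl⟩
  rw [← hd] at ha
  have hd1 : 1 ≤ d := by
    by_contra hcon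
    have hd0 : d = 0 := by omega
    have h1 : (charDegree (χ₂ : G → ℂ)).factorization p = (Nat.card G).factorization p := by
      rw [hχ₂, ha, hd0, add_zero]
    have h2 := Cfsg.Agent.Lib.CT.DefectZeroBlock.blockOf_eq_singleton_of_defect_zero hM χ₂ h1
    have h3 := Cfsg.Agent.Lib.CT.DefectZeroBlock.eq_blockOf_of_mem hMp hB hχ₂B
    rw [h3, h2] at hχ₁B
    exact hne12 hχ₁B
  have hcardD := Cfsg.Agent.Lib.Helper16.Defect.card_defectGroup p hM B hB D hD
  rw [← hd] at hcardD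
  obtain ⟨g₀, hg₀, P, hDP⟩ := hD
  have hCg : (Nat.card (Subgroup.centralizer ({g₀} : Set G))).factorization p = d := by
    have h1 : Nat.card D = Nat.card (P : Subgroup (Subgroup.centralizer ({g₀} : Set G))) := by
      rw [hDP]
      exact Subgroup.card_map_of_injective (Subgroup.subtype_injective _)
    rw [hcardD, Sylow.card_eq_multiplicity] at h1
    exact (Nat.pow_right_injective hpp.two_le h1).symm
  have hf₁ : (charDegree (χ₁ : G → ℂ) : ℂ) = (χ₁ : G → ℂ) 1 :=
    char_natCast_charDegree (isCharacter_of_irr χ₁.2)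
  have hf₂ : (charDegree (χ₂ : G → ℂ) : ℂ) = (χ₂ : G → ℂ) 1 :=
    char_natCast_charDegree (isCharacter_of_irr χ₂.2)
  have hf₂pos : 0 < charDegree (χ₂ : G → ℂ) := irr_charDegree_pos χ₂.2
  have hGpos : 0 < Nat.card G := Nat.card_pos
  have hGne : (Nat.card G : ℂ) ≠ 0 := Nat.cast_ne_zero.mpr hGpos.ne'
  have hpne : (p : ℂ) ^ d ≠ 0 := pow_ne_zero _ (Nat.cast_ne_zero.mpr hpp.ne_zero)
  obtain ⟨e, he⟩ : ∃ e, e = blockIdem B := ⟨_, rfl⟩
  obtain ⟨ζ, hζ⟩ : ∃ ζ, ζ = ((p : ℂ) ^ d) • blockIdem ({χ₂} : Set (IrrCharacter G)) :=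
    ⟨_, rfl⟩
  have hec : e ∈ Zc G := he ▸ blockIdem_mem_center B
  have hζc : ζ ∈ Zc G := by
    rw [hζ]
    exact Subalgebra.smul_mem _ (blockIdem_mem_center _) _
  have hωe : ∀ ψ : IrrCharacter G, omega (ψ : G → ℂ) e = if ψ ∈ B then 1 else 0 := by
    intro ψ
    rw [he, omega_blockIdem]
  have hωζ : ∀ ψ : IrrCharacter G,
      omega (ψ : G → ℂ) ζ = if ψ = χ₂ then (p : ℂ) ^ d else 0 := by
    intro ψ
    rw [hζ, omega_smul, omega_blockIdem]
    by_cases h : ψ = χ₂
    · rw [if_pos h, if_pos (Set.mem_singleton_iff.2 h), mul_one]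
    · rw [if_neg h, if_neg (fun h' => h (Set.mem_singleton_iff.1 h')), mul_zero]
  have hee : e * e = e := by
    apply eq_of_omega_eq _ _ (Subalgebra.mul_mem _ hec hec) hec
    intro ψ
    rw [omega_mul ψ.2 e e hec, hωe]
    split_ifs <;> simp
  have heζ : e * ζ = ζ := by
    apply eq_of_omega_eq _ _ (Subalgebra.mul_mem _ hec hζc) hζc
    intro ψ
    rw [omega_mul ψ.2 e ζ hec, hωe, hωζ]
    by_cases h : ψ = χ₂
    · rw [if_pos h, if_pos (h ▸ hχ₂B), one_mul]
    · rw [if_neg h, mul_zero]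
  have hζζ : ζ * ζ = ((p : ℂ) ^ d) • ζ := by
    apply eq_of_omega_eq _ _ (Subalgebra.mul_mem _ hζc hζc) (Subalgebra.smul_mem _ hζc _)
    intro ψ
    rw [omega_mul ψ.2 ζ ζ hζc, omega_smul, hωζ]
    split_ifs <;> simp
  have hdecC : ∀ g : G, e * classSum g = centralChar (χ₁ : G → ℂ) g • e +
      ((centralChar (χ₂ : G → ℂ) g - centralChar (χ₁ : G → ℂ) g) / (p : ℂ) ^ d) • ζ := by
    intro g
    apply eq_of_omega_eq _ _ (Subalgebra.mul_mem _ hec (classSum_mem_center g))
      (Subalgebra.add_mem _ (Subalgebra.smul_mem _ hec _) (Subalgebra.smul_mem _ hζc _))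
    intro ψ
    rw [omega_mul ψ.2 e _ hec, omega_add, omega_smul, omega_smul, hωe, hωζ,
      omega_classSum _ (fun x k => char_isClassFunction (isCharacter_of_irr ψ.2) k x) g]
    by_cases h2 : ψ = χ₂
    · rw [if_pos h2, if_pos (h2 ▸ hχ₂B), h2]
      field_simp
      ring
    · rw [if_neg h2, mul_zero, add_zero]
      by_cases h1 : ψ ∈ B
      · have h3 : ψ = χ₁ := by
          rw [hBeq] at h1
          rcases h1 with h | h
          · exact h
          · exact absurd (Set.mem_singleton_iff.1 h) h2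
        rw [if_pos h1, h3, one_mul, mul_one]
      · rw [if_neg h1, zero_mul, mul_zero]
  -- integrality
  have he_int : e ∈ intSubring M hMp := he ▸ blockIdem_mem_intSubring hMp B hB
  have hζcoeff : ∀ g : G, ζ.coeff g = ((p ^ d * charDegree (χ₂ : G → ℂ) : ℕ) : ℂ)
      / ((Nat.card G : ℕ) : ℂ) * (χ₂ : G → ℂ) g⁻¹ := by
    intro g
    rw [hζ, MonoidAlgebra.coeff_smul, Finsupp.smul_apply, coeff_blockIdem,
      Cfsg.Agent.Lib.CT.DefectZeroBlock.blockCoeff_singleton,
      char_apply_inv (isCharacter_of_irr χ₂.2), smul_eq_mul]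
    push_cast
    rw [hf₂]
    field_simp
  have hζ_int : ζ ∈ intSubring M hMp := by
    intro g
    rw [hζcoeff]
    refine memLocalRing_mul hMp ?_ (memLocalRing_of_isIntegral hMp
      (Cfsg.Agent.Lib.Helper80.Integrality.isIntegral_irrCharacter χ₂ g⁻¹))
    apply Cfsg.Agent.Lib.Helper16.Defect.natCast_div_memLocalRing hM _ _ hGpos.ne'
    rw [ha, pow_add, mul_comm]
    exact mul_dvd_mul_left _ (hdvd χ₂ hχ₂B)
  have hπ : MemLocalIdeal M ((p : ℂ) ^ d) := by
    have h1 : MemLocalIdeal M ((p ^ d : ℕ) : ℂ) :=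
      memLocalIdeal_natCast_of_dvd hM (dvd_pow_self p (by omega))
    rwa [Nat.cast_pow] at h1
  have hg₀' : ¬ MemLocalIdeal M (ζ.coeff g₀⁻¹) := by
    obtain ⟨c, hc⟩ : ∃ c, c = Nat.card (Subgroup.centralizer ({g₀} : Set G)) := ⟨_, rfl⟩
    have hcpos : 0 < c := by rw [hc]; exact Nat.card_pos
    have hic : (Subgroup.centralizer ({g₀} : Set G)).index * c = Nat.card G := by
      rw [hc]
      exact Subgroup.index_mul_card _
    have hicC : ((Subgroup.centralizer ({g₀} : Set G)).index : ℂ) * (c : ℂ) = (Nat.card G : ℂ) := by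
      rw [← Nat.cast_mul, hic]
    have hcne : (c : ℂ) ≠ 0 := Nat.cast_ne_zero.mpr hcpos.ne'
    have hf₂ne : (charDegree (χ₂ : G → ℂ) : ℂ) ≠ 0 := Nat.cast_ne_zero.mpr hf₂pos.ne'
    have h1 : ζ.coeff g₀⁻¹ = ((p ^ d * charDegree (χ₂ : G → ℂ) ^ 2 * c : ℕ) : ℂ)
        / ((Nat.card G ^ 2 : ℕ) : ℂ) * centralChar (χ₂ : G → ℂ) g₀ := by
      rw [hζcoeff, inv_inv]
      unfold centralChar
      rw [← hf₂]
      push_cast
      rw [← hicC]
      have hine : ((Subgroup.centralizer ({g₀} : Set G)).index : ℂ) ≠ 0 := by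
        intro h0
        rw [h0, zero_mul] at hicC
        exact hGne hicC.symm
      field_simp
    rw [h1]
    have hp0 : 0 < p := hpp.pos
    have hpd0 : p ^ d ≠ 0 := (pow_pos hp0 d).ne'
    have hf20 : charDegree (χ₂ : G → ℂ) ^ 2 ≠ 0 := (pow_pos hf₂pos 2).ne'
    have hu := Cfsg.Agent.Lib.Helper75.SepClasses.natCast_div_unit hM
      (p ^ d * charDegree (χ₂ : G → ℂ) ^ 2 * c) (Nat.card G ^ 2)
      (mul_ne_zero (mul_ne_zero hpd0 hf20) hcpos.ne') (pow_pos hGpos 2).ne' (by
        rw [Nat.factorization_mul (mul_ne_zero hpd0 hf20) hcpos.ne',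
          Nat.factorization_mul hpd0 hf20, Nat.factorization_pow,
          Nat.factorization_pow, Nat.factorization_pow]
        simp only [Finsupp.coe_add, Finsupp.coe_smul, Pi.add_apply, Pi.smul_apply, smul_eq_mul]
        rw [hpp.factorization_self, hχ₂, ha, hc, hCg]
        ring)
    exact not_memLocalIdeal_mul hMp hu.1 hu.2 (hg₀.2.2 χ₂ hχ₂B)
  have hc0 : ζ.coeff g₀⁻¹ ≠ 0 := by
    intro h0
    rw [h0] at hg₀'
    exact hg₀' (memLocalIdeal_zero hMp)
  have hdec : ∀ g : G, ∃ a b : ℂ, MemLocalRing M a ∧ MemLocalRing M b ∧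
      e * classSum g = a • e + b • ζ := by
    intro g
    have ha1 : MemLocalRing M (centralChar (χ₁ : G → ℂ) g) :=
      memLocalRing_of_isIntegral hMp
        (Cfsg.Agent.Lib.Helper80.Integrality.isIntegral_centralChar χ₁ g)
    refine ⟨_, _, ha1, ?_, hdecC g⟩
    have h1 : ((centralChar (χ₂ : G → ℂ) g - centralChar (χ₁ : G → ℂ) g) / (p : ℂ) ^ d) • ζ
        = e * classSum g - centralChar (χ₁ : G → ℂ) g • e := by
      rw [hdecC g, add_sub_cancel_left]
    have h2 : ((centralChar (χ₂ : G → ℂ) g - centralChar (χ₁ : G → ℂ) g) / (p : ℂ) ^ d) • ζ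
        ∈ intSubring M hMp := by
      rw [h1]
      exact Subring.sub_mem _ (Subring.mul_mem _ he_int (classSum_mem_intSubring M hMp g))
        (smul_mem_intSubring M hMp ha1 he_int)
    have h3 := h2 g₀⁻¹
    rw [MonoidAlgebra.coeff_smul, Finsupp.smul_apply, smul_eq_mul] at h3
    have h4 := memLocalRing_mul hMp h3 (memLocalRing_inv (hζ_int g₀⁻¹) hg₀')
    rwa [mul_assoc, mul_inv_cancel₀ hc0, mul_one] at h4
  have hr : (Nat.card G : ℂ) * e.coeff 1 =
      ((charDegree (χ₁ : G → ℂ) ^ 2 + charDegree (χ₂ : G → ℂ) ^ 2 : ℕ) : ℂ) := by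
    rw [he, coeff_blockIdem]
    unfold blockCoeff
    rw [hBeq, finsum_mem_pair hne12, ← hf₁, ← hf₂, Complex.conj_natCast, Complex.conj_natCast]
    push_cast
    field_simp
  obtain ⟨n, hn⟩ := dim_of_data p hM e ζ he_int hζ_int hec hζc hee heζ _ hπ hζζ g₀⁻¹ hg₀' hdec
    _ hr
  obtain ⟨hp2, hd1'⟩ := Cfsg.Agent.Lib.Helper75.TwoCharNum.main_num p hM B hB χ₁ χ₂ hne12 hBeq
    n hn
  rw [hcardD, hp2, hd, hd1', pow_one]

/-- A block of a group with a central involution `z` contains a character with `z` in its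
kernel. -/
theorem exists_trivial {H : Type u} [Group H] [Finite H] (hM : IsPModular 2 M) (z : H)
    (hz : orderOf z = 2) (hzc : ∀ c : H, z * c = c * z) (b : Set (IrrCharacter H))
    (hb : IsPBlock M b) : ∃ θ ∈ b, (θ : H → ℂ) z = (θ : H → ℂ) 1 := by
  classical
  haveI : Fact (Nat.Prime 2) := ⟨Nat.prime_two⟩
  have hMp := isPrime_of_isPModular hM
  by_contra hcon
  push Not at hcon
  have hs : ∀ θ ∈ b, ∀ c : H, (θ : H → ℂ) (z * c) = -(θ : H → ℂ) c := by
    intro θ hθ c
    obtain ⟨s, hs1, hs2⟩ := Cfsg.Agent.Lib.Helper75.DefOne.exists_sign z hz hzc θ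
    rcases hs1 with h | h
    · exfalso
      apply hcon θ hθ
      have h0 := hs2 1
      rwa [mul_one, h, one_mul] at h0
    · rw [hs2 c, h, neg_one_mul]
  have h1 : ∀ c : H, blockCoeff b (z * c) = - blockCoeff b c := by
    intro c
    unfold blockCoeff
    haveI := finite_irrCharacter H
    rw [← mul_neg, ← finsum_mem_neg_distrib _ (Set.toFinite b)]
    congr 1
    refine finsum_mem_congr rfl fun θ hθ => ?_
    rw [hs θ hθ c, map_neg, mul_neg]
  have h2 : ∀ c : H, blockCoeff b c = 0 := by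
    intro c
    by_cases hc : 2 ∣ orderOf c
    · exact Cfsg.Agent.Lib.Helper77.OsimaVanish.blockCoeff_eq_zero_of_singular 2 M hM b hb c hc
    · have h3 := Cfsg.Agent.Lib.Helper77.OsimaVanish.blockCoeff_eq_zero_of_singular 2 M hM b hb
        (z * c) (Cfsg.Agent.Lib.Helper75.DefOne.singular_mul hz (hzc c) hc)
      rw [h1 c, neg_eq_zero] at h3
      exact h3
  obtain ⟨θ, hθ⟩ := Cfsg.Agent.Lib.CT.DefectZeroBlock.isPBlock_nonempty hMp hb
  have h4 := omega_blockIdem b θ
  rw [if_pos hθ] at h4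
  have h5 : blockIdem b = 0 := by
    unfold blockIdem
    rw [show blockCoeff b = 0 from funext h2, ofFun_zero]
  rw [h5, omega_zero] at h4
  exact zero_ne_one h4

/-- A block with defect groups of order two has exactly two irreducible characters. -/
theorem card_two_conv [Finite G] (p : ℕ) [Fact p.Prime] (hM : IsPModular p M)
    (B : Set (IrrCharacter G)) (hB : IsPBlock M B) (D : Subgroup G)
    (hD : IsDefectGroup p M B D) (hcard : Nat.card D = 2) : Nat.card B = 2 := by
  have hpp : p.Prime := Fact.out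
  have hcardD := Cfsg.Agent.Lib.Helper16.Defect.card_defectGroup p hM B hB D hD
  have hp2 : p = 2 := by
    rw [hcard] at hcardD
    have h1 : p ∣ 2 := by
      rw [hcardD]
      apply dvd_pow_self
      intro h0
      rw [h0, pow_zero] at hcardD
      omega
    exact (Nat.prime_dvd_prime_iff_eq hpp Nat.prime_two).1 h1
  subst hp2
  obtain ⟨x, hxD, hx1⟩ : ∃ x ∈ D, x ≠ 1 := by
    by_contra hcon
    push Not at hcon
    have h0 : D = ⊥ := (Subgroup.eq_bot_iff_forall D).2 hcon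
    rw [h0, Subgroup.card_bot] at hcard
    omega
  have hx : orderOf x = 2 := by
    have h1 : orderOf x ∣ 2 := by
      rw [← hcard]
      have h0 := orderOf_dvd_natCard (⟨x, hxD⟩ : D)
      rwa [Subgroup.orderOf_mk] at h0
    rcases (Nat.dvd_prime Nat.prime_two).1 h1 with h | h
    · exact absurd (orderOf_eq_one_iff.1 h) hx1
    · exact h
  have hDx : Subgroup.zpowers x = D := by
    apply Subgroup.eq_of_le_of_card_ge (Subgroup.zpowers_le.2 hxD)
    rw [Nat.card_zpowers, hx, hcard]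
  rw [← hDx] at hD
  obtain ⟨b, hbD, hb⟩ := Cfsg.Agent.Lib.CT.KnRel.exists_block_of_eq_normalizer 2 hM
    (Subgroup.zpowers x) (Subgroup.centralizer ({x} : Set G))
    (Cfsg.Agent.Lib.Helper75.DefOne2.centralizer_eq_normalizer hx) B hB hD
  obtain ⟨θ, hθ, hθx⟩ := exists_trivial hM (Cfsg.Agent.Lib.Helper75.DefOne2.xc x)
    (by rw [Cfsg.Agent.Lib.Helper75.DefOne2.orderOf_xc, hx])
    (Cfsg.Agent.Lib.Helper75.DefOne2.xc_mul x) b hb.1
  exact (Cfsg.Agent.Lib.Helper75.DefOne2.main M hM x hx B hB hD b hb θ hθ hθx).1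

end Cfsg.Agent.Lib.Helper75.TwoChar
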